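import Cfsg.Agent.Lib.HallJanko.OrbitalData

/-! Checks for primitivity. -/

set_option autoImplicit false

namespace Cfsg.Agent.HJ

open V8

/-- An orbital is connected: each entry joins a new line to one already reached. -/
def closeOK (O : List ℕ) : List ℕ → List (ℕ × ℕ × ℕ × List ℕ) → Bool
  | seen, [] => allIdx fun x => decide (x ∈ seen)
  | seen, (v, z, y, w) :: r => decide (z ∈ seen) && decide (y ∈ O) && w.all (fun k => decide (k < 4)) &&
      decide (awN w 0 = z) && decide (awN w y = v) && closeOK O (v :: seen) r

/-- The data of the five suborbits. -/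
def subData : List (ℕ × List (ℕ × List ℕ) × List (ℕ × ℕ × ℕ × List ℕ)) :=
  [(1, suborb0, orbital0), (3, suborb1, orbital1), (83, suborb2, orbital2), (243, suborb3, orbital3),
    (275, suborb4, orbital4)]

theorem sub_check : (subData.all fun d => decide (d.1 < 315) && certOK d.2.1 [0] d.1 &&
    closeOK (d.2.1.map Prod.fst) [0] d.2.2) = true := by decide +kernel

theorem sub_cover : allIdx (fun x => decide (x = 0) ||
    subData.any fun d => decide (x ∈ d.2.1.map Prod.fst)) = true := by decide +kernel

theorem noncomm_check : gtN 0 (gtN 2 0) ≠ gtN 2 0 := by decide +kernel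

theorem sigma_check : allIdx (fun m => decide (m = 0) ||
    !(decide (reflV (rep m) (rep 0) = rep 0) &&
      decide (reflV (rep m) (rep 1) = smulV ⟨-4, 0, 0, 0, 0, 0, 0, 0⟩ (rep 1)) &&
      decide (reflV (rep m) (rep 2) = smulV ⟨-4, 0, 0, 0, 0, 0, 0, 0⟩ (rep 2)))) = true := by
  decide +kernel

end Cfsg.Agent.HJ
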