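import Cfsg.Agent.Lib.HallJanko.Order
import Cfsg.Agent.Lib.HallJanko.SimpleChecks

/-!
# Simplicity of the group on the lines
-/

set_option autoImplicit false

namespace Cfsg.Agent.HJ

open Quaternion Cfsg.Spor V8

theorem sigma_sq (i : Fin 315) : sigma i * sigma i = 1 := by
  rw [sigma, ← map_mul, ← map_one phi]
  exact congrArg phi (Subtype.ext (refl_sq (good_rv i)))

theorem sigma_inv (i : Fin 315) : (sigma i)⁻¹ = sigma i := inv_eq_of_mul_eq_one_right (sigma_sq i)

theorem sigma_third : sigma 0 * sigma 1 = sigma 2 := by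
  have h : phi negT = 1 := MonoidHom.mem_ker.1 (phi_ker.symm ▸ negT_mem_center)
  rw [negT, map_mul, map_mul] at h
  exact (eq_inv_of_mul_eq_one_left h).trans (sigma_inv 2)

theorem closeOK_spec {O : List ℕ} {r : Fin 315 → Prop}
    (step : ∀ (w : List (Fin 4)) (y : Fin 315), (y : ℕ) ∈ O → r (wP w 0) → r (wP w y)) :
    ∀ (cert : List (ℕ × ℕ × ℕ × List ℕ)) (seen : List ℕ), (∀ x : Fin 315, (x : ℕ) ∈ seen → r x) →
      (∀ y ∈ O, y < 315) → closeOK O seen cert = true → ∀ x, r x
  | [], seen, hs, _, h, x => hs x (of_decide_eq_true (allIdx_spec h x.2))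
  | (v, z, y, w) :: rest, seen, hs, hO, h, x => by
    simp only [closeOK, Bool.and_eq_true, decide_eq_true_eq, List.all_eq_true] at h
    obtain ⟨⟨⟨⟨⟨hz, hy⟩, h4⟩, h0⟩, hv⟩, hrest⟩ := h
    refine closeOK_spec step rest (v :: seen) (fun a ha => ?_) hO hrest x
    rcases List.mem_cons.1 ha with ha | ha
    · let yy : Fin 315 := ⟨y, hO y hy⟩
      have e0 : (wP (toWord w) 0 : ℕ) = z := (wP_toWord w h4 0).trans h0
      have ey : (wP (toWord w) yy : ℕ) = v := (wP_toWord w h4 yy).trans hv
      have := step (toWord w) yy hy (hs _ (e0 ▸ hz))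
      rwa [show a = wP (toWord w) yy from Fin.ext (ha.trans ey.symm)]
    · exact hs a ha

theorem cert_lt {cert : List (ℕ × List ℕ)} {fix : List ℕ} {root : Fin 315}
    (h : certOK cert fix root = true) : ∀ y ∈ cert.map Prod.fst, y < 315 := by
  intro y hy
  obtain ⟨⟨a, l⟩, he, rfl⟩ := List.mem_map.1 hy
  have := List.all_eq_true.1 h _ he
  simp only [Bool.and_eq_true, List.all_eq_true, decide_eq_true_eq] at this
  obtain ⟨⟨h4, hr⟩, -⟩ := this
  rw [← hr, ← wP_toWord l h4 root]
  exact (wP (toWord l) root).2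

/-- An invariant equivalence relation joining 0 to another line is universal. -/
theorem orbital_universal {r : Fin 315 → Fin 315 → Prop} (hr : ∀ x, r x x)
    (htrans : ∀ x y z, r x y → r y z → r x z)
    (hinv : ∀ g ∈ P, ∀ x y, r x y → r (g x) (g y)) {y : Fin 315} (hy : y ≠ 0) (h : r 0 y) :
    ∀ x, r 0 x := by
  have hc := allIdx_spec sub_cover y.2
  have hy' : (y : ℕ) ≠ 0 := fun e => hy (Fin.ext e)
  simp only [hy', decide_false, Bool.false_or, List.any_eq_true, decide_eq_true_eq] at hc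
  obtain ⟨⟨b, O, cert⟩, hd, hm⟩ := hc
  have hs := List.all_eq_true.1 sub_check _ hd
  simp only [Bool.and_eq_true, decide_eq_true_eq] at hs
  obtain ⟨⟨hb, hcert⟩, hclose⟩ := hs
  have hcert' : certOK O [0] ((⟨b, hb⟩ : Fin 315) : ℕ) = true := hcert
  obtain ⟨w, hw, hf⟩ := cert_spec hcert' hm
  have hwf : wP w 0 = 0 := hf 0 (by simp)
  have hbase : r 0 ⟨b, hb⟩ := by
    have := hinv _ (inv_mem (wP_mem w)) 0 y h
    rwa [← hw, perm_inv_self, show (wP w)⁻¹ 0 = 0 by conv_lhs => rw [← hwf, perm_inv_self]] at this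
  have hall : ∀ z : Fin 315, (z : ℕ) ∈ O.map Prod.fst → r 0 z := by
    intro z hz
    obtain ⟨v, hv, hvf⟩ := cert_spec hcert' hz
    have := hinv _ (wP_mem v) 0 _ hbase
    rwa [hv, hvf 0 (by simp)] at this
  refine closeOK_spec (r := fun x => r 0 x) (fun v z hz h0 => ?_) cert [0] ?_ (cert_lt hcert') hclose
  · exact htrans _ _ _ h0 (hinv _ (wP_mem v) 0 z (hall z hz))
  · intro x hx
    obtain rfl : x = 0 := Fin.ext (by simpa using hx)
    exact hr 0

theorem eq_top_of_normal (N : Subgroup P) [hN : N.Normal] (hne : N ≠ ⊥) : N = ⊤ := by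
  let s : Fin 315 → P := fun i => ⟨sigma i, sigma_mem i⟩
  have ssq : ∀ i, s i * s i = 1 := fun i => Subtype.ext (sigma_sq i)
  have sinv : ∀ i, (s i)⁻¹ = s i := fun i => inv_eq_of_mul_eq_one_right (ssq i)
  have sconj : ∀ (g : P) (i : Fin 315), g * s i * g⁻¹ = s ((g : Equiv.Perm (Fin 315)) i) := fun g i =>
    Subtype.ext (conj_sigma g.2 i)
  let r : Fin 315 → Fin 315 → Prop := fun x y => s x * s y ∈ N
  have hr : ∀ x, r x x := fun x => by simp only [r, ssq]; exact one_mem N
  have htrans : ∀ x y z, r x y → r y z → r x z := fun x y z a b => by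
    have := mul_mem a b
    rwa [mul_assoc, ← mul_assoc (s y) (s y), ssq, one_mul] at this
  have hinv : ∀ g ∈ P, ∀ x y, r x y → r (g x) (g y) := fun g hg x y a => by
    have := hN.conj_mem _ a ⟨g, hg⟩
    show s (g x) * s (g y) ∈ N
    rw [← sconj ⟨g, hg⟩ x, ← sconj ⟨g, hg⟩ y]
    convert this using 1
    group
  obtain ⟨n, hn, hn1⟩ := N.bot_or_exists_ne_one.resolve_left hne
  obtain ⟨x, hx⟩ : ∃ x, (n : Equiv.Perm (Fin 315)) x ≠ x := by
    by_contra hc
    push Not at hc
    exact hn1 (Subtype.ext (Equiv.ext hc))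
  have h1 : r ((n : Equiv.Perm (Fin 315)) x) x := by
    have := mul_mem hn (hN.conj_mem _ (inv_mem hn) (s x))
    show s ((n : Equiv.Perm (Fin 315)) x) * s x ∈ N
    rw [← sconj n x]
    convert this using 1
    rw [sinv]; group
  obtain ⟨g, hg, e⟩ := transitive ((n : Equiv.Perm (Fin 315)) x) 0
  have h2 := hinv g hg _ _ h1
  rw [e] at h2
  have hne0 : g x ≠ 0 := fun h => hx (g.injective (e.trans h.symm))
  have hall := orbital_universal hr htrans hinv hne0 h2
  have s2 : s 2 ∈ N := by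
    have := hall 1
    have e2 : s 0 * s 1 = s 2 := Subtype.ext sigma_third
    rwa [show r 0 1 = (s 0 * s 1 ∈ N) from rfl, e2] at this
  have hs : ∀ i, s i ∈ N := fun i => by
    have a := hall i
    have b := hall 2
    have c : s 0 ∈ N := by
      have := mul_mem b s2
      rwa [mul_assoc, ssq, mul_one] at this
    have := mul_mem c a
    rwa [← mul_assoc, ssq, one_mul] at this
  refine eq_top_iff.2 fun q _ => ?_
  obtain ⟨q, hq⟩ := q
  induction hq using Subgroup.closure_induction with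
  | mem a ha =>
      obtain ⟨k, rfl⟩ := ha
      have := hs (gi k)
      rwa [show s (gi k) = ⟨gperm k, mem_P k⟩ from Subtype.ext (sigma_gi k)] at this
  | one => exact one_mem N
  | mul a b _ _ ha hb => exact mul_mem (ha trivial) (hb trivial)
  | inv a _ ha => exact inv_mem (ha trivial)

theorem gperm_noncomm : gperm 0 * gperm 2 ≠ gperm 2 * gperm 0 := by
  intro h
  have := congrArg (fun p : Equiv.Perm (Fin 315) => ((p 0 : Fin 315) : ℕ)) h
  simp only [Equiv.Perm.mul_apply, gperm_apply] at this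
  have h0 : gtN 0 0 = 0 := by decide +kernel
  exact noncomm_check (by simpa [h0] using this)

theorem isSimple_P : IsSimpleGroup P where
  exists_pair_ne := ⟨1, ⟨gperm 0, mem_P 0⟩, fun h => gperm_noncomm (by
    rw [← show (1 : Equiv.Perm (Fin 315)) = gperm 0 from congrArg Subtype.val h, one_mul, mul_one])⟩
  eq_bot_or_eq_top_of_normal N hN := (em (N = ⊥)).imp id (eq_top_of_normal N (hN := hN))

theorem isSimple_J2 : IsSimpleGroup J2 :=
  haveI := isSimple_P
  haveI : Nontrivial J2 := isoP.toEquiv.nontrivial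
  IsSimpleGroup.isSimpleGroup_of_surjective isoP.symm.toMonoidHom isoP.symm.surjective

end Cfsg.Agent.HJ
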