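import Mathlib

/-! Homomorphisms determined by a functional relation on generators. -/

set_option autoImplicit false

namespace Cfsg.Agent.HJ

variable {X Y ι : Type*} [Group X] [Group Y]

theorem exists_rel_of_mem {Rel : X → Y → Prop} (gen : ι → X) (im : ι → Y) (h1 : Rel 1 1)
    (hmul : ∀ x x' y y', Rel x y → Rel x' y' → Rel (x * x') (y * y'))
    (hinv : ∀ x y, Rel x y → Rel x⁻¹ y⁻¹) (hgen : ∀ i, Rel (gen i) (im i))
    {x : X} (hx : x ∈ Subgroup.closure (Set.range gen)) :
    ∃ y ∈ Subgroup.closure (Set.range im), Rel x y := by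
  induction hx using Subgroup.closure_induction with
  | mem a ha => obtain ⟨i, rfl⟩ := ha; exact ⟨im i, Subgroup.subset_closure ⟨i, rfl⟩, hgen i⟩
  | one => exact ⟨1, one_mem _, h1⟩
  | mul a b _ _ ha hb =>
      obtain ⟨p, hp, ea⟩ := ha
      obtain ⟨q, hq, eb⟩ := hb
      exact ⟨p * q, mul_mem hp hq, hmul _ _ _ _ ea eb⟩
  | inv a _ ha =>
      obtain ⟨p, hp, ea⟩ := ha
      exact ⟨p⁻¹, inv_mem hp, hinv _ _ ea⟩

/-- A functional relation closed under the group operations gives a homomorphism onto the group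
generated by the images of the generators. -/
theorem exists_hom_of_rel (Rel : X → Y → Prop) (gen : ι → X) (im : ι → Y) (h1 : Rel 1 1)
    (hmul : ∀ x x' y y', Rel x y → Rel x' y' → Rel (x * x') (y * y'))
    (hinv : ∀ x y, Rel x y → Rel x⁻¹ y⁻¹) (huniq : ∀ x y y', Rel x y → Rel x y' → y = y')
    (hgen : ∀ i, Rel (gen i) (im i)) :
    ∃ f : Subgroup.closure (Set.range gen) →* Y,
      (∀ x, Rel x.1 (f x)) ∧ f.range = Subgroup.closure (Set.range im) := by
  have ex : ∀ x : Subgroup.closure (Set.range gen), ∃ y ∈ Subgroup.closure (Set.range im), Rel x.1 y :=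
    fun x => exists_rel_of_mem gen im h1 hmul hinv hgen x.2
  choose f hfm hf using ex
  let F : Subgroup.closure (Set.range gen) →* Y :=
    { toFun := f
      map_one' := huniq _ _ _ (hf 1) h1
      map_mul' := fun a b => huniq _ _ _ (hf (a * b)) (hmul _ _ _ _ (hf a) (hf b)) }
  refine ⟨F, hf, le_antisymm ?_ ((Subgroup.closure_le _).2 ?_)⟩
  · rintro _ ⟨x, rfl⟩; exact hfm x
  · rintro _ ⟨i, rfl⟩
    exact ⟨⟨gen i, Subgroup.subset_closure ⟨i, rfl⟩⟩, huniq _ _ _ (hf _) (hgen i)⟩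

theorem card_ge_orbit_chain {α : Type*} [Finite α] (H : Subgroup (Equiv.Perm α)) (a : α) (O : Finset α)
    (h2 : ∀ x ∈ O, ∃ g ∈ H, g a = x) :
    O.card * Nat.card (H ⊓ MulAction.stabilizer (Equiv.Perm α) a : Subgroup (Equiv.Perm α)) ≤
      Nat.card H := by
  have e : Nat.card (MulAction.stabilizer H a) =
      Nat.card (H ⊓ MulAction.stabilizer (Equiv.Perm α) a : Subgroup (Equiv.Perm α)) :=
    Nat.card_congr
      { toFun := fun g => ⟨g.1.1, g.1.2, g.2⟩
        invFun := fun g => ⟨⟨g.1, g.2.1⟩, g.2.2⟩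
        left_inv := fun _ => rfl
        right_inv := fun _ => rfl }
  rw [← e, ← Subgroup.index_mul_card (MulAction.stabilizer H a), MulAction.index_stabilizer,
    ← Set.ncard_coe_finset]
  refine Nat.mul_le_mul_right _ (Set.ncard_le_ncard ?_ (Set.toFinite _))
  intro x hx
  obtain ⟨g, hg, rfl⟩ := h2 x hx
  exact ⟨⟨g, hg⟩, rfl⟩

end Cfsg.Agent.HJ
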