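import Cfsg.Agent.Lib.HallJanko.HundredData
import Cfsg.Agent.Lib.HallJanko.HomBuilder

/-! The 100 sets of 63 lines: computations. -/

set_option autoImplicit false

namespace Cfsg.Agent.HJ

/-- The bit mask of set `i`. -/
def maskN (i : ℕ) : ℕ := maskTab.getD i 0

/-- The action of a generator on the 100 sets. -/
def htN (k i : ℕ) : ℕ := (hundTab.getD k 0 >>> (7 * i)) &&& 127

/-- The action of a word on the 100 sets. -/
def hwN : List ℕ → ℕ → ℕ
  | [], x => x
  | k :: w, x => htN k (hwN w x)

/-- The action of a subgroup generator on the 63 lines. -/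
def stN (k x : ℕ) : ℕ := (sixtyTab.getD k 0 >>> (6 * x)) &&& 63

/-- The action of a word in the subgroup generators on the 63 lines. -/
def swN : List ℕ → ℕ → ℕ
  | [], x => x
  | k :: w, x => stN k (swN w x)

/-- Expand a word in the subgroup generators. -/
def hExp (w : List ℕ) : List ℕ := w.flatMap fun k => hWords.getD k []

/-- A line of the base set. -/
def s63N (x : ℕ) : ℕ := s63Tab.getD x 0

/-- Set `i` as a finset. -/
def setOf (i : ℕ) : Finset (Fin 315) := Finset.univ.filter fun x => Nat.testBit (maskN i) x

end Cfsg.Agent.HJ
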