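import Cfsg.Agent.Lib.HallJanko.HundredDefs
import Cfsg.Agent.Lib.U33.Model

/-!
# The unitary group of dimension three over the field of nine elements on 63 points
-/

set_option autoImplicit false

namespace Cfsg.Agent.HJ

open Matrix Cfsg.Agent.TwoConjBound.U3

/-- Primality of three. -/
instance factThree : Fact (Nat.Prime 3) := ⟨Nat.prime_three⟩

/-- The polynomial `X² - 2` has no root. -/
instance factK9 : Fact (∀ r : ZMod 3, r ^ 2 ≠ 2 + 0 * r) := ⟨by decide⟩

/-- The field with nine elements. -/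
abbrev E9 : Type := S3438.K9

theorem card_E9 : Fintype.card E9 = 3 ^ 2 := S3438.card_K9

/-- Decode a pair. -/
def dec (p : ℕ × ℕ) : E9 := ⟨(p.1 : ZMod 3), (p.2 : ZMod 3)⟩

/-- A point. -/
def upt (i : Fin 63) : Fin 3 → E9 := fun r => dec ((uPts.getD i []).getD r (0, 0))

/-- A unitary reflection. -/
def umat (k : Fin 4) : Matrix (Fin 3) (Fin 3) E9 :=
  Matrix.of fun r c => dec (((uMats.getD k []).getD r []).getD c (0, 0))

/-- The scalar by which a reflection moves a point onto the next. -/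
def usc (k : Fin 4) (i : Fin 63) : E9 := dec ((uScal.getD k []).getD i (0, 0))

/-- The permutation of the 63 points by generator `k`, as a function. -/
def sfun (k : Fin 4) (i : Fin 63) : Fin 63 := ⟨stN k i % 63, Nat.mod_lt _ (by norm_num)⟩

theorem umat_check : ∀ k : Fin 4, (umat k).det = 1 ∧
    (umat k).transpose * (umat k).map (fun x => x * x * x) = 1 := by
  intro k
  fin_cases k <;> simp only [Matrix.det_fin_three] <;> decide +kernel

theorem sfun_check : ∀ k : Fin 4, ∀ i : Fin 63, sfun k (sfun k i) = i ∧ usc k i ≠ 0 ∧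
    (∀ r : Fin 3, umat k r 0 * upt i 0 + umat k r 1 * upt i 1 + umat k r 2 * upt i 2 =
      usc k i * upt (sfun k i) r) := by decide +kernel

theorem upts_check : ∀ i : Fin 63, (upt i 0 = 1 ∨ (upt i 0 = 0 ∧ (upt i 1 = 1 ∨ (upt i 1 = 0 ∧ upt i 2 = 1)))) ∧
    (∀ j : Fin 63, (∀ r, upt i r = upt j r) → i = j) := by decide +kernel

/-- A generator on the 63 points. -/
def sperm (k : Fin 4) : Equiv.Perm (Fin 63) where
  toFun := sfun k
  invFun := sfun k
  left_inv i := (sfun_check k i).1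
  right_inv i := (sfun_check k i).1

theorem preserves_of (A : Matrix (Fin 3) (Fin 3) E9)
    (hA : A.transpose * A.map (fun x => x * x * x) = 1) (u v : Fin 3 → E9) :
    hermForm 3 E9 3 (A *ᵥ u) (A *ᵥ v) = hermForm 3 E9 3 u v := by
  have : CharP E9 3 := charP_of_card_eq_prime_pow (p := 3) (f := 2) card_E9
  have hA' : A.transpose * A.map (· ^ 3) = 1 := by
    rw [← hA]
    congr 1
    refine Matrix.ext fun i j => ?_
    simp [pow_succ]
  have hfrob : (fun i => (A *ᵥ v) i ^ 3) = A.map (· ^ 3) *ᵥ (fun i => v i ^ 3) := by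
    funext i
    simp only [Matrix.mulVec, dotProduct, Fin.sum_univ_three, Matrix.map_apply, add_pow_char, mul_pow]
  change (A *ᵥ u) ⬝ᵥ (fun i => (A *ᵥ v) i ^ 3) = u ⬝ᵥ (fun i => v i ^ 3)
  rw [hfrob, ← Matrix.vecMul_transpose, ← Matrix.dotProduct_mulVec, Matrix.mulVec_mulVec, hA',
    Matrix.one_mulVec]

/-- A generator in the special unitary group. -/
def ugen (k : Fin 4) : SU 3 E9 3 :=
  ⟨⟨umat k, (umat_check k).1⟩, preserves_of _ (umat_check k).2⟩

theorem mat_ugen (k : Fin 4) : mat (ugen k) = umat k := rfl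

/-- "`π` is the action of `g` on the points". -/
def PtRel (g : SU 3 E9 3) (π : Equiv.Perm (Fin 63)) : Prop :=
  ∀ i, ∃ c : E9, c ≠ 0 ∧ mat g *ᵥ upt i = c • upt (π i)

theorem upt_inj {c : E9} {i j : Fin 63} (h : upt i = c • upt j) : i = j := by
  have hi := upts_check i
  have hj := (upts_check j).1
  have hc : c = 1 := by
    have e0 := congrFun h 0
    have e1 := congrFun h 1
    have e2 := congrFun h 2
    simp only [Pi.smul_apply, smul_eq_mul] at e0 e1 e2
    rcases hj with j0 | ⟨j0, j1 | ⟨j1, j2⟩⟩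
    · rw [j0, mul_one] at e0
      rcases hi.1 with i0 | ⟨i0, i1 | ⟨i1, i2⟩⟩
      · rw [← e0, i0]
      · exfalso; rw [i0] at e0; rw [← e0, zero_mul] at e1; exact one_ne_zero (i1 ▸ e1)
      · exfalso; rw [i0] at e0; rw [← e0, zero_mul] at e2; exact one_ne_zero (i2 ▸ e2)
    · rw [j0, mul_zero] at e0
      rw [j1, mul_one] at e1
      rcases hi.1 with i0 | ⟨-, i1 | ⟨i1, i2⟩⟩
      · rw [i0] at e0; exact absurd e0 one_ne_zero
      · rw [← e1, i1]
      · exfalso; rw [i1] at e1; rw [← e1, zero_mul] at e2; exact one_ne_zero (i2 ▸ e2)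
    · rw [j0, mul_zero] at e0
      rw [j1, mul_zero] at e1
      rw [j2, mul_one] at e2
      rcases hi.1 with i0 | ⟨-, i1 | ⟨-, i2⟩⟩
      · rw [i0] at e0; exact absurd e0 one_ne_zero
      · rw [i1] at e1; exact absurd e1 one_ne_zero
      · rw [← e2, i2]
  rw [hc, one_smul] at h
  exact hi.2 j (congrFun h)

theorem exists_pts : ∃ f : Subgroup.closure (Set.range ugen) →* Equiv.Perm (Fin 63),
    (∀ g, PtRel g.1 (f g)) ∧ f.range = Subgroup.closure (Set.range sperm) := by
  refine exists_hom_of_rel PtRel ugen sperm (fun i => ⟨1, one_ne_zero, ?_⟩)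
    (fun g g' π π' h h' i => ?_) (fun g π h i => ?_) (fun g π π' h h' => ?_) (fun k i => ?_)
  · rw [mat_one, one_mulVec, one_smul]; rfl
  · obtain ⟨c, hc, e⟩ := h' i
    obtain ⟨d, hd, e'⟩ := h (π' i)
    refine ⟨c * d, mul_ne_zero hc hd, ?_⟩
    rw [mat_mul, ← mulVec_mulVec, e, mulVec_smul, e', smul_smul]; rfl
  · obtain ⟨c, hc, e⟩ := h (π⁻¹ i)
    refine ⟨c⁻¹, inv_ne_zero hc, ?_⟩
    have e' := congrArg (mat g⁻¹ *ᵥ ·) e
    simp only [mulVec_mulVec, ← mat_mul, inv_mul_cancel, mat_one, one_mulVec, mulVec_smul,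
      ] at e'
    rw [show π (π⁻¹ i) = i from Equiv.apply_symm_apply π i] at e'
    rw [e', smul_smul, inv_mul_cancel₀ hc, one_smul]
  · refine Equiv.ext fun i => ?_
    obtain ⟨c, hc, e⟩ := h i
    obtain ⟨d, hd, e'⟩ := h' i
    refine upt_inj (c := c⁻¹ * d) ?_
    rw [mul_smul, ← e', e, smul_smul, inv_mul_cancel₀ hc, one_smul]
  · obtain ⟨-, hc, e⟩ := sfun_check k i
    refine ⟨usc k i, hc, funext fun r => ?_⟩
    rw [mat_ugen, Pi.smul_apply, smul_eq_mul, Matrix.mulVec, dotProduct, Fin.sum_univ_three]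
    exact e r

end Cfsg.Agent.HJ
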