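import Cfsg.Agent.Lib.HallJanko.Hundred
import Cfsg.Agent.Lib.HallJanko.UnitaryBase

/-!
# The subgroup of index 100
-/

set_option autoImplicit false

namespace Cfsg.Agent.HJ

open Quaternion Cfsg.Spor

/-- The stabiliser of the base set. -/
noncomputable def H100 : Subgroup P := (MulAction.stabilizer (Equiv.Perm (Fin 100)) (0 : Fin 100)).comap psi

theorem mem_H100 {g : P} : g ∈ H100 ↔ psi g 0 = 0 := Iff.rfl

theorem index_H100 : H100.index = 100 := by
  letI : MulAction P (Fin 100) := MulAction.compHom _ psi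
  have hs : MulAction.stabilizer P (0 : Fin 100) = H100 := rfl
  rw [← hs, MulAction.index_stabilizer,
    show MulAction.orbit P (0 : Fin 100) = Set.univ from
      Set.eq_univ_iff_forall.2 fun i => psi_transitive i,
    Set.ncard_univ, Nat.card_fin]

theorem card_H100 : Nat.card H100 = 6048 := by
  have := H100.index_mul_card
  rw [index_H100, card_P] at this
  omega

/-- The generators of the subgroup. -/
def hgen (k : Fin 4) : P := wPP (toWord (hWords.getD k []))

theorem hwords_spec (k : Fin 4) : (∀ a ∈ hWords.getD k [], a < 4) ∧ hwN (hWords.getD k []) 0 = 0 ∧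
    ∀ x : Fin 63, stN k x < 63 ∧ awN (hWords.getD k []) (s63N x) = s63N (stN k x) := by
  have h := List.all_eq_true.1 hwords_check k (List.mem_range.2 k.2)
  simp only [Bool.and_eq_true, List.all_eq_true, decide_eq_true_eq, List.mem_range] at h
  exact ⟨h.1.1, h.1.2, fun x => ⟨(h.2 x x.2).1.1, (h.2 x x.2).2⟩⟩

theorem hgen_mem (k : Fin 4) : hgen k ∈ H100 :=
  Fin.ext ((psi_word _ (hwords_spec k).1 0).trans (hwords_spec k).2.1)

theorem s63_lt (x : Fin 63) : s63N x < 315 := by
  obtain ⟨-, hl, hb⟩ := s63_check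
  have hx : (x : ℕ) < s63Tab.length := x.2.trans_eq hl.symm
  rw [s63N, List.getD_eq_getElem _ _ hx]
  exact of_decide_eq_true (List.all_eq_true.1 hb _ (List.getElem_mem hx))

/-- A line of the base set. -/
def s63 (x : Fin 63) : Fin 315 := ⟨s63N x, s63_lt x⟩

theorem s63_injective : Function.Injective s63 := by
  intro x y h
  obtain ⟨hn, hl, -⟩ := s63_check
  have hx : (x : ℕ) < s63Tab.length := x.2.trans_eq hl.symm
  have hy : (y : ℕ) < s63Tab.length := y.2.trans_eq hl.symm
  have e : s63N x = s63N y := congrArg Fin.val h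
  rw [s63N, s63N, List.getD_eq_getElem _ _ hx, List.getD_eq_getElem _ _ hy] at e
  exact Fin.ext ((hn.getElem_inj_iff).1 e)

/-- "`π` is the action of `g` on the base set". -/
def LineRel (g : P) (π : Equiv.Perm (Fin 63)) : Prop := ∀ x, g.1 (s63 x) = s63 (π x)

theorem exists_lines : ∃ f : Subgroup.closure (Set.range hgen) →* Equiv.Perm (Fin 63),
    (∀ g, LineRel g.1 (f g)) ∧ f.range = Subgroup.closure (Set.range sperm) := by
  refine exists_hom_of_rel LineRel hgen sperm (fun x => rfl) (fun g g' π π' h h' x => ?_)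
    (fun g π h x => ?_) (fun g π π' h h' => Equiv.ext fun x => s63_injective ((h x).symm.trans (h' x)))
    (fun k x => ?_)
  · show g.1 (g'.1 (s63 x)) = _
    rw [h' x, h (π' x)]; rfl
  · show g.1⁻¹ (s63 x) = _
    conv_lhs => rw [← perm_self_inv π x, ← h (π⁻¹ x), perm_inv_self]
  · obtain ⟨hw, -, hs⟩ := hwords_spec k
    refine Fin.ext ((wP_toWord _ hw (s63 x)).trans ?_)
    show awN _ (s63N x) = s63N (stN k x % 63)
    rw [Nat.mod_eq_of_lt (hs x).1]
    exact (hs x).2

/-- The group on 63 points. -/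
def U63 : Subgroup (Equiv.Perm (Fin 63)) := Subgroup.closure (Set.range sperm)

/-- The permutation of a word in the four generators of `U63`. -/
def sWP : List (Fin 4) → Equiv.Perm (Fin 63)
  | [] => 1
  | k :: w => sperm k * sWP w

theorem sWP_mem : ∀ w : List (Fin 4), sWP w ∈ U63
  | [] => one_mem _
  | k :: w => mul_mem (Subgroup.subset_closure ⟨k, rfl⟩) (sWP_mem w)

theorem sWP_toWord : ∀ (l : List ℕ), (∀ k ∈ l, k < 4) → ∀ x : Fin 63, (sWP (toWord l) x : ℕ) = swN l x
  | [], _, _ => rfl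
  | k :: l, h, x => by
    have hk : k % 4 = k := Nat.mod_eq_of_lt (h k List.mem_cons_self)
    have hlt : ∀ y : Fin 63, stN k y < 63 := fun y => by
      have := ((hwords_spec ⟨k, h k List.mem_cons_self⟩).2.2 y).1
      exact this
    show ((sperm ⟨k % 4, Nat.mod_lt _ (by norm_num)⟩) (sWP (toWord l) x) : ℕ) = _
    show stN (k % 4) (sWP (toWord l) x) % 63 = _
    rw [hk, Nat.mod_eq_of_lt (hlt _), sWP_toWord l (fun a ha => h a (List.mem_cons_of_mem _ ha)) x]
    rfl

/-- A level of the chain as a finset. -/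
def levelSet (c : List (ℕ × List ℕ)) : Finset (Fin 63) := Finset.univ.filter fun x => (x : ℕ) ∈ c.map Prod.fst

theorem level_cards : (levelSet sixtyCert0).card = 63 ∧ (levelSet sixtyCert1).card = 32 ∧
    (levelSet sixtyCert2).card = 3 := by decide +kernel

theorem card_U63_ge : 6048 ≤ Nat.card U63 := by
  have h := sixty_check
  simp only [Bool.and_eq_true, List.all_eq_true, decide_eq_true_eq] at h
  obtain ⟨⟨c0, c1⟩, c2⟩ := h
  set U1 : Subgroup (Equiv.Perm (Fin 63)) := U63 ⊓ MulAction.stabilizer _ (0 : Fin 63) with hU1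
  set U2 : Subgroup (Equiv.Perm (Fin 63)) := U1 ⊓ MulAction.stabilizer _ (1 : Fin 63) with hU2
  have a0 := card_ge_orbit_chain U63 (0 : Fin 63) (levelSet sixtyCert0) fun x hx => by
    simp only [levelSet, Finset.mem_filter, Finset.mem_univ, true_and, List.mem_map] at hx
    obtain ⟨⟨a, l⟩, he, ha⟩ := hx
    obtain ⟨h4, hr⟩ := c0 _ he
    exact ⟨_, sWP_mem (toWord l), Fin.ext ((sWP_toWord l h4 0).trans (hr.trans ha))⟩
  have a1 := card_ge_orbit_chain U1 (1 : Fin 63) (levelSet sixtyCert1) fun x hx => by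
    simp only [levelSet, Finset.mem_filter, Finset.mem_univ, true_and, List.mem_map] at hx
    obtain ⟨⟨a, l⟩, he, ha⟩ := hx
    obtain ⟨⟨h4, hr⟩, h0⟩ := c1 _ he
    exact ⟨_, ⟨sWP_mem (toWord l), Fin.ext ((sWP_toWord l h4 0).trans h0)⟩,
      Fin.ext ((sWP_toWord l h4 1).trans (hr.trans ha))⟩
  have a2 := card_ge_orbit_chain U2 (2 : Fin 63) (levelSet sixtyCert2) fun x hx => by
    simp only [levelSet, Finset.mem_filter, Finset.mem_univ, true_and, List.mem_map] at hx
    obtain ⟨⟨a, l⟩, he, ha⟩ := hx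
    obtain ⟨⟨⟨h4, hr⟩, h0⟩, h1⟩ := c2 _ he
    exact ⟨_, ⟨⟨sWP_mem (toWord l), Fin.ext ((sWP_toWord l h4 0).trans h0)⟩,
      Fin.ext ((sWP_toWord l h4 1).trans h1)⟩, Fin.ext ((sWP_toWord l h4 2).trans (hr.trans ha))⟩
  rw [level_cards.1, ← hU1] at a0
  rw [level_cards.2.1, ← hU2] at a1
  rw [level_cards.2.2] at a2
  have : 1 ≤ Nat.card (U2 ⊓ MulAction.stabilizer _ (2 : Fin 63) : Subgroup (Equiv.Perm (Fin 63))) :=
    Nat.card_pos
  omega

theorem iso_of_small {X : Type*} [Group X] [Finite X] (K : Subgroup X) (f : K →* Equiv.Perm (Fin 63))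
    (hf : f.range = U63) {n : ℕ} (hK : Nat.card K ≤ n) (hn : n = 6048) :
    Nat.card K = 6048 ∧ Nonempty (K ≃* U63) := by
  have hsur := f.rangeRestrict_surjective
  have h1 : Nat.card f.range ≤ Nat.card K := Nat.card_le_card_of_surjective _ hsur
  have h2 : 6048 ≤ Nat.card f.range := hf ▸ card_U63_ge
  have hc : Nat.card K = Nat.card f.range := by omega
  exact ⟨by omega, ⟨(MulEquiv.ofBijective f.rangeRestrict
    ((Nat.bijective_iff_surjective_and_card _).2 ⟨hsur, hc⟩)).trans (MulEquiv.subgroupCongr hf)⟩⟩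

theorem closure_hgen : Subgroup.closure (Set.range hgen) = H100 ∧ Nonempty (H100 ≃* U63) := by
  obtain ⟨f, -, hf⟩ := exists_lines
  have hle : Subgroup.closure (Set.range hgen) ≤ H100 :=
    (Subgroup.closure_le _).2 (by rintro _ ⟨k, rfl⟩; exact hgen_mem k)
  obtain ⟨hc, ⟨e⟩⟩ := iso_of_small _ f hf ((Subgroup.card_le_of_le hle).trans card_H100.le) rfl
  have heq := Subgroup.eq_of_le_of_card_ge hle (by rw [hc, card_H100])
  exact ⟨heq, ⟨(MulEquiv.subgroupCongr heq.symm).trans e⟩⟩

theorem psu_iso : Nonempty (Cfsg.PSU 3 E9 3 ≃* U63) := by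
  obtain ⟨f, -, hf⟩ := exists_pts
  have hG := U33.card_G card_E9
  obtain ⟨hc, ⟨e⟩⟩ := iso_of_small _ f hf ((Subgroup.card_le_card_group _).trans hG.le) rfl
  have htop : Subgroup.closure (Set.range ugen) = ⊤ := Subgroup.eq_top_of_card_eq _ (hc.trans hG.symm)
  exact ⟨(MulEquiv.ofBijective _ (U33.mk_bijective card_E9)).symm.trans
    ((Subgroup.topEquiv.symm.trans (MulEquiv.subgroupCongr htop.symm)).trans e)⟩

theorem H100_iso : Nonempty (H100 ≃* Cfsg.PSU 3 E9 3) := by
  obtain ⟨e⟩ := closure_hgen.2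
  obtain ⟨e'⟩ := psu_iso
  exact ⟨e.trans e'.symm⟩

theorem orbit_words {c : List (ℕ × List ℕ)} {root : Fin 100}
    (hc : ∀ e ∈ c, (∀ k ∈ e.2, k < 4) ∧ hwN (hExp e.2) root = e.1) {i : Fin 100}
    (hi : (i : ℕ) ∈ c.map Prod.fst) : ∃ h ∈ H100, psi h root = i := by
  obtain ⟨⟨a, l⟩, he, ha⟩ := List.mem_map.1 hi
  obtain ⟨h4, hr⟩ := hc _ he
  have hexp : ∀ k ∈ hExp l, k < 4 := by
    intro k hk
    obtain ⟨j, hj, hk⟩ := List.mem_flatMap.1 hk
    exact (hwords_spec ⟨j, h4 j hj⟩).1 k hk
  refine ⟨wPP (toWord (hExp l)), ?_, Fin.ext ((psi_word _ hexp root).trans (hr.trans ha))⟩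
  have key : ∀ l : List ℕ, (∀ k ∈ l, k < 4) → wPP (toWord (hExp l)) ∈ H100 := by
    intro l
    induction l with
    | nil =>
        intro _
        rw [show wPP (toWord (hExp [])) = 1 from Subtype.ext rfl]
        exact one_mem _
    | cons k l ih =>
        intro h
        have e : ∀ a b : List ℕ, wPP (toWord (a ++ b)) = wPP (toWord a) * wPP (toWord b) := by
          intro a b
          induction a with
          | nil => exact (one_mul _).symm.trans (congrArg (· * _) (Subtype.ext rfl))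
          | cons x a iha =>
              refine Subtype.ext ?_
              show gperm _ * (wPP (toWord (a ++ b))).1 = _
              rw [iha]
              exact (mul_assoc _ _ _).symm
        rw [show hExp (k :: l) = hWords.getD k [] ++ hExp l from rfl, e]
        exact mul_mem (hgen_mem ⟨k, h k List.mem_cons_self⟩)
          (ih fun a ha => h a (List.mem_cons_of_mem _ ha))
  exact key l h4

set_option maxRecDepth 4000 in
theorem inter_inv {h : P} (hh : h ∈ H100) (i : Fin 100) :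
    (setOf (psi h i) ∩ setOf 0).card = (setOf i ∩ setOf 0).card := by
  have h0 := setOf_map h 0
  rw [mem_H100.1 hh] at h0
  rw [← setOf_map h i, ← Finset.card_map h.1.toEmbedding (s := setOf i ∩ setOf 0), Finset.map_inter]
  exact congrArg (fun T => (Finset.map _ _ ∩ T).card) h0.symm

/-- The members of a certified orbit. -/
def orbSet (c : List (ℕ × List ℕ)) : Finset (Fin 100) := Finset.univ.filter fun x => (x : ℕ) ∈ c.map Prod.fst

theorem orbSet_cards : (orbSet hundOrbit0).card = 63 ∧ (orbSet hundOrbit1).card = 36 ∧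
    (setOf 1 ∩ setOf 0).card = 7 ∧ (setOf 6 ∩ setOf 0).card = 21 ∧ (setOf 0 ∩ setOf 0).card = 63 := by
  decide +kernel

theorem orbit_sets :
    {i | ∃ h ∈ H100, psi h 1 = i} = (orbSet hundOrbit0 : Set (Fin 100)) ∧
    {i | ∃ h ∈ H100, psi h 6 = i} = (orbSet hundOrbit1 : Set (Fin 100)) := by
  have hk := orbit_check
  simp only [Bool.and_eq_true, List.all_eq_true, decide_eq_true_eq, Bool.or_eq_true, List.mem_range] at hk
  obtain ⟨⟨c0, c1⟩, hcl⟩ := hk
  constructor <;> ext i <;>
    simp only [Set.mem_setOf_eq, orbSet, Finset.coe_filter, Finset.mem_univ, true_and]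
  · refine ⟨?_, fun hi => orbit_words (root := 1) c0 hi⟩
    rintro ⟨h, hh, rfl⟩
    have e := (inter_inv hh 1).trans orbSet_cards.2.2.1
    rcases hcl _ (psi h 1).2 with (z | ⟨-, m⟩) | ⟨w, -⟩
    · have : psi h 1 = 0 := Fin.ext z
      rw [this] at e
      have := orbSet_cards.2.2.2.2
      simp only [Fin.val_zero] at e
      omega
    · exact m
    · omega
  · refine ⟨?_, fun hi => orbit_words (root := 6) c1 hi⟩
    rintro ⟨h, hh, rfl⟩
    have e := (inter_inv hh 6).trans orbSet_cards.2.2.2.1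
    rcases hcl _ (psi h 6).2 with (z | ⟨w, -⟩) | ⟨-, m⟩
    · have : psi h 6 = 0 := Fin.ext z
      rw [this] at e
      have := orbSet_cards.2.2.2.2
      simp only [Fin.val_zero] at e
      omega
    · omega
    · exact m

/-- Orbits on cosets agree with orbits on points. -/
theorem coset_orbit {X : Type*} [Group X] {n : ℕ} [NeZero n] (F : X →* Equiv.Perm (Fin n)) (H : Subgroup X)
    (hH : ∀ g, g ∈ H ↔ F g 0 = 0) (g : X) :
    (MulAction.orbit H (g : X ⧸ H)).ncard = {i | ∃ h ∈ H, F h (F g 0) = i}.ncard := by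
  let f : X ⧸ H → Fin n := Quotient.lift (fun a => F a 0) fun a b hab => by
    have := (hH _).1 (QuotientGroup.leftRel_apply.1 hab)
    rw [map_mul, map_inv, Equiv.Perm.mul_apply, Equiv.Perm.inv_def, Equiv.symm_apply_eq] at this
    exact this.symm
  have hfa : ∀ a : X, f (a : X ⧸ H) = F a 0 := fun a => rfl
  have hinj : Function.Injective f := by
    intro p q h
    obtain ⟨a, rfl⟩ := QuotientGroup.mk_surjective p
    obtain ⟨b, rfl⟩ := QuotientGroup.mk_surjective q
    rw [hfa, hfa] at h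
    refine QuotientGroup.eq.2 ((hH _).2 ?_)
    rw [map_mul, map_inv, Equiv.Perm.mul_apply, ← h, perm_inv_self]
  rw [← Set.ncard_image_of_injective _ hinj]
  refine congrArg Set.ncard (Set.ext fun i => ⟨?_, ?_⟩)
  · rintro ⟨_, ⟨h, rfl⟩, rfl⟩
    refine ⟨h.1, h.2, ?_⟩
    show F h.1 (F g 0) = f ((h.1 * g : X) : X ⧸ H)
    rw [hfa, map_mul, Equiv.Perm.mul_apply]
  · rintro ⟨h, hh, rfl⟩
    exact ⟨_, ⟨⟨h, hh⟩, rfl⟩, by
      show f ((h * g : X) : X ⧸ H) = _
      rw [hfa, map_mul, Equiv.Perm.mul_apply]⟩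

end Cfsg.Agent.HJ
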