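import Cfsg.Agent.Lib.HallJanko.SmallDefs

/-! Data for the 315 lines. -/

set_option autoImplicit false

namespace Cfsg.Agent.HJ

/-- Representatives, chunk 0. -/
def repChunk0 : List V3 := [⟨⟨8,0,0,0,0,0,0,0⟩,⟨0,0,0,0,0,0,0,0⟩,⟨0,0,0,0,0,0,0,0⟩⟩,
  ⟨⟨0,0,0,0,0,0,0,0⟩,⟨8,0,0,0,0,0,0,0⟩,⟨0,0,0,0,0,0,0,0⟩⟩,
  ⟨⟨0,0,0,0,0,0,0,0⟩,⟨0,0,0,0,0,0,0,0⟩,⟨8,0,0,0,0,0,0,0⟩⟩,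
  ⟨⟨-4,0,-4,0,0,0,0,0⟩,⟨-4,0,-4,0,0,0,0,0⟩,⟨0,0,0,0,0,0,0,0⟩⟩,
  ⟨⟨-4,0,-4,0,0,0,0,0⟩,⟨-4,0,4,0,0,0,0,0⟩,⟨0,0,0,0,0,0,0,0⟩⟩,
  ⟨⟨-4,0,-4,0,0,0,0,0⟩,⟨0,0,0,0,-4,0,-4,0⟩,⟨0,0,0,0,0,0,0,0⟩⟩,
  ⟨⟨-4,0,-4,0,0,0,0,0⟩,⟨0,0,0,0,-4,0,4,0⟩,⟨0,0,0,0,0,0,0,0⟩⟩,
  ⟨⟨-4,0,-4,0,0,0,0,0⟩,⟨0,0,0,0,0,0,0,0⟩,⟨-4,0,-4,0,0,0,0,0⟩⟩,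
  ⟨⟨-4,0,-4,0,0,0,0,0⟩,⟨0,0,0,0,0,0,0,0⟩,⟨-4,0,4,0,0,0,0,0⟩⟩,
  ⟨⟨-4,0,-4,0,0,0,0,0⟩,⟨0,0,0,0,0,0,0,0⟩,⟨0,0,0,0,-4,0,-4,0⟩⟩,
  ⟨⟨-4,0,-4,0,0,0,0,0⟩,⟨0,0,0,0,0,0,0,0⟩,⟨0,0,0,0,-4,0,4,0⟩⟩,
  ⟨⟨-4,0,-4,0,0,0,0,0⟩,⟨0,0,0,0,0,0,0,0⟩,⟨0,0,0,0,4,0,-4,0⟩⟩,
  ⟨⟨-4,0,-4,0,0,0,0,0⟩,⟨0,0,0,0,0,0,0,0⟩,⟨0,0,0,0,4,0,4,0⟩⟩,
  ⟨⟨-4,0,-4,0,0,0,0,0⟩,⟨0,0,0,0,0,0,0,0⟩,⟨4,0,-4,0,0,0,0,0⟩⟩,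
  ⟨⟨-4,0,-4,0,0,0,0,0⟩,⟨0,0,0,0,0,0,0,0⟩,⟨4,0,4,0,0,0,0,0⟩⟩]

/-- Representatives, chunk 1. -/
def repChunk1 : List V3 := [⟨⟨-4,0,-4,0,0,0,0,0⟩,⟨0,0,0,0,4,0,-4,0⟩,⟨0,0,0,0,0,0,0,0⟩⟩,
  ⟨⟨-4,0,-4,0,0,0,0,0⟩,⟨0,0,0,0,4,0,4,0⟩,⟨0,0,0,0,0,0,0,0⟩⟩,
  ⟨⟨-4,0,-4,0,0,0,0,0⟩,⟨4,0,-4,0,0,0,0,0⟩,⟨0,0,0,0,0,0,0,0⟩⟩,
  ⟨⟨-4,0,-4,0,0,0,0,0⟩,⟨4,0,4,0,0,0,0,0⟩,⟨0,0,0,0,0,0,0,0⟩⟩,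
  ⟨⟨-4,0,-2,0,-1,1,-1,-1⟩,⟨-2,0,0,0,-1,-1,1,-1⟩,⟨-2,0,0,0,-1,-1,1,-1⟩⟩,
  ⟨⟨-4,0,-2,0,-1,1,-1,-1⟩,⟨-2,0,0,0,-1,-1,1,-1⟩,⟨2,0,0,0,1,1,-1,1⟩⟩,
  ⟨⟨-4,0,-2,0,-1,1,-1,-1⟩,⟨-1,-1,1,-1,2,0,0,0⟩,⟨-1,-1,1,-1,2,0,0,0⟩⟩,
  ⟨⟨-4,0,-2,0,-1,1,-1,-1⟩,⟨-1,-1,1,-1,2,0,0,0⟩,⟨1,1,-1,1,-2,0,0,0⟩⟩,
  ⟨⟨-4,0,-2,0,-1,1,-1,-1⟩,⟨-1,1,-1,-1,0,0,-2,0⟩,⟨-1,1,-1,-1,0,0,-2,0⟩⟩,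
  ⟨⟨-4,0,-2,0,-1,1,-1,-1⟩,⟨-1,1,-1,-1,0,0,-2,0⟩,⟨1,-1,1,1,0,0,2,0⟩⟩,
  ⟨⟨-4,0,-2,0,-1,1,-1,-1⟩,⟨0,0,-2,0,1,-1,1,1⟩,⟨0,0,-2,0,1,-1,1,1⟩⟩,
  ⟨⟨-4,0,-2,0,-1,1,-1,-1⟩,⟨0,0,-2,0,1,-1,1,1⟩,⟨0,0,2,0,-1,1,-1,-1⟩⟩,
  ⟨⟨-4,0,-2,0,-1,1,-1,-1⟩,⟨0,0,2,0,-1,1,-1,-1⟩,⟨0,0,-2,0,1,-1,1,1⟩⟩,
  ⟨⟨-4,0,-2,0,-1,1,-1,-1⟩,⟨0,0,2,0,-1,1,-1,-1⟩,⟨0,0,2,0,-1,1,-1,-1⟩⟩,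
  ⟨⟨-4,0,-2,0,-1,1,-1,-1⟩,⟨1,-1,1,1,0,0,2,0⟩,⟨-1,1,-1,-1,0,0,-2,0⟩⟩]

/-- Representatives, chunk 2. -/
def repChunk2 : List V3 := [⟨⟨-4,0,-2,0,-1,1,-1,-1⟩,⟨1,-1,1,1,0,0,2,0⟩,⟨1,-1,1,1,0,0,2,0⟩⟩,
  ⟨⟨-4,0,-2,0,-1,1,-1,-1⟩,⟨1,1,-1,1,-2,0,0,0⟩,⟨-1,-1,1,-1,2,0,0,0⟩⟩,
  ⟨⟨-4,0,-2,0,-1,1,-1,-1⟩,⟨1,1,-1,1,-2,0,0,0⟩,⟨1,1,-1,1,-2,0,0,0⟩⟩,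
  ⟨⟨-4,0,-2,0,-1,1,-1,-1⟩,⟨2,0,0,0,1,1,-1,1⟩,⟨-2,0,0,0,-1,-1,1,-1⟩⟩,
  ⟨⟨-4,0,-2,0,-1,1,-1,-1⟩,⟨2,0,0,0,1,1,-1,1⟩,⟨2,0,0,0,1,1,-1,1⟩⟩,
  ⟨⟨-4,0,-2,0,-1,1,1,1⟩,⟨-2,0,0,0,1,1,1,-1⟩,⟨-1,1,1,1,0,0,-2,0⟩⟩,
  ⟨⟨-4,0,-2,0,-1,1,1,1⟩,⟨-2,0,0,0,1,1,1,-1⟩,⟨1,-1,-1,-1,0,0,2,0⟩⟩,
  ⟨⟨-4,0,-2,0,-1,1,1,1⟩,⟨-1,-1,-1,1,-2,0,0,0⟩,⟨0,0,-2,0,1,-1,-1,-1⟩⟩,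
  ⟨⟨-4,0,-2,0,-1,1,1,1⟩,⟨-1,-1,-1,1,-2,0,0,0⟩,⟨0,0,2,0,-1,1,1,1⟩⟩,
  ⟨⟨-4,0,-2,0,-1,1,1,1⟩,⟨-1,1,1,1,0,0,-2,0⟩,⟨-2,0,0,0,1,1,1,-1⟩⟩,
  ⟨⟨-4,0,-2,0,-1,1,1,1⟩,⟨-1,1,1,1,0,0,-2,0⟩,⟨2,0,0,0,-1,-1,-1,1⟩⟩,
  ⟨⟨-4,0,-2,0,-1,1,1,1⟩,⟨0,0,-2,0,1,-1,-1,-1⟩,⟨-1,-1,-1,1,-2,0,0,0⟩⟩,
  ⟨⟨-4,0,-2,0,-1,1,1,1⟩,⟨0,0,-2,0,1,-1,-1,-1⟩,⟨1,1,1,-1,2,0,0,0⟩⟩,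
  ⟨⟨-4,0,-2,0,-1,1,1,1⟩,⟨0,0,2,0,-1,1,1,1⟩,⟨-1,-1,-1,1,-2,0,0,0⟩⟩,
  ⟨⟨-4,0,-2,0,-1,1,1,1⟩,⟨0,0,2,0,-1,1,1,1⟩,⟨1,1,1,-1,2,0,0,0⟩⟩]

/-- Representatives, chunk 3. -/
def repChunk3 : List V3 := [⟨⟨-4,0,-2,0,-1,1,1,1⟩,⟨1,-1,-1,-1,0,0,2,0⟩,⟨-2,0,0,0,1,1,1,-1⟩⟩,
  ⟨⟨-4,0,-2,0,-1,1,1,1⟩,⟨1,-1,-1,-1,0,0,2,0⟩,⟨2,0,0,0,-1,-1,-1,1⟩⟩,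
  ⟨⟨-4,0,-2,0,-1,1,1,1⟩,⟨1,1,1,-1,2,0,0,0⟩,⟨0,0,-2,0,1,-1,-1,-1⟩⟩,
  ⟨⟨-4,0,-2,0,-1,1,1,1⟩,⟨1,1,1,-1,2,0,0,0⟩,⟨0,0,2,0,-1,1,1,1⟩⟩,
  ⟨⟨-4,0,-2,0,-1,1,1,1⟩,⟨2,0,0,0,-1,-1,-1,1⟩,⟨-1,1,1,1,0,0,-2,0⟩⟩,
  ⟨⟨-4,0,-2,0,-1,1,1,1⟩,⟨2,0,0,0,-1,-1,-1,1⟩,⟨1,-1,-1,-1,0,0,2,0⟩⟩,
  ⟨⟨-4,0,-2,0,1,-1,-1,-1⟩,⟨-2,0,0,0,-1,-1,-1,1⟩,⟨-1,-1,-1,1,2,0,0,0⟩⟩,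
  ⟨⟨-4,0,-2,0,1,-1,-1,-1⟩,⟨-2,0,0,0,-1,-1,-1,1⟩,⟨1,1,1,-1,-2,0,0,0⟩⟩,
  ⟨⟨-4,0,-2,0,1,-1,-1,-1⟩,⟨-1,-1,-1,1,2,0,0,0⟩,⟨-2,0,0,0,-1,-1,-1,1⟩⟩,
  ⟨⟨-4,0,-2,0,1,-1,-1,-1⟩,⟨-1,-1,-1,1,2,0,0,0⟩,⟨2,0,0,0,1,1,1,-1⟩⟩,
  ⟨⟨-4,0,-2,0,1,-1,-1,-1⟩,⟨-1,1,1,1,0,0,2,0⟩,⟨0,0,-2,0,-1,1,1,1⟩⟩,
  ⟨⟨-4,0,-2,0,1,-1,-1,-1⟩,⟨-1,1,1,1,0,0,2,0⟩,⟨0,0,2,0,1,-1,-1,-1⟩⟩,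
  ⟨⟨-4,0,-2,0,1,-1,-1,-1⟩,⟨0,0,-2,0,-1,1,1,1⟩,⟨-1,1,1,1,0,0,2,0⟩⟩,
  ⟨⟨-4,0,-2,0,1,-1,-1,-1⟩,⟨0,0,-2,0,-1,1,1,1⟩,⟨1,-1,-1,-1,0,0,-2,0⟩⟩,
  ⟨⟨-4,0,-2,0,1,-1,-1,-1⟩,⟨0,0,2,0,1,-1,-1,-1⟩,⟨-1,1,1,1,0,0,2,0⟩⟩]

/-- Representatives, chunk 4. -/
def repChunk4 : List V3 := [⟨⟨-4,0,-2,0,1,-1,-1,-1⟩,⟨0,0,2,0,1,-1,-1,-1⟩,⟨1,-1,-1,-1,0,0,-2,0⟩⟩,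
  ⟨⟨-4,0,-2,0,1,-1,-1,-1⟩,⟨1,-1,-1,-1,0,0,-2,0⟩,⟨0,0,-2,0,-1,1,1,1⟩⟩,
  ⟨⟨-4,0,-2,0,1,-1,-1,-1⟩,⟨1,-1,-1,-1,0,0,-2,0⟩,⟨0,0,2,0,1,-1,-1,-1⟩⟩,
  ⟨⟨-4,0,-2,0,1,-1,-1,-1⟩,⟨1,1,1,-1,-2,0,0,0⟩,⟨-2,0,0,0,-1,-1,-1,1⟩⟩,
  ⟨⟨-4,0,-2,0,1,-1,-1,-1⟩,⟨1,1,1,-1,-2,0,0,0⟩,⟨2,0,0,0,1,1,1,-1⟩⟩,
  ⟨⟨-4,0,-2,0,1,-1,-1,-1⟩,⟨2,0,0,0,1,1,1,-1⟩,⟨-1,-1,-1,1,2,0,0,0⟩⟩,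
  ⟨⟨-4,0,-2,0,1,-1,-1,-1⟩,⟨2,0,0,0,1,1,1,-1⟩,⟨1,1,1,-1,-2,0,0,0⟩⟩,
  ⟨⟨-4,0,-2,0,1,-1,1,1⟩,⟨-2,0,0,0,1,1,-1,1⟩,⟨0,0,-2,0,-1,1,-1,-1⟩⟩,
  ⟨⟨-4,0,-2,0,1,-1,1,1⟩,⟨-2,0,0,0,1,1,-1,1⟩,⟨0,0,2,0,1,-1,1,1⟩⟩,
  ⟨⟨-4,0,-2,0,1,-1,1,1⟩,⟨-1,-1,1,-1,-2,0,0,0⟩,⟨-1,1,-1,-1,0,0,2,0⟩⟩,
  ⟨⟨-4,0,-2,0,1,-1,1,1⟩,⟨-1,-1,1,-1,-2,0,0,0⟩,⟨1,-1,1,1,0,0,-2,0⟩⟩,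
  ⟨⟨-4,0,-2,0,1,-1,1,1⟩,⟨-1,1,-1,-1,0,0,2,0⟩,⟨-1,-1,1,-1,-2,0,0,0⟩⟩,
  ⟨⟨-4,0,-2,0,1,-1,1,1⟩,⟨-1,1,-1,-1,0,0,2,0⟩,⟨1,1,-1,1,2,0,0,0⟩⟩,
  ⟨⟨-4,0,-2,0,1,-1,1,1⟩,⟨0,0,-2,0,-1,1,-1,-1⟩,⟨-2,0,0,0,1,1,-1,1⟩⟩,
  ⟨⟨-4,0,-2,0,1,-1,1,1⟩,⟨0,0,-2,0,-1,1,-1,-1⟩,⟨2,0,0,0,-1,-1,1,-1⟩⟩]

/-- Representatives, chunk 5. -/
def repChunk5 : List V3 := [⟨⟨-4,0,-2,0,1,-1,1,1⟩,⟨0,0,2,0,1,-1,1,1⟩,⟨-2,0,0,0,1,1,-1,1⟩⟩,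
  ⟨⟨-4,0,-2,0,1,-1,1,1⟩,⟨0,0,2,0,1,-1,1,1⟩,⟨2,0,0,0,-1,-1,1,-1⟩⟩,
  ⟨⟨-4,0,-2,0,1,-1,1,1⟩,⟨1,-1,1,1,0,0,-2,0⟩,⟨-1,-1,1,-1,-2,0,0,0⟩⟩,
  ⟨⟨-4,0,-2,0,1,-1,1,1⟩,⟨1,-1,1,1,0,0,-2,0⟩,⟨1,1,-1,1,2,0,0,0⟩⟩,
  ⟨⟨-4,0,-2,0,1,-1,1,1⟩,⟨1,1,-1,1,2,0,0,0⟩,⟨-1,1,-1,-1,0,0,2,0⟩⟩,
  ⟨⟨-4,0,-2,0,1,-1,1,1⟩,⟨1,1,-1,1,2,0,0,0⟩,⟨1,-1,1,1,0,0,-2,0⟩⟩,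
  ⟨⟨-4,0,-2,0,1,-1,1,1⟩,⟨2,0,0,0,-1,-1,1,-1⟩,⟨0,0,-2,0,-1,1,-1,-1⟩⟩,
  ⟨⟨-4,0,-2,0,1,-1,1,1⟩,⟨2,0,0,0,-1,-1,1,-1⟩,⟨0,0,2,0,1,-1,1,1⟩⟩,
  ⟨⟨-4,0,0,0,0,0,0,0⟩,⟨-4,0,0,0,0,0,0,0⟩,⟨-2,0,-2,0,2,0,0,2⟩⟩,
  ⟨⟨-4,0,0,0,0,0,0,0⟩,⟨-4,0,0,0,0,0,0,0⟩,⟨-2,0,0,2,-2,0,2,0⟩⟩,
  ⟨⟨-4,0,0,0,0,0,0,0⟩,⟨-4,0,0,0,0,0,0,0⟩,⟨-2,0,2,0,0,2,-2,0⟩⟩,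
  ⟨⟨-4,0,0,0,0,0,0,0⟩,⟨-4,0,0,0,0,0,0,0⟩,⟨0,-2,-2,0,-2,0,-2,0⟩⟩,
  ⟨⟨-4,0,0,0,0,0,0,0⟩,⟨-4,0,0,0,0,0,0,0⟩,⟨0,2,2,0,2,0,2,0⟩⟩,
  ⟨⟨-4,0,0,0,0,0,0,0⟩,⟨-4,0,0,0,0,0,0,0⟩,⟨2,0,-2,0,0,-2,2,0⟩⟩,
  ⟨⟨-4,0,0,0,0,0,0,0⟩,⟨-4,0,0,0,0,0,0,0⟩,⟨2,0,0,-2,2,0,-2,0⟩⟩]

/-- Representatives, chunk 6. -/
def repChunk6 : List V3 := [⟨⟨-4,0,0,0,0,0,0,0⟩,⟨-4,0,0,0,0,0,0,0⟩,⟨2,0,2,0,-2,0,0,-2⟩⟩,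
  ⟨⟨-4,0,0,0,0,0,0,0⟩,⟨-2,0,-2,0,-2,0,0,-2⟩,⟨0,0,-4,0,0,0,0,0⟩⟩,
  ⟨⟨-4,0,0,0,0,0,0,0⟩,⟨-2,0,-2,0,-2,0,0,-2⟩,⟨0,0,4,0,0,0,0,0⟩⟩,
  ⟨⟨-4,0,0,0,0,0,0,0⟩,⟨-2,0,-2,0,0,-2,-2,0⟩,⟨0,0,0,0,0,0,-4,0⟩⟩,
  ⟨⟨-4,0,0,0,0,0,0,0⟩,⟨-2,0,-2,0,0,-2,-2,0⟩,⟨0,0,0,0,0,0,4,0⟩⟩,
  ⟨⟨-4,0,0,0,0,0,0,0⟩,⟨-2,0,-2,0,0,2,2,0⟩,⟨0,0,0,0,-4,0,0,0⟩⟩,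
  ⟨⟨-4,0,0,0,0,0,0,0⟩,⟨-2,0,-2,0,0,2,2,0⟩,⟨0,0,0,0,4,0,0,0⟩⟩,
  ⟨⟨-4,0,0,0,0,0,0,0⟩,⟨-2,0,-2,0,2,0,0,2⟩,⟨-4,0,0,0,0,0,0,0⟩⟩,
  ⟨⟨-4,0,0,0,0,0,0,0⟩,⟨-2,0,-2,0,2,0,0,2⟩,⟨4,0,0,0,0,0,0,0⟩⟩,
  ⟨⟨-4,0,0,0,0,0,0,0⟩,⟨-2,0,0,-2,-2,0,-2,0⟩,⟨0,0,0,0,-4,0,0,0⟩⟩,
  ⟨⟨-4,0,0,0,0,0,0,0⟩,⟨-2,0,0,-2,-2,0,-2,0⟩,⟨0,0,0,0,4,0,0,0⟩⟩,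
  ⟨⟨-4,0,0,0,0,0,0,0⟩,⟨-2,0,0,-2,2,0,2,0⟩,⟨0,0,0,0,0,0,-4,0⟩⟩,
  ⟨⟨-4,0,0,0,0,0,0,0⟩,⟨-2,0,0,-2,2,0,2,0⟩,⟨0,0,0,0,0,0,4,0⟩⟩,
  ⟨⟨-4,0,0,0,0,0,0,0⟩,⟨-2,0,0,2,-2,0,2,0⟩,⟨-4,0,0,0,0,0,0,0⟩⟩,
  ⟨⟨-4,0,0,0,0,0,0,0⟩,⟨-2,0,0,2,-2,0,2,0⟩,⟨4,0,0,0,0,0,0,0⟩⟩]

/-- Representatives, chunk 7. -/
def repChunk7 : List V3 := [⟨⟨-4,0,0,0,0,0,0,0⟩,⟨-2,0,0,2,2,0,-2,0⟩,⟨0,0,-4,0,0,0,0,0⟩⟩,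
  ⟨⟨-4,0,0,0,0,0,0,0⟩,⟨-2,0,0,2,2,0,-2,0⟩,⟨0,0,4,0,0,0,0,0⟩⟩,
  ⟨⟨-4,0,0,0,0,0,0,0⟩,⟨-2,0,2,0,-2,0,0,2⟩,⟨0,0,0,0,0,0,-4,0⟩⟩,
  ⟨⟨-4,0,0,0,0,0,0,0⟩,⟨-2,0,2,0,-2,0,0,2⟩,⟨0,0,0,0,0,0,4,0⟩⟩,
  ⟨⟨-4,0,0,0,0,0,0,0⟩,⟨-2,0,2,0,0,-2,2,0⟩,⟨0,0,-4,0,0,0,0,0⟩⟩,
  ⟨⟨-4,0,0,0,0,0,0,0⟩,⟨-2,0,2,0,0,-2,2,0⟩,⟨0,0,4,0,0,0,0,0⟩⟩,
  ⟨⟨-4,0,0,0,0,0,0,0⟩,⟨-2,0,2,0,0,2,-2,0⟩,⟨-4,0,0,0,0,0,0,0⟩⟩,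
  ⟨⟨-4,0,0,0,0,0,0,0⟩,⟨-2,0,2,0,0,2,-2,0⟩,⟨4,0,0,0,0,0,0,0⟩⟩,
  ⟨⟨-4,0,0,0,0,0,0,0⟩,⟨-2,0,2,0,2,0,0,-2⟩,⟨0,0,0,0,-4,0,0,0⟩⟩,
  ⟨⟨-4,0,0,0,0,0,0,0⟩,⟨-2,0,2,0,2,0,0,-2⟩,⟨0,0,0,0,4,0,0,0⟩⟩,
  ⟨⟨-4,0,0,0,0,0,0,0⟩,⟨-1,-1,-1,-1,-1,-1,1,1⟩,⟨-1,1,-1,1,1,-1,1,-1⟩⟩,
  ⟨⟨-4,0,0,0,0,0,0,0⟩,⟨-1,-1,-1,-1,-1,-1,1,1⟩,⟨1,-1,1,-1,-1,1,-1,1⟩⟩,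
  ⟨⟨-4,0,0,0,0,0,0,0⟩,⟨-1,-1,-1,-1,1,1,-1,-1⟩,⟨-1,1,1,-1,1,-1,-1,1⟩⟩,
  ⟨⟨-4,0,0,0,0,0,0,0⟩,⟨-1,-1,-1,-1,1,1,-1,-1⟩,⟨1,-1,-1,1,-1,1,1,-1⟩⟩,
  ⟨⟨-4,0,0,0,0,0,0,0⟩,⟨-1,-1,1,1,-1,-1,-1,-1⟩,⟨-1,1,1,-1,-1,1,1,-1⟩⟩]

/-- Representatives, chunk 8. -/
def repChunk8 : List V3 := [⟨⟨-4,0,0,0,0,0,0,0⟩,⟨-1,-1,1,1,-1,-1,-1,-1⟩,⟨1,-1,-1,1,1,-1,-1,1⟩⟩,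
  ⟨⟨-4,0,0,0,0,0,0,0⟩,⟨-1,-1,1,1,1,1,1,1⟩,⟨-1,1,-1,1,-1,1,-1,1⟩⟩,
  ⟨⟨-4,0,0,0,0,0,0,0⟩,⟨-1,-1,1,1,1,1,1,1⟩,⟨1,-1,1,-1,1,-1,1,-1⟩⟩,
  ⟨⟨-4,0,0,0,0,0,0,0⟩,⟨-1,1,-1,1,-1,1,-1,1⟩,⟨-1,-1,1,1,1,1,1,1⟩⟩,
  ⟨⟨-4,0,0,0,0,0,0,0⟩,⟨-1,1,-1,1,-1,1,-1,1⟩,⟨1,1,-1,-1,-1,-1,-1,-1⟩⟩,
  ⟨⟨-4,0,0,0,0,0,0,0⟩,⟨-1,1,-1,1,1,-1,1,-1⟩,⟨-1,-1,-1,-1,-1,-1,1,1⟩⟩,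
  ⟨⟨-4,0,0,0,0,0,0,0⟩,⟨-1,1,-1,1,1,-1,1,-1⟩,⟨1,1,1,1,1,1,-1,-1⟩⟩,
  ⟨⟨-4,0,0,0,0,0,0,0⟩,⟨-1,1,1,-1,-1,1,1,-1⟩,⟨-1,-1,1,1,-1,-1,-1,-1⟩⟩,
  ⟨⟨-4,0,0,0,0,0,0,0⟩,⟨-1,1,1,-1,-1,1,1,-1⟩,⟨1,1,-1,-1,1,1,1,1⟩⟩,
  ⟨⟨-4,0,0,0,0,0,0,0⟩,⟨-1,1,1,-1,1,-1,-1,1⟩,⟨-1,-1,-1,-1,1,1,-1,-1⟩⟩,
  ⟨⟨-4,0,0,0,0,0,0,0⟩,⟨-1,1,1,-1,1,-1,-1,1⟩,⟨1,1,1,1,-1,-1,1,1⟩⟩,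
  ⟨⟨-4,0,0,0,0,0,0,0⟩,⟨0,-2,-2,0,-2,0,-2,0⟩,⟨-4,0,0,0,0,0,0,0⟩⟩,
  ⟨⟨-4,0,0,0,0,0,0,0⟩,⟨0,-2,-2,0,-2,0,-2,0⟩,⟨4,0,0,0,0,0,0,0⟩⟩,
  ⟨⟨-4,0,0,0,0,0,0,0⟩,⟨0,-2,-2,0,2,0,2,0⟩,⟨0,0,-4,0,0,0,0,0⟩⟩,
  ⟨⟨-4,0,0,0,0,0,0,0⟩,⟨0,-2,-2,0,2,0,2,0⟩,⟨0,0,4,0,0,0,0,0⟩⟩]

/-- Representatives, chunk 9. -/
def repChunk9 : List V3 := [⟨⟨-4,0,0,0,0,0,0,0⟩,⟨0,-2,2,0,-2,0,2,0⟩,⟨0,0,0,0,-4,0,0,0⟩⟩,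
  ⟨⟨-4,0,0,0,0,0,0,0⟩,⟨0,-2,2,0,-2,0,2,0⟩,⟨0,0,0,0,4,0,0,0⟩⟩,
  ⟨⟨-4,0,0,0,0,0,0,0⟩,⟨0,-2,2,0,2,0,-2,0⟩,⟨0,0,0,0,0,0,-4,0⟩⟩,
  ⟨⟨-4,0,0,0,0,0,0,0⟩,⟨0,-2,2,0,2,0,-2,0⟩,⟨0,0,0,0,0,0,4,0⟩⟩,
  ⟨⟨-4,0,0,0,0,0,0,0⟩,⟨0,0,-4,0,0,0,0,0⟩,⟨-2,0,-2,0,-2,0,0,-2⟩⟩,
  ⟨⟨-4,0,0,0,0,0,0,0⟩,⟨0,0,-4,0,0,0,0,0⟩,⟨-2,0,0,2,2,0,-2,0⟩⟩,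
  ⟨⟨-4,0,0,0,0,0,0,0⟩,⟨0,0,-4,0,0,0,0,0⟩,⟨-2,0,2,0,0,-2,2,0⟩⟩,
  ⟨⟨-4,0,0,0,0,0,0,0⟩,⟨0,0,-4,0,0,0,0,0⟩,⟨0,-2,-2,0,2,0,2,0⟩⟩,
  ⟨⟨-4,0,0,0,0,0,0,0⟩,⟨0,0,-4,0,0,0,0,0⟩,⟨0,2,2,0,-2,0,-2,0⟩⟩,
  ⟨⟨-4,0,0,0,0,0,0,0⟩,⟨0,0,-4,0,0,0,0,0⟩,⟨2,0,-2,0,0,2,-2,0⟩⟩,
  ⟨⟨-4,0,0,0,0,0,0,0⟩,⟨0,0,-4,0,0,0,0,0⟩,⟨2,0,0,-2,-2,0,2,0⟩⟩,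
  ⟨⟨-4,0,0,0,0,0,0,0⟩,⟨0,0,-4,0,0,0,0,0⟩,⟨2,0,2,0,2,0,0,2⟩⟩,
  ⟨⟨-4,0,0,0,0,0,0,0⟩,⟨0,0,0,0,-4,0,0,0⟩,⟨-2,0,-2,0,0,2,2,0⟩⟩,
  ⟨⟨-4,0,0,0,0,0,0,0⟩,⟨0,0,0,0,-4,0,0,0⟩,⟨-2,0,0,-2,-2,0,-2,0⟩⟩,
  ⟨⟨-4,0,0,0,0,0,0,0⟩,⟨0,0,0,0,-4,0,0,0⟩,⟨-2,0,2,0,2,0,0,-2⟩⟩]

/-- Representatives, chunk 10. -/
def repChunk10 : List V3 := [⟨⟨-4,0,0,0,0,0,0,0⟩,⟨0,0,0,0,-4,0,0,0⟩,⟨0,-2,2,0,-2,0,2,0⟩⟩,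
  ⟨⟨-4,0,0,0,0,0,0,0⟩,⟨0,0,0,0,-4,0,0,0⟩,⟨0,2,-2,0,2,0,-2,0⟩⟩,
  ⟨⟨-4,0,0,0,0,0,0,0⟩,⟨0,0,0,0,-4,0,0,0⟩,⟨2,0,-2,0,-2,0,0,2⟩⟩,
  ⟨⟨-4,0,0,0,0,0,0,0⟩,⟨0,0,0,0,-4,0,0,0⟩,⟨2,0,0,2,2,0,2,0⟩⟩,
  ⟨⟨-4,0,0,0,0,0,0,0⟩,⟨0,0,0,0,-4,0,0,0⟩,⟨2,0,2,0,0,-2,-2,0⟩⟩,
  ⟨⟨-4,0,0,0,0,0,0,0⟩,⟨0,0,0,0,0,0,-4,0⟩,⟨-2,0,-2,0,0,-2,-2,0⟩⟩,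
  ⟨⟨-4,0,0,0,0,0,0,0⟩,⟨0,0,0,0,0,0,-4,0⟩,⟨-2,0,0,-2,2,0,2,0⟩⟩,
  ⟨⟨-4,0,0,0,0,0,0,0⟩,⟨0,0,0,0,0,0,-4,0⟩,⟨-2,0,2,0,-2,0,0,2⟩⟩,
  ⟨⟨-4,0,0,0,0,0,0,0⟩,⟨0,0,0,0,0,0,-4,0⟩,⟨0,-2,2,0,2,0,-2,0⟩⟩,
  ⟨⟨-4,0,0,0,0,0,0,0⟩,⟨0,0,0,0,0,0,-4,0⟩,⟨0,2,-2,0,-2,0,2,0⟩⟩,
  ⟨⟨-4,0,0,0,0,0,0,0⟩,⟨0,0,0,0,0,0,-4,0⟩,⟨2,0,-2,0,2,0,0,-2⟩⟩,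
  ⟨⟨-4,0,0,0,0,0,0,0⟩,⟨0,0,0,0,0,0,-4,0⟩,⟨2,0,0,2,-2,0,-2,0⟩⟩,
  ⟨⟨-4,0,0,0,0,0,0,0⟩,⟨0,0,0,0,0,0,-4,0⟩,⟨2,0,2,0,0,2,2,0⟩⟩,
  ⟨⟨-4,0,0,0,0,0,0,0⟩,⟨0,0,0,0,0,0,4,0⟩,⟨-2,0,-2,0,0,-2,-2,0⟩⟩,
  ⟨⟨-4,0,0,0,0,0,0,0⟩,⟨0,0,0,0,0,0,4,0⟩,⟨-2,0,0,-2,2,0,2,0⟩⟩]

/-- Representatives, chunk 11. -/
def repChunk11 : List V3 := [⟨⟨-4,0,0,0,0,0,0,0⟩,⟨0,0,0,0,0,0,4,0⟩,⟨-2,0,2,0,-2,0,0,2⟩⟩,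
  ⟨⟨-4,0,0,0,0,0,0,0⟩,⟨0,0,0,0,0,0,4,0⟩,⟨0,-2,2,0,2,0,-2,0⟩⟩,
  ⟨⟨-4,0,0,0,0,0,0,0⟩,⟨0,0,0,0,0,0,4,0⟩,⟨0,2,-2,0,-2,0,2,0⟩⟩,
  ⟨⟨-4,0,0,0,0,0,0,0⟩,⟨0,0,0,0,0,0,4,0⟩,⟨2,0,-2,0,2,0,0,-2⟩⟩,
  ⟨⟨-4,0,0,0,0,0,0,0⟩,⟨0,0,0,0,0,0,4,0⟩,⟨2,0,0,2,-2,0,-2,0⟩⟩,
  ⟨⟨-4,0,0,0,0,0,0,0⟩,⟨0,0,0,0,0,0,4,0⟩,⟨2,0,2,0,0,2,2,0⟩⟩,
  ⟨⟨-4,0,0,0,0,0,0,0⟩,⟨0,0,0,0,4,0,0,0⟩,⟨-2,0,-2,0,0,2,2,0⟩⟩,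
  ⟨⟨-4,0,0,0,0,0,0,0⟩,⟨0,0,0,0,4,0,0,0⟩,⟨-2,0,0,-2,-2,0,-2,0⟩⟩,
  ⟨⟨-4,0,0,0,0,0,0,0⟩,⟨0,0,0,0,4,0,0,0⟩,⟨-2,0,2,0,2,0,0,-2⟩⟩,
  ⟨⟨-4,0,0,0,0,0,0,0⟩,⟨0,0,0,0,4,0,0,0⟩,⟨0,-2,2,0,-2,0,2,0⟩⟩,
  ⟨⟨-4,0,0,0,0,0,0,0⟩,⟨0,0,0,0,4,0,0,0⟩,⟨0,2,-2,0,2,0,-2,0⟩⟩,
  ⟨⟨-4,0,0,0,0,0,0,0⟩,⟨0,0,0,0,4,0,0,0⟩,⟨2,0,-2,0,-2,0,0,2⟩⟩,
  ⟨⟨-4,0,0,0,0,0,0,0⟩,⟨0,0,0,0,4,0,0,0⟩,⟨2,0,0,2,2,0,2,0⟩⟩,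
  ⟨⟨-4,0,0,0,0,0,0,0⟩,⟨0,0,0,0,4,0,0,0⟩,⟨2,0,2,0,0,-2,-2,0⟩⟩,
  ⟨⟨-4,0,0,0,0,0,0,0⟩,⟨0,0,4,0,0,0,0,0⟩,⟨-2,0,-2,0,-2,0,0,-2⟩⟩]

/-- Representatives, chunk 12. -/
def repChunk12 : List V3 := [⟨⟨-4,0,0,0,0,0,0,0⟩,⟨0,0,4,0,0,0,0,0⟩,⟨-2,0,0,2,2,0,-2,0⟩⟩,
  ⟨⟨-4,0,0,0,0,0,0,0⟩,⟨0,0,4,0,0,0,0,0⟩,⟨-2,0,2,0,0,-2,2,0⟩⟩,
  ⟨⟨-4,0,0,0,0,0,0,0⟩,⟨0,0,4,0,0,0,0,0⟩,⟨0,-2,-2,0,2,0,2,0⟩⟩,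
  ⟨⟨-4,0,0,0,0,0,0,0⟩,⟨0,0,4,0,0,0,0,0⟩,⟨0,2,2,0,-2,0,-2,0⟩⟩,
  ⟨⟨-4,0,0,0,0,0,0,0⟩,⟨0,0,4,0,0,0,0,0⟩,⟨2,0,-2,0,0,2,-2,0⟩⟩,
  ⟨⟨-4,0,0,0,0,0,0,0⟩,⟨0,0,4,0,0,0,0,0⟩,⟨2,0,0,-2,-2,0,2,0⟩⟩,
  ⟨⟨-4,0,0,0,0,0,0,0⟩,⟨0,0,4,0,0,0,0,0⟩,⟨2,0,2,0,2,0,0,2⟩⟩,
  ⟨⟨-4,0,0,0,0,0,0,0⟩,⟨0,2,-2,0,-2,0,2,0⟩,⟨0,0,0,0,0,0,-4,0⟩⟩,
  ⟨⟨-4,0,0,0,0,0,0,0⟩,⟨0,2,-2,0,-2,0,2,0⟩,⟨0,0,0,0,0,0,4,0⟩⟩,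
  ⟨⟨-4,0,0,0,0,0,0,0⟩,⟨0,2,-2,0,2,0,-2,0⟩,⟨0,0,0,0,-4,0,0,0⟩⟩,
  ⟨⟨-4,0,0,0,0,0,0,0⟩,⟨0,2,-2,0,2,0,-2,0⟩,⟨0,0,0,0,4,0,0,0⟩⟩,
  ⟨⟨-4,0,0,0,0,0,0,0⟩,⟨0,2,2,0,-2,0,-2,0⟩,⟨0,0,-4,0,0,0,0,0⟩⟩,
  ⟨⟨-4,0,0,0,0,0,0,0⟩,⟨0,2,2,0,-2,0,-2,0⟩,⟨0,0,4,0,0,0,0,0⟩⟩,
  ⟨⟨-4,0,0,0,0,0,0,0⟩,⟨0,2,2,0,2,0,2,0⟩,⟨-4,0,0,0,0,0,0,0⟩⟩,
  ⟨⟨-4,0,0,0,0,0,0,0⟩,⟨0,2,2,0,2,0,2,0⟩,⟨4,0,0,0,0,0,0,0⟩⟩]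

/-- Representatives, chunk 13. -/
def repChunk13 : List V3 := [⟨⟨-4,0,0,0,0,0,0,0⟩,⟨1,-1,-1,1,-1,1,1,-1⟩,⟨-1,-1,-1,-1,1,1,-1,-1⟩⟩,
  ⟨⟨-4,0,0,0,0,0,0,0⟩,⟨1,-1,-1,1,-1,1,1,-1⟩,⟨1,1,1,1,-1,-1,1,1⟩⟩,
  ⟨⟨-4,0,0,0,0,0,0,0⟩,⟨1,-1,-1,1,1,-1,-1,1⟩,⟨-1,-1,1,1,-1,-1,-1,-1⟩⟩,
  ⟨⟨-4,0,0,0,0,0,0,0⟩,⟨1,-1,-1,1,1,-1,-1,1⟩,⟨1,1,-1,-1,1,1,1,1⟩⟩,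
  ⟨⟨-4,0,0,0,0,0,0,0⟩,⟨1,-1,1,-1,-1,1,-1,1⟩,⟨-1,-1,-1,-1,-1,-1,1,1⟩⟩,
  ⟨⟨-4,0,0,0,0,0,0,0⟩,⟨1,-1,1,-1,-1,1,-1,1⟩,⟨1,1,1,1,1,1,-1,-1⟩⟩,
  ⟨⟨-4,0,0,0,0,0,0,0⟩,⟨1,-1,1,-1,1,-1,1,-1⟩,⟨-1,-1,1,1,1,1,1,1⟩⟩,
  ⟨⟨-4,0,0,0,0,0,0,0⟩,⟨1,-1,1,-1,1,-1,1,-1⟩,⟨1,1,-1,-1,-1,-1,-1,-1⟩⟩,
  ⟨⟨-4,0,0,0,0,0,0,0⟩,⟨1,1,-1,-1,-1,-1,-1,-1⟩,⟨-1,1,-1,1,-1,1,-1,1⟩⟩,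
  ⟨⟨-4,0,0,0,0,0,0,0⟩,⟨1,1,-1,-1,-1,-1,-1,-1⟩,⟨1,-1,1,-1,1,-1,1,-1⟩⟩,
  ⟨⟨-4,0,0,0,0,0,0,0⟩,⟨1,1,-1,-1,1,1,1,1⟩,⟨-1,1,1,-1,-1,1,1,-1⟩⟩,
  ⟨⟨-4,0,0,0,0,0,0,0⟩,⟨1,1,-1,-1,1,1,1,1⟩,⟨1,-1,-1,1,1,-1,-1,1⟩⟩,
  ⟨⟨-4,0,0,0,0,0,0,0⟩,⟨1,1,1,1,-1,-1,1,1⟩,⟨-1,1,1,-1,1,-1,-1,1⟩⟩,
  ⟨⟨-4,0,0,0,0,0,0,0⟩,⟨1,1,1,1,-1,-1,1,1⟩,⟨1,-1,-1,1,-1,1,1,-1⟩⟩,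
  ⟨⟨-4,0,0,0,0,0,0,0⟩,⟨1,1,1,1,1,1,-1,-1⟩,⟨-1,1,-1,1,1,-1,1,-1⟩⟩]

/-- Representatives, chunk 14. -/
def repChunk14 : List V3 := [⟨⟨-4,0,0,0,0,0,0,0⟩,⟨1,1,1,1,1,1,-1,-1⟩,⟨1,-1,1,-1,-1,1,-1,1⟩⟩,
  ⟨⟨-4,0,0,0,0,0,0,0⟩,⟨2,0,-2,0,-2,0,0,2⟩,⟨0,0,0,0,-4,0,0,0⟩⟩,
  ⟨⟨-4,0,0,0,0,0,0,0⟩,⟨2,0,-2,0,-2,0,0,2⟩,⟨0,0,0,0,4,0,0,0⟩⟩,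
  ⟨⟨-4,0,0,0,0,0,0,0⟩,⟨2,0,-2,0,0,-2,2,0⟩,⟨-4,0,0,0,0,0,0,0⟩⟩,
  ⟨⟨-4,0,0,0,0,0,0,0⟩,⟨2,0,-2,0,0,-2,2,0⟩,⟨4,0,0,0,0,0,0,0⟩⟩,
  ⟨⟨-4,0,0,0,0,0,0,0⟩,⟨2,0,-2,0,0,2,-2,0⟩,⟨0,0,-4,0,0,0,0,0⟩⟩,
  ⟨⟨-4,0,0,0,0,0,0,0⟩,⟨2,0,-2,0,0,2,-2,0⟩,⟨0,0,4,0,0,0,0,0⟩⟩,
  ⟨⟨-4,0,0,0,0,0,0,0⟩,⟨2,0,-2,0,2,0,0,-2⟩,⟨0,0,0,0,0,0,-4,0⟩⟩,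
  ⟨⟨-4,0,0,0,0,0,0,0⟩,⟨2,0,-2,0,2,0,0,-2⟩,⟨0,0,0,0,0,0,4,0⟩⟩,
  ⟨⟨-4,0,0,0,0,0,0,0⟩,⟨2,0,0,-2,-2,0,2,0⟩,⟨0,0,-4,0,0,0,0,0⟩⟩,
  ⟨⟨-4,0,0,0,0,0,0,0⟩,⟨2,0,0,-2,-2,0,2,0⟩,⟨0,0,4,0,0,0,0,0⟩⟩,
  ⟨⟨-4,0,0,0,0,0,0,0⟩,⟨2,0,0,-2,2,0,-2,0⟩,⟨-4,0,0,0,0,0,0,0⟩⟩,
  ⟨⟨-4,0,0,0,0,0,0,0⟩,⟨2,0,0,-2,2,0,-2,0⟩,⟨4,0,0,0,0,0,0,0⟩⟩,
  ⟨⟨-4,0,0,0,0,0,0,0⟩,⟨2,0,0,2,-2,0,-2,0⟩,⟨0,0,0,0,0,0,-4,0⟩⟩,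
  ⟨⟨-4,0,0,0,0,0,0,0⟩,⟨2,0,0,2,-2,0,-2,0⟩,⟨0,0,0,0,0,0,4,0⟩⟩]

/-- Representatives, chunk 15. -/
def repChunk15 : List V3 := [⟨⟨-4,0,0,0,0,0,0,0⟩,⟨2,0,0,2,2,0,2,0⟩,⟨0,0,0,0,-4,0,0,0⟩⟩,
  ⟨⟨-4,0,0,0,0,0,0,0⟩,⟨2,0,0,2,2,0,2,0⟩,⟨0,0,0,0,4,0,0,0⟩⟩,
  ⟨⟨-4,0,0,0,0,0,0,0⟩,⟨2,0,2,0,-2,0,0,-2⟩,⟨-4,0,0,0,0,0,0,0⟩⟩,
  ⟨⟨-4,0,0,0,0,0,0,0⟩,⟨2,0,2,0,-2,0,0,-2⟩,⟨4,0,0,0,0,0,0,0⟩⟩,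
  ⟨⟨-4,0,0,0,0,0,0,0⟩,⟨2,0,2,0,0,-2,-2,0⟩,⟨0,0,0,0,-4,0,0,0⟩⟩,
  ⟨⟨-4,0,0,0,0,0,0,0⟩,⟨2,0,2,0,0,-2,-2,0⟩,⟨0,0,0,0,4,0,0,0⟩⟩,
  ⟨⟨-4,0,0,0,0,0,0,0⟩,⟨2,0,2,0,0,2,2,0⟩,⟨0,0,0,0,0,0,-4,0⟩⟩,
  ⟨⟨-4,0,0,0,0,0,0,0⟩,⟨2,0,2,0,0,2,2,0⟩,⟨0,0,0,0,0,0,4,0⟩⟩,
  ⟨⟨-4,0,0,0,0,0,0,0⟩,⟨2,0,2,0,2,0,0,2⟩,⟨0,0,-4,0,0,0,0,0⟩⟩,
  ⟨⟨-4,0,0,0,0,0,0,0⟩,⟨2,0,2,0,2,0,0,2⟩,⟨0,0,4,0,0,0,0,0⟩⟩,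
  ⟨⟨-4,0,0,0,0,0,0,0⟩,⟨4,0,0,0,0,0,0,0⟩,⟨-2,0,-2,0,2,0,0,2⟩⟩,
  ⟨⟨-4,0,0,0,0,0,0,0⟩,⟨4,0,0,0,0,0,0,0⟩,⟨-2,0,0,2,-2,0,2,0⟩⟩,
  ⟨⟨-4,0,0,0,0,0,0,0⟩,⟨4,0,0,0,0,0,0,0⟩,⟨-2,0,2,0,0,2,-2,0⟩⟩,
  ⟨⟨-4,0,0,0,0,0,0,0⟩,⟨4,0,0,0,0,0,0,0⟩,⟨0,-2,-2,0,-2,0,-2,0⟩⟩,
  ⟨⟨-4,0,0,0,0,0,0,0⟩,⟨4,0,0,0,0,0,0,0⟩,⟨0,2,2,0,2,0,2,0⟩⟩]

/-- Representatives, chunk 16. -/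
def repChunk16 : List V3 := [⟨⟨-4,0,0,0,0,0,0,0⟩,⟨4,0,0,0,0,0,0,0⟩,⟨2,0,-2,0,0,-2,2,0⟩⟩,
  ⟨⟨-4,0,0,0,0,0,0,0⟩,⟨4,0,0,0,0,0,0,0⟩,⟨2,0,0,-2,2,0,-2,0⟩⟩,
  ⟨⟨-4,0,0,0,0,0,0,0⟩,⟨4,0,0,0,0,0,0,0⟩,⟨2,0,2,0,-2,0,0,-2⟩⟩,
  ⟨⟨-3,-1,-2,0,-1,-1,0,0⟩,⟨-3,1,0,0,1,-1,-2,0⟩,⟨-1,1,-2,0,1,1,0,0⟩⟩,
  ⟨⟨-3,-1,-2,0,-1,-1,0,0⟩,⟨-3,1,0,0,1,-1,-2,0⟩,⟨1,-1,2,0,-1,-1,0,0⟩⟩,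
  ⟨⟨-3,-1,-2,0,-1,-1,0,0⟩,⟨-2,0,-1,1,0,0,3,-1⟩,⟨0,0,-1,-1,-2,0,1,-1⟩⟩,
  ⟨⟨-3,-1,-2,0,-1,-1,0,0⟩,⟨-2,0,-1,1,0,0,3,-1⟩,⟨0,0,1,1,2,0,-1,1⟩⟩,
  ⟨⟨-3,-1,-2,0,-1,-1,0,0⟩,⟨-2,0,1,-1,0,0,1,1⟩,⟨0,0,-3,1,-2,0,-1,1⟩⟩,
  ⟨⟨-3,-1,-2,0,-1,-1,0,0⟩,⟨-2,0,1,-1,0,0,1,1⟩,⟨0,0,3,-1,2,0,1,-1⟩⟩,
  ⟨⟨-3,-1,-2,0,-1,-1,0,0⟩,⟨-1,-1,0,0,-1,1,-2,0⟩,⟨-1,1,2,0,-3,1,0,0⟩⟩,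
  ⟨⟨-3,-1,-2,0,-1,-1,0,0⟩,⟨-1,-1,0,0,-1,1,-2,0⟩,⟨1,-1,-2,0,3,-1,0,0⟩⟩,
  ⟨⟨-3,-1,-2,0,-1,-1,0,0⟩,⟨-1,1,-2,0,1,1,0,0⟩,⟨-3,1,0,0,1,-1,-2,0⟩⟩,
  ⟨⟨-3,-1,-2,0,-1,-1,0,0⟩,⟨-1,1,-2,0,1,1,0,0⟩,⟨3,-1,0,0,-1,1,2,0⟩⟩,
  ⟨⟨-3,-1,-2,0,-1,-1,0,0⟩,⟨-1,1,2,0,-3,1,0,0⟩,⟨-1,-1,0,0,-1,1,-2,0⟩⟩,
  ⟨⟨-3,-1,-2,0,-1,-1,0,0⟩,⟨-1,1,2,0,-3,1,0,0⟩,⟨1,1,0,0,1,-1,2,0⟩⟩]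

/-- Representatives, chunk 17. -/
def repChunk17 : List V3 := [⟨⟨-3,-1,-2,0,-1,-1,0,0⟩,⟨0,0,-3,1,-2,0,-1,1⟩,⟨-2,0,1,-1,0,0,1,1⟩⟩,
  ⟨⟨-3,-1,-2,0,-1,-1,0,0⟩,⟨0,0,-3,1,-2,0,-1,1⟩,⟨2,0,-1,1,0,0,-1,-1⟩⟩,
  ⟨⟨-3,-1,-2,0,-1,-1,0,0⟩,⟨0,0,-1,-1,-2,0,1,-1⟩,⟨-2,0,-1,1,0,0,3,-1⟩⟩,
  ⟨⟨-3,-1,-2,0,-1,-1,0,0⟩,⟨0,0,-1,-1,-2,0,1,-1⟩,⟨2,0,1,-1,0,0,-3,1⟩⟩,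
  ⟨⟨-3,-1,-2,0,-1,-1,0,0⟩,⟨0,0,1,1,2,0,-1,1⟩,⟨-2,0,-1,1,0,0,3,-1⟩⟩,
  ⟨⟨-3,-1,-2,0,-1,-1,0,0⟩,⟨0,0,1,1,2,0,-1,1⟩,⟨2,0,1,-1,0,0,-3,1⟩⟩,
  ⟨⟨-3,-1,-2,0,-1,-1,0,0⟩,⟨0,0,3,-1,2,0,1,-1⟩,⟨-2,0,1,-1,0,0,1,1⟩⟩,
  ⟨⟨-3,-1,-2,0,-1,-1,0,0⟩,⟨0,0,3,-1,2,0,1,-1⟩,⟨2,0,-1,1,0,0,-1,-1⟩⟩,
  ⟨⟨-3,-1,-2,0,-1,-1,0,0⟩,⟨1,-1,-2,0,3,-1,0,0⟩,⟨-1,-1,0,0,-1,1,-2,0⟩⟩,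
  ⟨⟨-3,-1,-2,0,-1,-1,0,0⟩,⟨1,-1,-2,0,3,-1,0,0⟩,⟨1,1,0,0,1,-1,2,0⟩⟩,
  ⟨⟨-3,-1,-2,0,-1,-1,0,0⟩,⟨1,-1,2,0,-1,-1,0,0⟩,⟨-3,1,0,0,1,-1,-2,0⟩⟩,
  ⟨⟨-3,-1,-2,0,-1,-1,0,0⟩,⟨1,-1,2,0,-1,-1,0,0⟩,⟨3,-1,0,0,-1,1,2,0⟩⟩,
  ⟨⟨-3,-1,-2,0,-1,-1,0,0⟩,⟨1,1,0,0,1,-1,2,0⟩,⟨-1,1,2,0,-3,1,0,0⟩⟩,
  ⟨⟨-3,-1,-2,0,-1,-1,0,0⟩,⟨1,1,0,0,1,-1,2,0⟩,⟨1,-1,-2,0,3,-1,0,0⟩⟩,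
  ⟨⟨-3,-1,-2,0,-1,-1,0,0⟩,⟨2,0,-1,1,0,0,-1,-1⟩,⟨0,0,-3,1,-2,0,-1,1⟩⟩]

/-- Representatives, chunk 18. -/
def repChunk18 : List V3 := [⟨⟨-3,-1,-2,0,-1,-1,0,0⟩,⟨2,0,-1,1,0,0,-1,-1⟩,⟨0,0,3,-1,2,0,1,-1⟩⟩,
  ⟨⟨-3,-1,-2,0,-1,-1,0,0⟩,⟨2,0,1,-1,0,0,-3,1⟩,⟨0,0,-1,-1,-2,0,1,-1⟩⟩,
  ⟨⟨-3,-1,-2,0,-1,-1,0,0⟩,⟨2,0,1,-1,0,0,-3,1⟩,⟨0,0,1,1,2,0,-1,1⟩⟩,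
  ⟨⟨-3,-1,-2,0,-1,-1,0,0⟩,⟨3,-1,0,0,-1,1,2,0⟩,⟨-1,1,-2,0,1,1,0,0⟩⟩,
  ⟨⟨-3,-1,-2,0,-1,-1,0,0⟩,⟨3,-1,0,0,-1,1,2,0⟩,⟨1,-1,2,0,-1,-1,0,0⟩⟩,
  ⟨⟨-3,1,-2,0,0,0,-1,1⟩,⟨-3,-1,0,0,2,0,1,1⟩,⟨0,0,-1,1,-1,-1,-2,0⟩⟩,
  ⟨⟨-3,1,-2,0,0,0,-1,1⟩,⟨-3,-1,0,0,2,0,1,1⟩,⟨0,0,1,-1,1,1,2,0⟩⟩,
  ⟨⟨-3,1,-2,0,0,0,-1,1⟩,⟨-2,0,-1,-1,-3,-1,0,0⟩,⟨-1,-1,-2,0,0,0,1,-1⟩⟩,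
  ⟨⟨-3,1,-2,0,0,0,-1,1⟩,⟨-2,0,-1,-1,-3,-1,0,0⟩,⟨1,1,2,0,0,0,-1,1⟩⟩,
  ⟨⟨-3,1,-2,0,0,0,-1,1⟩,⟨-2,0,1,1,-1,1,0,0⟩,⟨-1,-1,2,0,0,0,-3,-1⟩⟩,
  ⟨⟨-3,1,-2,0,0,0,-1,1⟩,⟨-2,0,1,1,-1,1,0,0⟩,⟨1,1,-2,0,0,0,3,1⟩⟩,
  ⟨⟨-3,1,-2,0,0,0,-1,1⟩,⟨-1,-1,-2,0,0,0,1,-1⟩,⟨-2,0,-1,-1,-3,-1,0,0⟩⟩,
  ⟨⟨-3,1,-2,0,0,0,-1,1⟩,⟨-1,-1,-2,0,0,0,1,-1⟩,⟨2,0,1,1,3,1,0,0⟩⟩,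
  ⟨⟨-3,1,-2,0,0,0,-1,1⟩,⟨-1,-1,2,0,0,0,-3,-1⟩,⟨-2,0,1,1,-1,1,0,0⟩⟩,
  ⟨⟨-3,1,-2,0,0,0,-1,1⟩,⟨-1,-1,2,0,0,0,-3,-1⟩,⟨2,0,-1,-1,1,-1,0,0⟩⟩]

/-- Representatives, chunk 19. -/
def repChunk19 : List V3 := [⟨⟨-3,1,-2,0,0,0,-1,1⟩,⟨-1,1,0,0,2,0,-1,-1⟩,⟨0,0,-3,-1,1,1,-2,0⟩⟩,
  ⟨⟨-3,1,-2,0,0,0,-1,1⟩,⟨-1,1,0,0,2,0,-1,-1⟩,⟨0,0,3,1,-1,-1,2,0⟩⟩,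
  ⟨⟨-3,1,-2,0,0,0,-1,1⟩,⟨0,0,-3,-1,1,1,-2,0⟩,⟨-1,1,0,0,2,0,-1,-1⟩⟩,
  ⟨⟨-3,1,-2,0,0,0,-1,1⟩,⟨0,0,-3,-1,1,1,-2,0⟩,⟨1,-1,0,0,-2,0,1,1⟩⟩,
  ⟨⟨-3,1,-2,0,0,0,-1,1⟩,⟨0,0,-1,1,-1,-1,-2,0⟩,⟨-3,-1,0,0,2,0,1,1⟩⟩,
  ⟨⟨-3,1,-2,0,0,0,-1,1⟩,⟨0,0,-1,1,-1,-1,-2,0⟩,⟨3,1,0,0,-2,0,-1,-1⟩⟩,
  ⟨⟨-3,1,-2,0,0,0,-1,1⟩,⟨0,0,1,-1,1,1,2,0⟩,⟨-3,-1,0,0,2,0,1,1⟩⟩,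
  ⟨⟨-3,1,-2,0,0,0,-1,1⟩,⟨0,0,1,-1,1,1,2,0⟩,⟨3,1,0,0,-2,0,-1,-1⟩⟩,
  ⟨⟨-3,1,-2,0,0,0,-1,1⟩,⟨0,0,3,1,-1,-1,2,0⟩,⟨-1,1,0,0,2,0,-1,-1⟩⟩,
  ⟨⟨-3,1,-2,0,0,0,-1,1⟩,⟨0,0,3,1,-1,-1,2,0⟩,⟨1,-1,0,0,-2,0,1,1⟩⟩,
  ⟨⟨-3,1,-2,0,0,0,-1,1⟩,⟨1,-1,0,0,-2,0,1,1⟩,⟨0,0,-3,-1,1,1,-2,0⟩⟩,
  ⟨⟨-3,1,-2,0,0,0,-1,1⟩,⟨1,-1,0,0,-2,0,1,1⟩,⟨0,0,3,1,-1,-1,2,0⟩⟩,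
  ⟨⟨-3,1,-2,0,0,0,-1,1⟩,⟨1,1,-2,0,0,0,3,1⟩,⟨-2,0,1,1,-1,1,0,0⟩⟩,
  ⟨⟨-3,1,-2,0,0,0,-1,1⟩,⟨1,1,-2,0,0,0,3,1⟩,⟨2,0,-1,-1,1,-1,0,0⟩⟩,
  ⟨⟨-3,1,-2,0,0,0,-1,1⟩,⟨1,1,2,0,0,0,-1,1⟩,⟨-2,0,-1,-1,-3,-1,0,0⟩⟩]

/-- Representatives, chunk 20. -/
def repChunk20 : List V3 := [⟨⟨-3,1,-2,0,0,0,-1,1⟩,⟨1,1,2,0,0,0,-1,1⟩,⟨2,0,1,1,3,1,0,0⟩⟩,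
  ⟨⟨-3,1,-2,0,0,0,-1,1⟩,⟨2,0,-1,-1,1,-1,0,0⟩,⟨-1,-1,2,0,0,0,-3,-1⟩⟩,
  ⟨⟨-3,1,-2,0,0,0,-1,1⟩,⟨2,0,-1,-1,1,-1,0,0⟩,⟨1,1,-2,0,0,0,3,1⟩⟩,
  ⟨⟨-3,1,-2,0,0,0,-1,1⟩,⟨2,0,1,1,3,1,0,0⟩,⟨-1,-1,-2,0,0,0,1,-1⟩⟩,
  ⟨⟨-3,1,-2,0,0,0,-1,1⟩,⟨2,0,1,1,3,1,0,0⟩,⟨1,1,2,0,0,0,-1,1⟩⟩,
  ⟨⟨-3,1,-2,0,0,0,-1,1⟩,⟨3,1,0,0,-2,0,-1,-1⟩,⟨0,0,-1,1,-1,-1,-2,0⟩⟩,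
  ⟨⟨-3,1,-2,0,0,0,-1,1⟩,⟨3,1,0,0,-2,0,-1,-1⟩,⟨0,0,1,-1,1,1,2,0⟩⟩,
  ⟨⟨0,0,0,0,0,0,0,0⟩,⟨-4,0,-4,0,0,0,0,0⟩,⟨-4,0,-4,0,0,0,0,0⟩⟩,
  ⟨⟨0,0,0,0,0,0,0,0⟩,⟨-4,0,-4,0,0,0,0,0⟩,⟨-4,0,4,0,0,0,0,0⟩⟩,
  ⟨⟨0,0,0,0,0,0,0,0⟩,⟨-4,0,-4,0,0,0,0,0⟩,⟨0,0,0,0,-4,0,-4,0⟩⟩,
  ⟨⟨0,0,0,0,0,0,0,0⟩,⟨-4,0,-4,0,0,0,0,0⟩,⟨0,0,0,0,-4,0,4,0⟩⟩,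
  ⟨⟨0,0,0,0,0,0,0,0⟩,⟨-4,0,-4,0,0,0,0,0⟩,⟨0,0,0,0,4,0,-4,0⟩⟩,
  ⟨⟨0,0,0,0,0,0,0,0⟩,⟨-4,0,-4,0,0,0,0,0⟩,⟨0,0,0,0,4,0,4,0⟩⟩,
  ⟨⟨0,0,0,0,0,0,0,0⟩,⟨-4,0,-4,0,0,0,0,0⟩,⟨4,0,-4,0,0,0,0,0⟩⟩,
  ⟨⟨0,0,0,0,0,0,0,0⟩,⟨-4,0,-4,0,0,0,0,0⟩,⟨4,0,4,0,0,0,0,0⟩⟩]

/-- The representatives of the 315 lines. -/
def repTab : List (List V3) := [repChunk0, repChunk1, repChunk2, repChunk3, repChunk4, repChunk5, repChunk6, repChunk7, repChunk8, repChunk9, repChunk10, repChunk11, repChunk12, repChunk13, repChunk14, repChunk15, repChunk16, repChunk17, repChunk18, repChunk19, repChunk20]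

/-- The 120 units. -/
def unitsL : List V8 := [⟨4,0,0,0,0,0,0,0⟩,
  ⟨-4,0,0,0,0,0,0,0⟩,
  ⟨-2,0,-2,0,-2,0,-2,0⟩,
  ⟨-2,0,-2,0,-2,0,2,0⟩,
  ⟨-2,0,-2,0,2,0,-2,0⟩,
  ⟨-2,0,-2,0,2,0,2,0⟩,
  ⟨-2,0,-1,-1,-1,1,0,0⟩,
  ⟨-2,0,-1,-1,1,-1,0,0⟩,
  ⟨-2,0,-1,1,0,0,-1,-1⟩,
  ⟨-2,0,-1,1,0,0,1,1⟩,
  ⟨-2,0,0,0,-1,-1,-1,1⟩,
  ⟨-2,0,0,0,-1,-1,1,-1⟩,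
  ⟨-2,0,0,0,1,1,-1,1⟩,
  ⟨-2,0,0,0,1,1,1,-1⟩,
  ⟨-2,0,1,-1,0,0,-1,-1⟩,
  ⟨-2,0,1,-1,0,0,1,1⟩,
  ⟨-2,0,1,1,-1,1,0,0⟩,
  ⟨-2,0,1,1,1,-1,0,0⟩,
  ⟨-2,0,2,0,-2,0,-2,0⟩,
  ⟨-2,0,2,0,-2,0,2,0⟩,
  ⟨-2,0,2,0,2,0,-2,0⟩,
  ⟨-2,0,2,0,2,0,2,0⟩,
  ⟨-1,-1,-2,0,0,0,-1,1⟩,
  ⟨-1,-1,-2,0,0,0,1,-1⟩,
  ⟨-1,-1,-1,1,-2,0,0,0⟩,
  ⟨-1,-1,-1,1,2,0,0,0⟩,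
  ⟨-1,-1,0,0,-1,1,-2,0⟩,
  ⟨-1,-1,0,0,-1,1,2,0⟩,
  ⟨-1,-1,0,0,1,-1,-2,0⟩,
  ⟨-1,-1,0,0,1,-1,2,0⟩,
  ⟨-1,-1,1,-1,-2,0,0,0⟩,
  ⟨-1,-1,1,-1,2,0,0,0⟩,
  ⟨-1,-1,2,0,0,0,-1,1⟩,
  ⟨-1,-1,2,0,0,0,1,-1⟩,
  ⟨-1,1,-2,0,-1,-1,0,0⟩,
  ⟨-1,1,-2,0,1,1,0,0⟩,
  ⟨-1,1,-1,-1,0,0,-2,0⟩,
  ⟨-1,1,-1,-1,0,0,2,0⟩,
  ⟨-1,1,0,0,-2,0,-1,-1⟩,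
  ⟨-1,1,0,0,-2,0,1,1⟩,
  ⟨-1,1,0,0,2,0,-1,-1⟩,
  ⟨-1,1,0,0,2,0,1,1⟩,
  ⟨-1,1,1,1,0,0,-2,0⟩,
  ⟨-1,1,1,1,0,0,2,0⟩,
  ⟨-1,1,2,0,-1,-1,0,0⟩,
  ⟨-1,1,2,0,1,1,0,0⟩,
  ⟨0,0,-4,0,0,0,0,0⟩,
  ⟨0,0,-2,0,-1,1,-1,-1⟩,
  ⟨0,0,-2,0,-1,1,1,1⟩,
  ⟨0,0,-2,0,1,-1,-1,-1⟩,
  ⟨0,0,-2,0,1,-1,1,1⟩,
  ⟨0,0,-1,-1,-2,0,-1,1⟩,
  ⟨0,0,-1,-1,-2,0,1,-1⟩,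
  ⟨0,0,-1,-1,2,0,-1,1⟩,
  ⟨0,0,-1,-1,2,0,1,-1⟩,
  ⟨0,0,-1,1,-1,-1,-2,0⟩,
  ⟨0,0,-1,1,-1,-1,2,0⟩,
  ⟨0,0,-1,1,1,1,-2,0⟩,
  ⟨0,0,-1,1,1,1,2,0⟩,
  ⟨0,0,0,0,-4,0,0,0⟩,
  ⟨0,0,0,0,0,0,-4,0⟩,
  ⟨0,0,0,0,0,0,4,0⟩,
  ⟨0,0,0,0,4,0,0,0⟩,
  ⟨0,0,1,-1,-1,-1,-2,0⟩,
  ⟨0,0,1,-1,-1,-1,2,0⟩,
  ⟨0,0,1,-1,1,1,-2,0⟩,
  ⟨0,0,1,-1,1,1,2,0⟩,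
  ⟨0,0,1,1,-2,0,-1,1⟩,
  ⟨0,0,1,1,-2,0,1,-1⟩,
  ⟨0,0,1,1,2,0,-1,1⟩,
  ⟨0,0,1,1,2,0,1,-1⟩,
  ⟨0,0,2,0,-1,1,-1,-1⟩,
  ⟨0,0,2,0,-1,1,1,1⟩,
  ⟨0,0,2,0,1,-1,-1,-1⟩,
  ⟨0,0,2,0,1,-1,1,1⟩,
  ⟨0,0,4,0,0,0,0,0⟩,
  ⟨1,-1,-2,0,-1,-1,0,0⟩,
  ⟨1,-1,-2,0,1,1,0,0⟩,
  ⟨1,-1,-1,-1,0,0,-2,0⟩,
  ⟨1,-1,-1,-1,0,0,2,0⟩,
  ⟨1,-1,0,0,-2,0,-1,-1⟩,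
  ⟨1,-1,0,0,-2,0,1,1⟩,
  ⟨1,-1,0,0,2,0,-1,-1⟩,
  ⟨1,-1,0,0,2,0,1,1⟩,
  ⟨1,-1,1,1,0,0,-2,0⟩,
  ⟨1,-1,1,1,0,0,2,0⟩,
  ⟨1,-1,2,0,-1,-1,0,0⟩,
  ⟨1,-1,2,0,1,1,0,0⟩,
  ⟨1,1,-2,0,0,0,-1,1⟩,
  ⟨1,1,-2,0,0,0,1,-1⟩,
  ⟨1,1,-1,1,-2,0,0,0⟩,
  ⟨1,1,-1,1,2,0,0,0⟩,
  ⟨1,1,0,0,-1,1,-2,0⟩,
  ⟨1,1,0,0,-1,1,2,0⟩,
  ⟨1,1,0,0,1,-1,-2,0⟩,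
  ⟨1,1,0,0,1,-1,2,0⟩,
  ⟨1,1,1,-1,-2,0,0,0⟩,
  ⟨1,1,1,-1,2,0,0,0⟩,
  ⟨1,1,2,0,0,0,-1,1⟩,
  ⟨1,1,2,0,0,0,1,-1⟩,
  ⟨2,0,-2,0,-2,0,-2,0⟩,
  ⟨2,0,-2,0,-2,0,2,0⟩,
  ⟨2,0,-2,0,2,0,-2,0⟩,
  ⟨2,0,-2,0,2,0,2,0⟩,
  ⟨2,0,-1,-1,-1,1,0,0⟩,
  ⟨2,0,-1,-1,1,-1,0,0⟩,
  ⟨2,0,-1,1,0,0,-1,-1⟩,
  ⟨2,0,-1,1,0,0,1,1⟩,
  ⟨2,0,0,0,-1,-1,-1,1⟩,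
  ⟨2,0,0,0,-1,-1,1,-1⟩,
  ⟨2,0,0,0,1,1,-1,1⟩,
  ⟨2,0,0,0,1,1,1,-1⟩,
  ⟨2,0,1,-1,0,0,-1,-1⟩,
  ⟨2,0,1,-1,0,0,1,1⟩,
  ⟨2,0,1,1,-1,1,0,0⟩,
  ⟨2,0,1,1,1,-1,0,0⟩,
  ⟨2,0,2,0,-2,0,-2,0⟩,
  ⟨2,0,2,0,-2,0,2,0⟩,
  ⟨2,0,2,0,2,0,-2,0⟩,
  ⟨2,0,2,0,2,0,2,0⟩]

/-- The packed generator tables. -/
def genTab : List ℕ := [16163810440567599571389521723939308480725119278977942912935445291885589718212632612143936486784203556596121417574283422106686962749265307212678985270455454261234330563555512377802661735237547992730603996049989896496810525748375968976209951657049204578120167148944714452175027394741547939874909202468686985205116608568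009507453373700599288797615055650863044489435503540170513283592595215220154197531610589222227882200091243199396954249976114607787870412380367656897054164593636790884460538873264107728720018729280061144913461207601861079950167814156334132348243252549025421575839672058633465135314731151576552393677558207281878799649490789870068899324316129857218242136402699361244926855062140950584280930665229902242882571661925329207206086113110856010958760577457425323152350545212686589832741082433134122483547814936274116710491072796158872580765778432,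
  15803669948803474447722574055519384399949054911089857738380646243737758418250392882487505901417360833152113178237215951681455587233724783073107679416738750720449126151935445815511429085537180606520426454057230054189749937281768219776965590500246439165721407211417312292964797203990555884084183824199055403726434920405430454371092751936289677557876451359335415813857001328923618124340326081460286567931880907950374555542404771945060115768381097692467518032785785976352925108004571192977319693467201422969122174666407929704160155630144491492217871517736336969747777198548573870783016015811017467647102098798877452624511420860742598022201153483910395800177767538015741285086128239900867083155642684310468152270909176262130664996529953945906046525359629998088120830452058784693942578108110390723291119535205082212310947740534773932674985692796702606802551296,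
  4990391567426499381666549118822444722633601772904611666891487128508425783720917814394528026626732577970373467110621978007765503048807392483067028974387602613891599135174846888949804674592299110345671503842798799874378331440529931230216527824034480450814742425124415875889383491604290298448063982563853821658718046940372180191725395919108324733669578393381469698090535523650661647972485931333456829820242183122338853591680896032659729398244820413295629546202643371366642100692994951036329154458940297852750603785501549317247897254324358828618424510592296274186602884703924307544453557129405973280138072208940785640322331711946938022083518542678862489084911175013972590399298040507808972900979113955773598338610696494377737489895868159623087441172104449756712527221890104429854965874525365097901582229478111829598820468263833854285698273477762468822243058,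
  7992444639186842681576623978822783832197185284767885745967540613533223491408099799675269402251787114994004804957106657822995733484473172071632724530177166570186365515822865204258877124109895020053698739622644493096358105156251009132511738328990130915150982464096670734128161447415150745923862762425784283275302717369161596801246417337066547928200918937452017914392427119247276704480348822300002120482406450708145833943848002624601558000030719620259568909397948919360329351414532607820780419479453272742597962509856474891331170756763445473873829459832205336897369414366746082304189248631544234634578843750086152449637103912612229804926867688411305831935696838148365196168629238621524741065323683383437837780322975305599612917198400188312987955450257198120057259037872867887654425077731931658624864045566448118607382173642521552961192908413435119471695592]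

/-- The packed unit factors. -/
def unitTab : List ℕ := [645144443210657199136633525166032931400449864974304163303947061055287859104322735657652915733390428810661420282866688304159548728803369932292237546709727607875754293337258740945160148295766271649515530273464615775804728718022079745901138979551687316600244438085994686991104624369593150937242196469541424679747750904096280401726666742753320302142375512291799907365310524321878036617610469530394331563715289768197288744930137462602925625960042590735369209830402430674781519794371841548587275578862293891554201389701635911790918454571965503605009159550108496969334637918648761547909348989562932574900731437714862317513083401142135473521057679278081,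
  46487556384698589436269686639339076022801629017688951281369700899036633479614480657386387731878501803221053007759066637441926641188752930228308385065299974495068317892270192341644008835625990590566684303455190070641430337188071828875542205893464702316932599704697234273199229532890610986705862678063360452708840092121371222784532007941084100469542278314100906429962243365070531701405017714330875147387858213626156213117297238338373631190293303177164203940702632797625417206520929265302581749312891685128469129403121060953163131142725822776081246828115993808387690105279618628449108934113841207300030081352111410063362699920224723132075964706092886148160799375488,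
  2310569063867128657175393746717517905690119354052649554465474059830038568220111990189636700092753999914737611692005583216637319840974518461208292729509442011981409217398266906263470254002190319395519184999766369948773686106734531052100005061513681271938281451323324824397938172648066492309424146085882054937730109859996325683370472787498347693053925691993734316782478823251117360373349986797611407193612557781032466173352206553554824236800956403739684354877924972325141687864848093070944126984144658179680276324085109419716232736634859870455752872402147359798335109247699610076028688730576992708975165640241400047005060877077543706157081238680023877579650999549953,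
  560113872526965310893122332137716750219625690536112195610459024794252528458465217623643084777865306415938916515006188947283153867944144914646694843004487850364827090635501921932911726882506405271609244141477906028355477855734110510130707491300567167587337801204464545983084006927659274009064459909271124530652537363879415827954832961594997285338135462682657161009421409881686337627740105624540731918001157048286877881234739628003522125226965431759221040762606806127332606568500507052459935020155755059879911101775665042328457766632305971028287409392745286717475864128535291306624349711144606793210896363216816833145105985865946510811601740045094425789659914115201]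

/-- Words certifying an orbit. -/
def words0 : List (ℕ × List ℕ) := [(0, []),
  (1, [2,1,0,2]),
  (2, [3,1,3]),
  (3, [2,3,1,3]),
  (4, [3,1,2,3,1,2,3,1,2]),
  (5, [2,3,2,3,1,3]),
  (6, [3,2,3,2,1,3,1,2]),
  (7, [2,3,1,2,0,3]),
  (8, [2,1,3,2,3,1,2,3,2]),
  (9, [2,3,0,2,1,3,0,2]),
  (10, [0,3,2,1,0,2]),
  (11, [3,2,1,0,2]),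
  (12, [2,3,0,2,1,3,1,2]),
  (13, [2,0,3,2,1,3,2,3]),
  (14, [0,2,3,1,2,0,3]),
  (15, [0,3,2,3,2,1,3,1,2]),
  (16, [2,1,3,2,1,3,2]),
  (17, [3,0,2,3,2,3,1,3,0,2]),
  (18, [0,2,3,1,3]),
  (19, [0,2,3,2,1,3,1,2]),
  (20, [1,2,3,2,1,3,1,2]),
  (21, [3,2,3,1,2]),
  (22, [2,1,3,2,3]),
  (23, [2,1,3,2,3,1,3,1,2]),
  (24, [2,3,1,2,3,1,2,3,2]),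
  (25, [2,0,3,1,2,0,3]),
  (26, [3,2,0,3,1,3,2]),
  (27, [3,1,2,0,3,1,2]),
  (28, [1,3,2,0,3,1,3,2]),
  (29, [3,2,3,0,2,3,1,3,0,2]),
  (30, [3,2,0,3,2,3,1,3,0,2]),
  (31, [1,3,2,3,1,2]),
  (32, [0,3,2,3,1,2]),
  (33, [2,0,3,2,3,1,3,2]),
  (34, [2,3,2,1,3,1,2]),
  (35, [1,3,2,3,2,0,3,1,2]),
  (36, [0,3,2,3,2,0,3,1,2]),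
  (37, [0,2,0,3,2,3,1,3,0,2]),
  (38, [1,2,0,3,2,3,1,3,0,2]),
  (39, [3,1,3,1,2]),
  (40, [0,3,1,3,2]),
  (41, [2,0,3,1,0,2]),
  (42, [2,1,3,2]),
  (43, [0,2,1,3,2]),
  (44, [1,2,1,3,2]),
  (45, [3,1,3,2]),
  (46, [3,1,3,0,2]),
  (47, [3,2,3,1,3,2,3,1,2]),
  (48, [2,0,3,2,3,1,3,0,2]),
  (49, [3,2,3,2,0,3,1,2]),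
  (50, [1,0,3,2,3,2,0,3,1,2]),
  (51, [2,3,2,1,3,2,0,3,1,2]),
  (52, [2,1,3,1,2,3,1,2,3,2]),
  (53, [3,0,2,3,2,1,0,2]),
  (54, [3,0,2,1,3,0,2]),
  (55, [2,3,1,2]),
  (56, [1,0,2,3,1,2]),
  (57, [2,3,1,2,3,0,2]),
  (58, [1,2,3,1,2,3,1,2]),
  (59, [1,2,3,1,2,3,0,2]),
  (60, [2,3,1,2,3,1,2]),
  (61, [1,2,3,1,2]),
  (62, [0,2,3,1,2]),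
  (63, [2,1,3,0,2,1,3]),
  (64, [1,3,0,2,1,3,0,2]),
  (65, [1,2,3,2,1,3,2,0,3,1,2]),
  (66, [3,1,2,3,1,3,2,3,2]),
  (67, [1,3,2,3,1,2,3,2]),
  (68, [0,3,2,3,1,2,3,2]),
  (69, [3,0,2,3,1,3,2]),
  (70, [1,2,0,3,2,1,3]),
  (71, [1,3,1,2,3,0,2]),
  (72, [0,3,1,2,3,0,2]),
  (73, [0,3,1,3,2,1,3]),
  (74, [3,2,1,3,1,2]),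
  (75, [0,3,2,1,3,1,2]),
  (76, [3,1,3,2,1,3]),
  (77, [3,1,2,3,0,2]),
  (78, [3,1,3,2,3,2]),
  (79, [3,1,2,3,1,3,1,2]),
  (80, [2,0,3,2,1,3]),
  (81, [3,2,3,1,2,3,2]),
  (82, [2,3,2,1,3,2,3]),
  (83, [0,2]),
  (84, [3,2,1,3,2]),
  (85, [3,2,0,3,1,3,2,1,3]),
  (86, [3,1,2,3,2,0,3,1,2]),
  (87, [2,3,1,2,3,2,0,3,1,2]),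
  (88, [2,3,2,0,3,1,3,2,1,3]),
  (89, [2,3,2,1,3,2]),
  (90, [1,2]),
  (91, [3,2,3,1,3,2]),
  (92, [1,0,3,2,3,1,3,2]),
  (93, [0,3]),
  (94, [1,3]),
  (95, [1,2,3,1,3,2,3,2]),
  (96, [2,3,2,0,3,1,2]),
  (97, [3,1,2,3,2,3]),
  (98, [3,1,2,0,3]),
  (99, [3,0,2,1,3,1,2]),
  (100, [3,0,2,1,3]),
  (101, [0,3,2,3,1,2,0,3]),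
  (102, [3,0,2,3,1,2,0,3]),
  (103, [1,0,2,0,3,2,3,1,3,1,2]),
  (104, [2,0,3,2,3,1,3,1,2]),
  (105, [2,1,3,2,0,3,1,2]),
  (106, [2,1,3,1,2,3,1,2]),
  (107, [0,3,2,3,0,2,1,3,0,2]),
  (108, [3,2,3,0,2,1,3,1,2]),
  (109, [1,3,2,1,3,2,3]),
  (110, [0,3,2,1,3,2,3]),
  (111, [2,3,0,2,3,1,3,0,2]),
  (112, [2,3,1,3,2,3,1,2]),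
  (113, [2,3,2,3,1,3,1,2]),
  (114, [1,0,2,3,2,3,1,3,1,2]),
  (115, [2,3,2,1,3,0,2]),
  (116, [0,2,0,3,1,3,2]),
  (117, [1,2,3,0,2,3,1,2]),
  (118, [2,3,1,2,3,2]),
  (119, [1,0,2,1,3,0,2]),
  (120, [2,1,3,0,2]),
  (121, [0,3,1,2]),
  (122, [1,3,1,2]),
  (123, [3,2,3,2,1,3,2,3]),
  (124, [2,1,0,3,2,1,3]),
  (125, [2,0,3,1,2]),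
  (126, [1,0,2,0,3,1,2]),
  (127, [3,2,3]),
  (128, [1,3,0,2]),
  (129, [3,2,1,3,0,2]),
  (130, [0,2,3,1,3,0,2]),
  (131, [2,3,0,2]),
  (132, [1,0,2,3,0,2]),
  (133, [1,3,0,2,3,1,2]),
  (134, [0,3,0,2,3,1,2]),
  (135, [0,2,1,0,3,1,2]),
  (136, [1,2,1,0,3,1,2]),
  (137, [2,0,3,2,1,3,0,2]),
  (138, [2,1,0,2,3,1,3,2]),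
  (139, [3,1,0,2,1,3,0,2]),
  (140, [3,2,3,1,3,2,3,2]),
  (141, [2,0,3,2,1,3,1,2]),
  (142, [2,3,2,3,1,3,0,2]),
  (143, [3,1,2,3,0,2,1,3]),
  (144, [0,3,1,3,2,3,1,2]),
  (145, [1,2,0,3,2,3,2,1,0,2]),
  (146, [3,0,2,3,1,3,0,2]),
  (147, [1,2,1,3]),
  (148, [0,3,2,3,1,3,1,2]),
  (149, [1,3,1,2,3,1,2,3,2]),
  (150, [1,2,3,2]),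
  (151, [2,0,3]),
  (152, [3,2,1,3,0,2,3,1,2]),
  (153, [1,3,2,3,1,3,1,2]),
  (154, [0,2,1,3]),
  (155, [3,2,3,1,2,3,2,3]),
  (156, [2,3,2,3,0,2,1,3,1,2]),
  (157, [3,2,0,3,1,2]),
  (158, [0,3,1,2,3,1,2]),
  (159, [1,3,1,2,3,1,2]),
  (160, [3,2,3,2,1,3,0,2]),
  (161, [3,2,1,3,2,3,1,3,2]),
  (162, [3,0,2,3,2,1,3,1,2]),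
  (163, [1,3,2,3,1,2,3,2,3]),
  (164, [0,3,2,1,3,2,3,1,3,2]),
  (165, [1,3,2,0,3,1,2]),
  (166, [3,2,1,3,2,1,3]),
  (167, [3,1,2,3,1,2]),
  (168, [0,3,2,0,3,1,2]),
  (169, [2,3,0,2,3,2,1,3,0,2]),
  (170, [0,3,2,3,1,2,3,2,3]),
  (171, [2,1,3]),
  (172, [3,2,1,3,2,0,3,1,2]),
  (173, [3,1,2,3,1,2,3,2]),
  (174, [2,3,2]),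
  (175, [1,2,0,3]),
  (176, [1,3,2,1,3,0,2,3,1,2]),
  (177, [3,2,3,1,3,1,2]),
  (178, [1,0,2,1,3]),
  (179, [2,3,1,3,2,1,3]),
  (180, [1,3,2,3,1,3,2,3,2]),
  (181, [3,1,3,2,3,1,2]),
  (182, [1,2,3,2,3,1,3,0,2]),
  (183, [0,2,3,2,3,1,3,0,2]),
  (184, [3,1,3,0,2,3,1,2]),
  (185, [2,0,3,2,3,2,1,0,2]),
  (186, [2,3,2,3,1,3,2]),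
  (187, [1,2,0,3,2,1,3,0,2]),
  (188, [0,2,0,3,2,1,3,0,2]),
  (189, [3,1,0,2,1,3]),
  (190, [2,1,0,3,1,2]),
  (191, [3,0,2,3,1,2]),
  (192, [2,1,3,2,1,3]),
  (193, [1,2,3,0,2]),
  (194, [0,2,3,0,2]),
  (195, [2,3,1,3,0,2]),
  (196, [0,3,2,1,3,0,2]),
  (197, [1,3,2,3]),
  (198, [3,0,2]),
  (199, [1,2,0,3,1,2]),
  (200, [0,2,0,3,1,2]),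
  (201, [2,1,3,0,2,3,1,2]),
  (202, [1,2,1,0,3,2,1,3]),
  (203, [1,0,3,1,2]),
  (204, [3,1,2]),
  (205, [0,2,1,3,0,2]),
  (206, [1,2,1,3,0,2]),
  (207, [2,3,0,2,3,1,2]),
  (208, [1,2,3,1,2,3,2]),
  (209, [2,0,3,1,3,2]),
  (210, [0,2,3,2,1,3,0,2]),
  (211, [1,2,3,2,3,1,3,1,2]),
  (212, [0,2,3,2,3,1,3,1,2]),
  (213, [2,1,3,2,3,1,3,2]),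
  (214, [2,0,3,1,3,2,1,3]),
  (215, [3,2,1,3,2,3]),
  (216, [3,1,0,2,3,1,2]),
  (217, [2,3,1,3,2,0,3,1,2]),
  (218, [3,2,3,0,2,1,3,0,2]),
  (219, [3,1,2,0,3,2,1,3]),
  (220, [3,1,2,3,1,3,2]),
  (221, [0,2,0,3,2,3,1,3,1,2]),
  (222, [1,2,0,3,2,3,1,3,1,2]),
  (223, [0,3,0,2,3,1,2,0,3]),
  (224, [3,2,3,1,2,0,3]),
  (225, [0,3,0,2,1,3]),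
  (226, [1,3,0,2,1,3]),
  (227, [0,3,1,2,0,3]),
  (228, [1,3,1,2,0,3]),
  (229, [2,3,1,3,2,3,2]),
  (230, [1,2,3,2,0,3,1,2]),
  (231, [1,0,3]),
  (232, [3]),
  (233, [1,3,2,3,1,3,2]),
  (234, [0,3,2,3,1,3,2]),
  (235, [1,0,2]),
  (236, [1,3,2,1,3,2]),
  (237, [1,3,2,0,3,1,3,2,1,3]),
  (238, [2,3,2,3,2,1,3,1,2]),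
  (239, [0,3,1,2,3,2,0,3,1,2]),
  (240, [2,3,1,2,3,1,2,3,1,2]),
  (241, [3,2,3,1,3]),
  (242, [2]),
  (243, [3,1,2,3]),
  (244, [3,1,0,2]),
  (245, [3,0,2,3,2,1,3,0,2]),
  (246, [3,2,0,3,1,2,0,3]),
  (247, [1,3,2,3,2]),
  (248, [2,3,2,3]),
  (249, [1,2,3,1,3,1,2]),
  (250, [0,2,3,1,3,1,2]),
  (251, [0,3,2,1,3]),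
  (252, [1,3,2,1,3]),
  (253, [1,3,2,3,0,2,3,1,2]),
  (254, [0,3,2,3,0,2,3,1,2]),
  (255, [1,0,2,3,2,1,0,2]),
  (256, [2,3,2,1,0,2]),
  (257, [2,0,3,1,2,1,3]),
  (258, [2,1,0,2,0,3,1,2]),
  (259, [2,3,1,0,2,1,3]),
  (260, [2,1,0,2,3,1,2]),
  (261, [0,2,3,2,1,0,2]),
  (262, [1,2,3,2,1,0,2]),
  (263, [3,2,3,0,2,3,1,2]),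
  (264, [1,0,3,2,3,0,2,3,1,2]),
  (265, [1,0,3,2,1,3]),
  (266, [3,2,1,3]),
  (267, [2,3,1,3,1,2]),
  (268, [1,0,2,3,1,3,1,2]),
  (269, [3,2,3,2]),
  (270, [1,2,3,2,3]),
  (271, [3,2,3,2,0,3,1,0,2]),
  (272, [3,1,3,2,0,3,1,2]),
  (273, [0,3,1,0,2]),
  (274, [2,1,0,3]),
  (275, [2,3,2,0,3,1,0,2]),
  (276, [2,0,3,2,1,0,2]),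
  (277, [0,3,2,3,2,1,0,2]),
  (278, [3,2,3,1,3,0,2]),
  (279, [1,2,3,1,3,2]),
  (280, [0,2,3,1,3,2]),
  (281, [3,1,2,1,3]),
  (282, [0,2,1,3,1,2]),
  (283, [1,3,2]),
  (284, [2,3]),
  (285, [2,3,2,1,3]),
  (286, [3,1,2,3,2]),
  (287, [2,3,0,2,3,2,1,3,1,2]),
  (288, [3,1,2,1,0,3,2,1,3]),
  (289, [2,1,3,2,3,2]),
  (290, [1,2,3,2,3,1,2]),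
  (291, [2,1,0,2,3,0,2]),
  (292, [2,3,2,3,1,2]),
  (293, [3,1,3,2,3,1,2,3,2]),
  (294, [2,3,2,3,0,2,1,3,0,2]),
  (295, [0,3,1,2,3,2]),
  (296, [1,3,1,2,3,2]),
  (297, [3,2]),
  (298, [1,2,3]),
  (299, [2,1,3,1,2]),
  (300, [0,3,1,2,1,3]),
  (301, [2,3,1,3,2]),
  (302, [1,0,2,3,1,3,2]),
  (303, [0,3,2,3,1,3,0,2]),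
  (304, [3,2,3,2,1,0,2]),
  (305, [3,0,2,0,3,1,2]),
  (306, [1,2,0,3,2,1,0,2]),
  (307, [2,3,1,2,0,3,1,2]),
  (308, [1,3,2,1,3,2,3,2]),
  (309, [2,3,0,2,1,3]),
  (310, [3,2,3,2,1,3,2]),
  (311, [3,2,0,3,1,0,2]),
  (312, [1,2,3,0,2,1,3]),
  (313, [3,2,1,3,2,3,2]),
  (314, [2,3,1,2,3,2,3])]

/-- Words certifying an orbit. -/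
def words1 : List (ℕ × List ℕ) := [(83, []),
  (84, [1,3,2,0,3,2,1,3,2,0,3,2]),
  (85, [1,3,2,0,3,2,1,3,2,0,3,2,3,2,0,3,2,1,0]),
  (86, [3,2,0,3,2,3,2,0,3,2,1,3,2,0,3,2,3,2,0,3,2,3,2,0,3,2,3,2,0,3,2]),
  (87, [3,2,0,3,2,3,2,0,3,2,1,3,2,0,3,2,3,2,0,3,2,3,2,0,3,2,1,3,2,0,3,2]),
  (88, [3,2,0,3,2,1,3,2,0,3,2,3,2,0,3,2,1]),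
  (89, [3,2,0,3,2,1,3,2,0,3,2,0]),
  (90, [1,0]),
  (91, [3,2,0,3,2,1,3,2,0,3,2,3,2,0,3,2]),
  (92, [1,3,2,0,3,2,1,3,2,0,3,2,3,2,0,3,2,0]),
  (93, [3,2,0,3,2,3,2,0,3,2]),
  (94, [1,3,2,0,3,2,3,2,0,3,2,0]),
  (95, [3,2,0,3,2,3,2,0,3,2,1,3,2,0,3,2,3,2,0,3,2,1,3,2,0,3,2,3,2,0,3,2,0]),
  (96, [3,2,0,3,2,3,2,0,3,2,3,2,0,3,2,1,3,2,0,3,2,3,2,0,3,2,3,2,0,3,2,1]),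
  (97, [3,2,0,3,2,3,2,0,3,2,1,3,2,0,3,2,3,2,0,3,2,3,2,0,3,2,0]),
  (98, [1,3,2,0,3,2,3,2,0,3,2,1,3,2,0,3,2,3,2,0,3,2,3,2,0,3,2]),
  (99, [3,2,0,3,2,3,2,0,3,2,3,2,0,3,2,3,2,0,3,2,1,3,2,0,3,2,1]),
  (100, [3,2,0,3,2,3,2,0,3,2,3,2,0,3,2,3,2,0,3,2,1,3,2,0,3,2]),
  (101, [1,3,2,0,3,2,3,2,0,3,2,3,2,0,3,2,1,0]),
  (102, [3,2,0,3,2,3,2,0,3,2,3,2,0,3,2,1]),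
  (103, [1,3,2,0,3,2,1,3,2,0,3,2,1]),
  (104, [3,2,0,3,2,1,3,2,0,3,2,1,0]),
  (105, [3,2,0,3,2,3,2,0,3,2,1,3,2,0,3,2,1,3,2,0,3,2,3,2,0,3,2,3,2,0,3,2]),
  (106, [3,2,0,3,2,3,2,0,3,2,3,2,0,3,2,3,2,0,3,2,1,3,2,0,3,2,3,2,0,3,2,1]),
  (107, [3,2,0,3,2,3,2,0,3,2,1,3,2,0,3,2,3,2,0,3,2,3,2,0,3,2,3,2,0,3,2,1]),
  (108, [3,2,0,3,2,3,2,0,3,2,3,2,0,3,2,1,3,2,0,3,2,1,3,2,0,3,2,3,2,0,3,2]),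
  (109, [3,2,0,3,2,3,2,0,3,2,3,2,0,3,2,1,3,2,0,3,2,3,2,0,3,2]),
  (110, [3,2,0,3,2,3,2,0,3,2,3,2,0,3,2,1,3,2,0,3,2,3,2,0,3,2,1]),
  (111, [1,3,2,0,3,2,1,3,2,0,3,2,1,3,2,0,3,2,1,0]),
  (112, [3,2,0,3,2,1,3,2,0,3,2,1,3,2,0,3,2,1]),
  (113, [3,2,0,3,2,3,2,0,3,2,3,2,0,3,2,1,3,2,0,3,2,3,2,0,3,2,3,2,0,3,2,3,2,0,3,2,1]),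
  (114, [3,2,0,3,2,1,3,2,0,3,2,3,2,0,3,2,3,2,0,3,2,1,3,2,0,3,2,3,2,0,3,2,3,2,0,3,2]),
  (115, [1,3,2,0,3,2,3,2,0,3,2,3,2,0,3,2,1,3,2,0,3,2]),
  (116, [3,2,0,3,2,3,2,0,3,2,3,2,0,3,2,1,3,2,0,3,2,0]),
  (117, [1,3,2,0,3,2,3,2,0,3,2,3,2,0,3,2,3,2,0,3,2,1]),
  (118, [3,2,0,3,2,3,2,0,3,2,3,2,0,3,2,3,2,0,3,2,1,0]),
  (119, [3,2,0,3,2,3,2,0,3,2,1,3,2,0,3,2,3,2,0,3,2,0]),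
  (120, [1,3,2,0,3,2,3,2,0,3,2,1,3,2,0,3,2,3,2,0,3,2]),
  (121, [3,2,0,3,2,1,3,2,0,3,2,3,2,0,3,2,3,2,0,3,2]),
  (122, [1,3,2,0,3,2,1,3,2,0,3,2,3,2,0,3,2,3,2,0,3,2,0]),
  (123, [3,2,0,3,2,1,3,2,0,3,2,1,3,2,0,3,2,3,2,0,3,2,0]),
  (124, [3,2,0,3,2,3,2,0,3,2,3,2,0,3,2,1,3,2,0,3,2,1]),
  (125, [3,2,0,3,2,1,3,2,0,3,2,3,2,0,3,2,3,2,0,3,2,1,0]),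
  (126, [3,2,0,3,2,3,2,0,3,2,1,3,2,0,3,2,1,3,2,0,3,2]),
  (127, [3,2,0,3,2,3,2,0,3,2,3,2,0,3,2,3,2,0,3,2,0]),
  (128, [1,3,2,0,3,2,3,2,0,3,2,3,2,0,3,2,3,2,0,3,2]),
  (129, [3,2,0,3,2,1,3,2,0,3,2,3,2,0,3,2,1,3,2,0,3,2]),
  (130, [3,2,0,3,2,3,2,0,3,2,1,3,2,0,3,2,3,2,0,3,2,1]),
  (131, [3,2,0,3,2,0]),
  (132, [1,3,2,0,3,2]),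
  (133, [3,2,0,3,2,1,3,2,0,3,2,3,2,0,3,2,1,3,2,0,3,2,3,2,0,3,2,3,2,0,3,2,3,2,0,3,2]),
  (134, [3,2,0,3,2,3,2,0,3,2,1,3,2,0,3,2,3,2,0,3,2,1,3,2,0,3,2,3,2,0,3,2,3,2,0,3,2]),
  (135, [1,3,2,0,3,2,3,2,0,3,2,1,3,2,0,3,2,0]),
  (136, [3,2,0,3,2,3,2,0,3,2,1,3,2,0,3,2]),
  (137, [1,3,2,0,3,2,1,3,2,0,3,2,3,2,0,3,2,3,2,0,3,2,3,2,0,3,2]),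
  (138, [3,2,0,3,2,1,3,2,0,3,2,3,2,0,3,2,3,2,0,3,2,3,2,0,3,2,0]),
  (139, [3,2,0,3,2,1,3,2,0,3,2,1,3,2,0,3,2,0]),
  (140, [3,2,0,3,2,3,2,0,3,2,3,2,0,3,2,1,3,2,0,3,2,3,2,0,3,2,3,2,0,3,2]),
  (141, [3,2,0,3,2,3,2,0,3,2,1,3,2,0,3,2,1,3,2,0,3,2,3,2,0,3,2]),
  (142, [1,3,2,0,3,2,3,2,0,3,2,3,2,0,3,2,3,2,0,3,2,1,3,2,0,3,2,3,2,0,3,2,3,2,0,3,2]),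
  (143, [3,2,0,3,2,3,2,0,3,2,3,2,0,3,2,3,2,0,3,2,1,3,2,0,3,2,3,2,0,3,2,3,2,0,3,2,0]),
  (144, [3,2,0,3,2,1,3,2,0,3,2,3,2,0,3,2,3,2,0,3,2,1,3,2,0,3,2,0]),
  (145, [3,2,0,3,2,3,2,0,3,2,3,2,0,3,2,1,3,2,0,3,2,3,2,0,3,2,1,3,2,0,3,2]),
  (146, [1,3,2,0,3,2,1,3,2,0,3,2,1,3,2,0,3,2]),
  (147, [3,2,0,3,2,3,2,0,3,2,3,2,0,3,2,3,2,0,3,2,1,3,2,0,3,2,3,2,0,3,2,0]),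
  (148, [3,2,0,3,2,1,3,2,0,3,2,3,2,0,3,2,1,3,2,0,3,2,3,2,0,3,2,0]),
  (149, [3,2,0,3,2,3,2,0,3,2,3,2,0,3,2,1,3,2,0,3,2,3,2,0,3,2,3,2,0,3,2,3,2,0,3,2,0]),
  (150, [1,3,2,0,3,2,3,2,0,3,2,3,2,0,3,2]),
  (151, [3,2,0,3,2,3,2,0,3,2,3,2,0,3,2,0]),
  (152, [1,3,2,0,3,2,3,2,0,3,2,3,2,0,3,2,1,3,2,0,3,2,3,2,0,3,2,3,2,0,3,2,3,2,0,3,2]),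
  (153, [3,2,0,3,2,3,2,0,3,2,1,3,2,0,3,2,3,2,0,3,2,1,3,2,0,3,2,0]),
  (154, [1,3,2,0,3,2,3,2,0,3,2,3,2,0,3,2,3,2,0,3,2,1,3,2,0,3,2,3,2,0,3,2]),
  (155, [3,2,0,3,2,3,2,0,3,2,1]),
  (156, [1,3,2,0,3,2,3,2,0,3,2,1,3,2,0,3,2,1]),
  (157, [3,2,0,3,2,1,0]),
  (158, [3,2,0,3,2,3,2,0,3,2,3,2,0,3,2,1,3,2,0,3,2,1,3,2,0,3,2]),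
  (159, [3,2,0,3,2,1,3,2,0,3,2,1,3,2,0,3,2,3,2,0,3,2,3,2,0,3,2,0]),
  (160, [1,3,2,0,3,2,1]),
  (161, [3,2,0,3,2,3,2,0,3,2,1,3,2,0,3,2,1,0]),
  (162, [1,3,2,0,3,2,3,2,0,3,2,1,0]),
  (163, [1,3,2,0,3,2,3,2,0,3,2,1]),
  (164, [3,2,0,3,2,3,2,0,3,2,1,3,2,0,3,2,1]),
  (165, [1,3,2,0,3,2,1,0]),
  (166, [3,2,0,3,2,1,3,2,0,3,2,1,3,2,0,3,2,3,2,0,3,2,3,2,0,3,2]),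
  (167, [3,2,0,3,2,3,2,0,3,2,3,2,0,3,2,1,3,2,0,3,2,1,3,2,0,3,2,0]),
  (168, [3,2,0,3,2,1]),
  (169, [1,3,2,0,3,2,3,2,0,3,2,1,3,2,0,3,2,1,0]),
  (170, [3,2,0,3,2,3,2,0,3,2,1,0]),
  (171, [3,2,0,3,2,3,2,0,3,2,3,2,0,3,2,3,2,0,3,2,1,3,2,0,3,2,1,3,2,0,3,2]),
  (172, [3,2,0,3,2,3,2,0,3,2,1,3,2,0,3,2,3,2,0,3,2,1,3,2,0,3,2]),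
  (173, [3,2,0,3,2,3,2,0,3,2,3,2,0,3,2,1,3,2,0,3,2,3,2,0,3,2,1,3,2,0,3,2,3,2,0,3,2]),
  (174, [3,2,0,3,2,3,2,0,3,2,3,2,0,3,2]),
  (175, [1,3,2,0,3,2,3,2,0,3,2,3,2,0,3,2,0]),
  (176, [3,2,0,3,2,3,2,0,3,2,3,2,0,3,2,1,3,2,0,3,2,3,2,0,3,2,3,2,0,3,2,3,2,0,3,2]),
  (177, [3,2,0,3,2,1,3,2,0,3,2,3,2,0,3,2,1,3,2,0,3,2,3,2,0,3,2]),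
  (178, [3,2,0,3,2,3,2,0,3,2,3,2,0,3,2,3,2,0,3,2,1,3,2,0,3,2,3,2,0,3,2]),
  (179, [1,3,2,0,3,2,1,3,2,0,3,2,1,3,2,0,3,2,0]),
  (180, [1,3,2,0,3,2,3,2,0,3,2,3,2,0,3,2,1,3,2,0,3,2,3,2,0,3,2,3,2,0,3,2]),
  (181, [3,2,0,3,2,1,3,2,0,3,2,3,2,0,3,2,3,2,0,3,2,1,3,2,0,3,2]),
  (182, [3,2,0,3,2,3,2,0,3,2,3,2,0,3,2,3,2,0,3,2,1,3,2,0,3,2,3,2,0,3,2,3,2,0,3,2]),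
  (183, [3,2,0,3,2,3,2,0,3,2,3,2,0,3,2,3,2,0,3,2,1,3,2,0,3,2,1,3,2,0,3,2,3,2,0,3,2]),
  (184, [3,2,0,3,2,3,2,0,3,2,1,3,2,0,3,2,1,3,2,0,3,2,3,2,0,3,2,0]),
  (185, [3,2,0,3,2,3,2,0,3,2,3,2,0,3,2,1,3,2,0,3,2,3,2,0,3,2,3,2,0,3,2,0]),
  (186, [3,2,0,3,2,1,3,2,0,3,2,1,3,2,0,3,2]),
  (187, [3,2,0,3,2,1,3,2,0,3,2,3,2,0,3,2,3,2,0,3,2,3,2,0,3,2]),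
  (188, [3,2,0,3,2,1,3,2,0,3,2,3,2,0,3,2,3,2,0,3,2,3,2,0,3,2,1]),
  (189, [3,2,0,3,2,3,2,0,3,2,1,3,2,0,3,2,0]),
  (190, [1,3,2,0,3,2,3,2,0,3,2,1,3,2,0,3,2]),
  (191, [3,2,0,3,2,3,2,0,3,2,3,2,0,3,2,3,2,0,3,2,1,3,2,0,3,2,3,2,0,3,2,3,2,0,3,2,1]),
  (192, [3,2,0,3,2,3,2,0,3,2,3,2,0,3,2,1,3,2,0,3,2,3,2,0,3,2,3,2,0,3,2,1,3,2,0,3,2]),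
  (193, [1,3,2,0,3,2,0]),
  (194, [3,2,0,3,2]),
  (195, [3,2,0,3,2,3,2,0,3,2,1,3,2,0,3,2,3,2,0,3,2,1,0]),
  (196, [3,2,0,3,2,1,3,2,0,3,2,3,2,0,3,2,1,3,2,0,3,2,0]),
  (197, [1,3,2,0,3,2,3,2,0,3,2,3,2,0,3,2,3,2,0,3,2,0]),
  (198, [3,2,0,3,2,3,2,0,3,2,3,2,0,3,2,3,2,0,3,2]),
  (199, [3,2,0,3,2,3,2,0,3,2,1,3,2,0,3,2,1,3,2,0,3,2,0]),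
  (200, [3,2,0,3,2,1,3,2,0,3,2,3,2,0,3,2,3,2,0,3,2,1]),
  (201, [3,2,0,3,2,3,2,0,3,2,3,2,0,3,2,1,3,2,0,3,2,1,0]),
  (202, [3,2,0,3,2,1,3,2,0,3,2,1,3,2,0,3,2,3,2,0,3,2]),
  (203, [1,3,2,0,3,2,1,3,2,0,3,2,3,2,0,3,2,3,2,0,3,2]),
  (204, [3,2,0,3,2,1,3,2,0,3,2,3,2,0,3,2,3,2,0,3,2,0]),
  (205, [1,3,2,0,3,2,3,2,0,3,2,1,3,2,0,3,2,3,2,0,3,2,0]),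
  (206, [3,2,0,3,2,3,2,0,3,2,1,3,2,0,3,2,3,2,0,3,2]),
  (207, [3,2,0,3,2,3,2,0,3,2,3,2,0,3,2,3,2,0,3,2,1]),
  (208, [1,3,2,0,3,2,3,2,0,3,2,3,2,0,3,2,3,2,0,3,2,1,0]),
  (209, [3,2,0,3,2,3,2,0,3,2,3,2,0,3,2,1,3,2,0,3,2]),
  (210, [1,3,2,0,3,2,3,2,0,3,2,3,2,0,3,2,1,3,2,0,3,2,0]),
  (211, [3,2,0,3,2,3,2,0,3,2,3,2,0,3,2,3,2,0,3,2,1,3,2,0,3,2,3,2,0,3,2,1,3,2,0,3,2]),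
  (212, [3,2,0,3,2,3,2,0,3,2,1,3,2,0,3,2,1,3,2,0,3,2,3,2,0,3,2,3,2,0,3,2,3,2,0,3,2]),
  (213, [3,2,0,3,2,1,3,2,0,3,2,1,3,2,0,3,2,1,0]),
  (214, [1,3,2,0,3,2,1,3,2,0,3,2,1,3,2,0,3,2,1]),
  (215, [1,3,2,0,3,2,3,2,0,3,2,3,2,0,3,2,1,3,2,0,3,2,3,2,0,3,2]),
  (216, [3,2,0,3,2,3,2,0,3,2,3,2,0,3,2,1,3,2,0,3,2,3,2,0,3,2,0]),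
  (217, [3,2,0,3,2,3,2,0,3,2,3,2,0,3,2,1,3,2,0,3,2,1,3,2,0,3,2,3,2,0,3,2,0]),
  (218, [3,2,0,3,2,1,3,2,0,3,2,1,3,2,0,3,2,3,2,0,3,2,3,2,0,3,2,3,2,0,3,2]),
  (219, [3,2,0,3,2,1,3,2,0,3,2,3,2,0,3,2,3,2,0,3,2,1,3,2,0,3,2,3,2,0,3,2]),
  (220, [3,2,0,3,2,3,2,0,3,2,1,3,2,0,3,2,1,3,2,0,3,2,3,2,0,3,2,3,2,0,3,2,0]),
  (221, [3,2,0,3,2,1,3,2,0,3,2,1]),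
  (222, [1,3,2,0,3,2,1,3,2,0,3,2,1,0]),
  (223, [3,2,0,3,2,3,2,0,3,2,3,2,0,3,2,1,0]),
  (224, [1,3,2,0,3,2,3,2,0,3,2,3,2,0,3,2,1]),
  (225, [3,2,0,3,2,3,2,0,3,2,3,2,0,3,2,3,2,0,3,2,1,3,2,0,3,2,0]),
  (226, [1,3,2,0,3,2,3,2,0,3,2,3,2,0,3,2,3,2,0,3,2,1,3,2,0,3,2]),
  (227, [3,2,0,3,2,3,2,0,3,2,1,3,2,0,3,2,3,2,0,3,2,3,2,0,3,2,1]),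
  (228, [3,2,0,3,2,3,2,0,3,2,1,3,2,0,3,2,3,2,0,3,2,3,2,0,3,2]),
  (229, [3,2,0,3,2,1,3,2,0,3,2,3,2,0,3,2,1,3,2,0,3,2,3,2,0,3,2,3,2,0,3,2]),
  (230, [3,2,0,3,2,3,2,0,3,2,1,3,2,0,3,2,3,2,0,3,2,1,3,2,0,3,2,3,2,0,3,2]),
  (231, [1,3,2,0,3,2,3,2,0,3,2]),
  (232, [3,2,0,3,2,3,2,0,3,2,0]),
  (233, [1,3,2,0,3,2,1,3,2,0,3,2,3,2,0,3,2]),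
  (234, [3,2,0,3,2,1,3,2,0,3,2,3,2,0,3,2,0]),
  (235, [1]),
  (236, [3,2,0,3,2,1,3,2,0,3,2]),
  (237, [3,2,0,3,2,1,3,2,0,3,2,3,2,0,3,2,1,0]),
  (238, [1,3,2,0,3,2,3,2,0,3,2,1,3,2,0,3,2,3,2,0,3,2,3,2,0,3,2,3,2,0,3,2]),
  (239, [3,2,0,3,2,3,2,0,3,2,1,3,2,0,3,2,3,2,0,3,2,3,2,0,3,2,3,2,0,3,2,0]),
  (240, [1,3,2,0,3,2,1,3,2,0,3,2,3,2,0,3,2,1]),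
  (241, [1,3,2,0,3,2,1,3,2,0,3,2,0]),
  (242, [0])]

/-- Words certifying an orbit. -/
def words2 : List (ℕ × List ℕ) := [(93, []),
  (101, [0,1,2,3,0,2,3,2,3,0,2,3,2,3,0,2,3,1,3,1,2,3,2,1,0,3,1,2,3,2,0,1,2,3,0,2,3,2,3,0,2,3,2,3,0,2,3,1,3,1,2,3,2,1,0,3,1,2,3,2,2,3,0,2,3,1,2,3,0,2,3,2,3,0,2,3,3,0,1,2,1,3,1,0,2]),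
  (107, [2,3,0,2,3,1,2,3,0,2,3,2,3,0,2,3,3,0,1,2,1,3,1,0,2,2,3,0,2,3,1,2,3,0,2,3,2,3,0,2,3,3,0,1,2,1,3,1,0,2,0,1,2,3,0,2,3,2,3,0,2,3,2,3,0,2,3,1,3,1,2,3,2,1,0,3,1,2,3,2]),
  (140, [0,1,2,3,0,2,3,2,3,0,2,3,2,3,0,2,3,1,3,1,2,3,2,1,0,3,1,2,3,2]),
  (151, [0,1,2,3,0,2,3,2,3,0,2,3,2,3,0,2,3,1,3,1,2,3,2,1,0,3,1,2,3,2,2,3,0,2,3,1,2,3,0,2,3,2,3,0,2,3,3,0,1,2,1,3,1,0,2]),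
  (163, [0,1,2,3,0,2,3,2,3,0,2,3,2,3,0,2,3,1,3,1,2,3,2,1,0,3,1,2,3,2,2,3,0,2,3,1,2,3,0,2,3,2,3,0,2,3,3,0,1,2,1,3,1,0,2,2,3,0,2,3,1,2,3,0,2,3,2,3,0,2,3,3,0,1,2,1,3,1,0,2]),
  (190, [2,3,0,2,3,1,2,3,0,2,3,2,3,0,2,3,3,0,1,2,1,3,1,0,2]),
  (191, [2,3,0,2,3,1,2,3,0,2,3,2,3,0,2,3,3,0,1,2,1,3,1,0,2,0,1,2,3,0,2,3,2,3,0,2,3,2,3,0,2,3,1,3,1,2,3,2,1,0,3,1,2,3,2,0,1,2,3,0,2,3,2,3,0,2,3,2,3,0,2,3,1,3,1,2,3,2,1,0,3,1,2,3,2]),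
  (193, [2,3,0,2,3,1,2,3,0,2,3,2,3,0,2,3,3,0,1,2,1,3,1,0,2,0,1,2,3,0,2,3,2,3,0,2,3,2,3,0,2,3,1,3,1,2,3,2,1,0,3,1,2,3,2]),
  (203, [0,1,2,3,0,2,3,2,3,0,2,3,2,3,0,2,3,1,3,1,2,3,2,1,0,3,1,2,3,2,0,1,2,3,0,2,3,2,3,0,2,3,2,3,0,2,3,1,3,1,2,3,2,1,0,3,1,2,3,2]),
  (206, [2,3,0,2,3,1,2,3,0,2,3,2,3,0,2,3,3,0,1,2,1,3,1,0,2,0,1,2,3,0,2,3,2,3,0,2,3,2,3,0,2,3,1,3,1,2,3,2,1,0,3,1,2,3,2,0,1,2,3,0,2,3,2,3,0,2,3,2,3,0,2,3,1,3,1,2,3,2,1,0,3,1,2,3,2,2,3,0,2,3,1,2,3,0,2,3,2,3,0,2,3,3,0,1,2,1,3,1,0,2]),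
  (207, [2,3,0,2,3,1,2,3,0,2,3,2,3,0,2,3,3,0,1,2,1,3,1,0,2,2,3,0,2,3,1,2,3,0,2,3,2,3,0,2,3,3,0,1,2,1,3,1,0,2])]

/-- Lines used to identify the centre. -/
def centreProbe : List ℕ := [4, 5]

end Cfsg.Agent.HJ
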