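import Cfsg.Agent.Lib.HallJanko.Lines

/-! Checks on the lines and the generators. -/

set_option autoImplicit false

namespace Cfsg.Agent.HJ

open V8

theorem good_check : allIdx (fun i => goodV (rep i)) = true := by decide +kernel

theorem units_check : (decide unitsL.Nodup && decide (unitsL.length = 120) &&
    unitsL.all fun u => inI u && decide (nrm u = (4, 0))) = true := by decide +kernel

theorem gen_check : ((List.range 4).all fun k => allIdx fun j =>
    decide (gtN k j < 315) && decide (gtN k (gtN k j) = j) && decide (guN k j ∈ unitsL) &&
      decide (reflV (rep (giN k)) (rep j) = smulV (guN k j) (rep (gtN k j)))) = true := by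
  decide +kernel

theorem distinct_check : allIdx (fun m => decide (m = 0) ||
    !(decide (reflV (rep 0) (rep m) = smulV ⟨-4, 0, 0, 0, 0, 0, 0, 0⟩ (rep m)))) = true := by
  decide +kernel

theorem words0_check : certOK words0 [] 0 = true := by decide +kernel

theorem words0_cover : allIdx (fun i => decide (i ∈ words0.map Prod.fst)) = true := by decide +kernel

end Cfsg.Agent.HJ
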