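import Cfsg.Agent.Lib.HallJanko.Lift

/-!
# The action on the 315 lines and the centre
-/

set_option autoImplicit false

namespace Cfsg.Agent.HJ

open Quaternion Cfsg.Spor V8

theorem exists_index {r : HV} (h : Good r) :
    ∃ u i, u ∈ icosians ∧ normSq u = 1 ∧ r = u • rv i ∧ refl r h = R i := by
  have hr : r ∈ Set.range fun p : {u // u ∈ unitsL} × Fin 315 => toH p.1 • rv p.2 := minimal_eq ▸ h
  obtain ⟨⟨⟨u, hu⟩, i⟩, rfl⟩ := hr
  exact ⟨toH u, i, toH_mem (mem_unitsL hu).1, (mem_unitsL hu).2, rfl,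
    refl_congr (good_rv i) h (mem_unitsL hu).2 rfl⟩

theorem reflection_range : {f : Equiv.Perm icoLeech | IsIcoReflection f} = Set.range R := by
  ext f
  refine ⟨fun hf => ?_, ?_⟩
  · obtain ⟨r, h, rfl⟩ := exists_of_isIco hf
    obtain ⟨u, i, -, -, -, e⟩ := exists_index h
    exact ⟨i, e.symm⟩
  · rintro ⟨i, rfl⟩
    exact isIco_refl _

theorem R_mem_closure (x : Fin 315) : R x ∈ Subgroup.closure (Set.range G) := by
  obtain ⟨w, hw⟩ := R_eq_conj x
  rw [hw]
  exact mul_mem (mul_mem (wG_mem w) (Subgroup.subset_closure ⟨0, rfl⟩)) (inv_mem (wG_mem w))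

theorem closure_G : Subgroup.closure (Set.range G) = twoJ2 := by
  refine le_antisymm closure_range_G_le ((Subgroup.closure_le _).2 fun f hf => ?_)
  obtain ⟨i, rfl⟩ : f ∈ Set.range R := reflection_range ▸ hf
  exact R_mem_closure i

theorem R_mem (x : Fin 315) : R x ∈ twoJ2 := closure_G ▸ R_mem_closure x

theorem exists_carries {g : Equiv.Perm icoLeech} (hg : g ∈ twoJ2) (j : Fin 315) :
    ∃ i, Carries g j i := by
  obtain ⟨u, i, hu, nu, e, -⟩ := exists_index (good_map (twoJ2_le_linIso hg) (good_rv j))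
  exact ⟨i, u, hu, nu, e⟩

/-- The line to which `g` carries line `j`. -/
noncomputable def actFun (g : twoJ2) (j : Fin 315) : Fin 315 := (exists_carries g.2 j).choose

theorem carries_act (g : twoJ2) (j : Fin 315) : Carries (g : Equiv.Perm icoLeech) j (actFun g j) :=
  (exists_carries g.2 j).choose_spec

theorem carries_unique {f : Equiv.Perm icoLeech} (hf : f ∈ linIso) {j i i' : Fin 315}
    (h : Carries f j i) (h' : Carries f j i') : i = i' :=
  R_injective ((conj_of_carries hf h).symm.trans (conj_of_carries hf h'))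

theorem act_eq_of_carries {g : twoJ2} {j i : Fin 315} (h : Carries (g : Equiv.Perm icoLeech) j i) :
    actFun g j = i := carries_unique (twoJ2_le_linIso g.2) (carries_act g j) h

theorem actFun_one (j : Fin 315) : actFun 1 j = j := act_eq_of_carries (carries_one j)

theorem actFun_mul (g h : twoJ2) (j : Fin 315) : actFun (g * h) j = actFun g (actFun h j) :=
  act_eq_of_carries (carries_mul (twoJ2_le_linIso g.2) (carries_act h j) (carries_act g _))

/-- The action of the reflection group on the 315 lines. -/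
noncomputable def phi : twoJ2 →* Equiv.Perm (Fin 315) where
  toFun g :=
    { toFun := actFun g
      invFun := actFun g⁻¹
      left_inv := fun j => by rw [← actFun_mul, inv_mul_cancel, actFun_one]
      right_inv := fun j => by rw [← actFun_mul, mul_inv_cancel, actFun_one] }
  map_one' := Equiv.ext actFun_one
  map_mul' g h := Equiv.ext (actFun_mul g h)

theorem carries_phi (g : twoJ2) (j : Fin 315) : Carries (g : Equiv.Perm icoLeech) j (phi g j) :=
  carries_act g j

theorem conj_R (g : twoJ2) (j : Fin 315) :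
    (g : Equiv.Perm icoLeech) * R j * (g : Equiv.Perm icoLeech)⁻¹ = R (phi g j) :=
  conj_of_carries (twoJ2_le_linIso g.2) (carries_phi g j)

/-- A generator as an element of the reflection group. -/
noncomputable def GT (k : Fin 4) : twoJ2 := ⟨G k, G_mem k⟩

theorem phi_GT (k : Fin 4) : phi (GT k) = gperm k :=
  Equiv.ext fun j => act_eq_of_carries (carries_G k j)

theorem closure_GT : Subgroup.closure (Set.range GT) = ⊤ := by
  apply Subgroup.map_injective twoJ2.subtype_injective
  rw [MonoidHom.map_closure, ← Set.range_comp, ← MonoidHom.range_eq_map, Subgroup.range_subtype]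
  exact closure_G

/-- The permutation group on the 315 lines. -/
def P : Subgroup (Equiv.Perm (Fin 315)) := Subgroup.closure (Set.range gperm)

theorem phi_range : phi.range = P := by
  rw [MonoidHom.range_eq_map, ← closure_GT, MonoidHom.map_closure, ← Set.range_comp, P]
  exact congrArg _ (congrArg Set.range (funext phi_GT))

theorem phi_ker : phi.ker = Subgroup.center twoJ2 := by
  ext z
  rw [MonoidHom.mem_ker, Subgroup.mem_center_iff]
  constructor
  · intro hz
    have hk : ∀ k, GT k * z = z * GT k := fun k => by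
      have := conj_R z (gi k)
      rw [hz] at this
      refine Subtype.ext ?_
      show G k * (z : Equiv.Perm icoLeech) = z * G k
      conv_lhs => rw [G, ← show _ = R (gi k) from this]
      simp [G, mul_assoc]
    intro g
    have hg : g ∈ Subgroup.closure (Set.range GT) := closure_GT ▸ Subgroup.mem_top g
    have hc : Subgroup.closure (Set.range GT) ≤ Subgroup.centralizer {z} := (Subgroup.closure_le _).2 (by
      rintro _ ⟨k, rfl⟩
      exact Subgroup.mem_centralizer_singleton_iff.2 (hk k))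
    exact Subgroup.mem_centralizer_singleton_iff.1 (hc hg)
  · intro hz
    refine Equiv.ext fun j => R_injective ?_
    have e := congrArg Subtype.val (hz ⟨R j, R_mem j⟩)
    simp only [Subgroup.coe_mul] at e
    rw [← conj_R z j, ← e, mul_assoc, mul_inv_cancel, mul_one]
    rfl

theorem rv_two (t : Fin 3) : rv ⟨t, by omega⟩ = Pi.single t (2 : ℍ[ℝ]) := by
  have h : rep 0 = ⟨⟨8, 0, 0, 0, 0, 0, 0, 0⟩, zero, zero⟩ ∧
      rep 1 = ⟨zero, ⟨8, 0, 0, 0, 0, 0, 0, 0⟩, zero⟩ ∧
      rep 2 = ⟨zero, zero, ⟨8, 0, 0, 0, 0, 0, 0, 0⟩⟩ := by decide +kernel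
  have h2 : toH ⟨8, 0, 0, 0, 0, 0, 0, 0⟩ = 2 := by
    rw [two_real]; ext <;> simp [toR]; norm_num
  funext s
  fin_cases t <;> fin_cases s <;> simp [rv, toV, h.1, h.2.1, h.2.2, h2, toH_zero]

theorem refl_axis (t : Fin 3) (x : icoLeech) :
    ((R ⟨t, by omega⟩ x : icoLeech) : HV) = Function.update (x : HV) t (-((x : HV) t)) := by
  rw [R, refl_apply, rv_two]
  funext s
  have hq : (1 / 2 : ℝ) • qip (x : HV) (Pi.single t 2) = (x : HV) t := by
    have : qip (x : HV) (Pi.single t 2) = 2 * (x : HV) t := by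
      rw [qip, Finset.sum_eq_single t]
      · rw [Pi.single_eq_same, show star (2 : ℍ[ℝ]) = 2 by simp [two_real], two_comm]
      · intro b _ hb; simp [Pi.single_eq_of_ne hb]
      · simp
    rw [this, half_two_mul]
  simp only [qrefl, hq]
  rcases eq_or_ne s t with rfl | hs
  · rw [Pi.single_eq_same, Function.update_self, mul_two]; abel
  · simp [Pi.single_eq_of_ne hs, Function.update_of_ne hs]

/-- Negation on the lattice. -/
noncomputable def negT : twoJ2 := ⟨R 0, R_mem 0⟩ * ⟨R 1, R_mem 1⟩ * ⟨R 2, R_mem 2⟩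

theorem negT_apply (x : icoLeech) : (((negT : Equiv.Perm icoLeech) x : icoLeech) : HV) = -(x : HV) := by
  show ((R ⟨(0 : Fin 3), by omega⟩ (R ⟨(1 : Fin 3), by omega⟩ (R ⟨(2 : Fin 3), by omega⟩ x)) :
    icoLeech) : HV) = _
  rw [refl_axis, refl_axis, refl_axis]
  funext t
  fin_cases t <;> simp [Function.update]

theorem negT_ne_one : negT ≠ 1 := by
  intro h
  have e := negT_apply (lv 0)
  rw [h] at e
  have h0 := congrArg (fun q : ℍ[ℝ] => q.re) (congrFun e 0)
  have h2 := rv_two 0
  simp [lv, show rv (0 : Fin 315) = _ from h2, two_real] at h0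
  norm_num at h0

theorem negT_mem_center : negT ∈ Subgroup.center twoJ2 := by
  refine Subgroup.mem_center_iff.2 fun g => Subtype.ext (Equiv.ext fun x => Subtype.ext ?_)
  show ((((g : Equiv.Perm icoLeech) ((negT : Equiv.Perm icoLeech) x)) : icoLeech) : HV) =
    (((negT : Equiv.Perm icoLeech) ((g : Equiv.Perm icoLeech) x) : icoLeech) : HV)
  rw [negT_apply, map_smul_of_linIso (twoJ2_le_linIso g.2) (x := x) (a := -1) (neg_mem (one_mem _))
    (by rw [negT_apply]; simp)]
  simp

theorem center_acts {z : twoJ2} (hz : z ∈ Subgroup.center twoJ2) {v : icoLeech}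
    (hv : qip (v : HV) v = 4) :
    ∃ c ∈ icosians, normSq c = 1 ∧ ((z : Equiv.Perm icoLeech) v : HV) = c • (v : HV) := by
  obtain ⟨u, i, hu, nu, e, -⟩ := exists_index ⟨v.2, hv⟩
  have hid : phi z = 1 := MonoidHom.mem_ker.1 (phi_ker.symm ▸ hz)
  obtain ⟨w, hw, nw, ew⟩ := carries_phi z i
  rw [hid] at ew
  refine ⟨u * w * star u, mul_mem (mul_mem hu hw) (star_mem_icosians hu),
    by rw [map_mul, map_mul, Quaternion.normSq_star, nu, nw, one_mul, one_mul], ?_⟩
  rw [map_smul_of_linIso (twoJ2_le_linIso z.2) (x := lv i) hu e, ew, e, smul_smul, smul_smul,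
    mul_assoc _ (star u), Quaternion.star_mul_self, nu, Quaternion.coe_one, mul_one]
  rfl

theorem probe_check : (unitsL.all fun u => decide (u = one) || decide (u = ⟨-4, 0, 0, 0, 0, 0, 0, 0⟩) ||
    centreProbe.any fun i => decide (i < 315) && decide (nrm (rep i).x = (8, 0)) &&
      !(decide (mul (mul (mul (rep i).x u) (conj (rep i).x)) (rep i).y =
        smul 2 (mul (rep i).y u)))) = true := by decide +kernel

theorem eq_unit {c : ℍ[ℝ]} (hc : c ∈ icosians) (nc : normSq c = 1) : ∃ u ∈ unitsL, toH u = c := by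
  have hg : Good (c • rv 0) := good_smul hc nc (good_rv 0)
  have : c • rv 0 ∈ {r : HV | Good r} := hg
  rw [minimal_eq] at this
  obtain ⟨⟨⟨u, hu⟩, i⟩, e⟩ := this
  refine ⟨u, hu, ?_⟩
  simp only at e
  have hi : i = 0 := R_injective (Equiv.ext fun x => Subtype.ext (by
    simp only [R, refl_apply]
    rw [← qrefl_unit_smul (mem_unitsL hu).2 (rv i), e, qrefl_unit_smul nc]))
  subst hi
  have := congrFun e 0
  rw [show rv (0 : Fin 315) = _ from rv_two 0] at this
  simp only [Pi.smul_apply, Pi.single_eq_same, smul_eq_mul] at this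
  refine mul_right_cancel₀ ?_ this
  intro h2
  have h3 := congrArg (fun q : ℍ[ℝ] => q.re) h2
  simp [two_real] at h3

theorem center_cases {z : twoJ2} (hz : z ∈ Subgroup.center twoJ2) : z = 1 ∨ z = negT := by
  have hl := twoJ2_le_linIso z.2
  have hax : ∀ t : Fin 3, ∃ c ∈ icosians, normSq c = 1 ∧
      ((z : Equiv.Perm icoLeech) (lv ⟨t, by omega⟩) : HV) = c • Pi.single t 2 := fun t => by
    obtain ⟨c, h1, h2, h3⟩ := center_acts hz (v := lv ⟨t, by omega⟩) (good_rv _).2
    exact ⟨c, h1, h2, by rw [h3]; simp [lv, rv_two]⟩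
  choose c hc nc hcv using hax
  have diag : ∀ x : icoLeech, ((z : Equiv.Perm icoLeech) x : HV) = fun t => (x : HV) t * c t := by
    intro x
    let o : icoLeech := ⟨0, leech_zero⟩
    let e (t : Fin 3) : icoLeech := lv ⟨t, by omega⟩
    let p : icoLeech := ⟨(x : HV) 0 • (e 0 : HV), leech_smul (x.2.1 0) (e 0).2⟩
    let q : icoLeech := ⟨(x : HV) 1 • (e 1 : HV) + p, leech_add (leech_smul (x.2.1 1) (e 1).2) p.2⟩
    let r : icoLeech := ⟨(x : HV) 2 • (e 2 : HV) + q, leech_add (leech_smul (x.2.1 2) (e 2).2) q.2⟩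
    have hp := map_smul_of_linIso hl (x := e 0) (z := p) (x.2.1 0) rfl
    have hq := hl.1 (e 1) p q _ (x.2.1 1) rfl
    have hr := hl.1 (e 2) q r _ (x.2.1 2) rfl
    rw [hq, hp, hcv, hcv, hcv] at hr
    have hrx : (r : HV) = (1 : ℍ[ℝ]) • (x : HV) + x := by
      funext t
      have hv0 : ∀ s : Fin 3, (e s : HV) = Pi.single s 2 := fun s => rv_two s
      simp only [r, q, p, hv0]
      fin_cases t <;> simp [mul_two]
    rw [hl.1 x x r 1 (one_mem _) hrx, one_smul] at hr
    funext t
    have ht := congrFun hr t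
    have h2 : (2 : ℝ) • (((z : Equiv.Perm icoLeech) x : icoLeech) : HV) t =
        (2 : ℝ) • ((x : HV) t * c t) := by
      rw [two_smul, two_smul]
      fin_cases t <;> simp [mul_two] at ht <;> simpa [mul_add] using ht
    exact smul_right_injective _ (two_ne_zero : (2 : ℝ) ≠ 0) h2
  have hh : ∀ v : V3, goodV v = true →
      ∃ a, ∀ t, toV v t * c t = a * toV v t := by
    intro v hv
    obtain ⟨-, hg⟩ := goodV_spec hv
    obtain ⟨a, -, -, ha⟩ := center_acts hz (v := ⟨toV v, hg.1⟩) hg.2
    rw [diag] at ha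
    exact ⟨a, fun t => congrFun ha t⟩
  have h01 : c 0 = c 1 := by
    obtain ⟨a, ha⟩ := hh ⟨vh, vh, zero⟩ (by decide +kernel)
    have e0 := ha 0
    have e1 := ha 1
    simp only [toV, Matrix.cons_val_zero, Matrix.cons_val_one] at e0 e1
    refine mul_left_cancel₀ ?_ (e0.trans e1.symm)
    intro h; rw [toH_vh] at h
    have := congrArg (fun q : ℍ[ℝ] => q.imI) h
    simp [icoH] at this
  have h12 : c 1 = c 2 := by
    obtain ⟨a, ha⟩ := hh ⟨zero, vh, vh⟩ (by decide +kernel)
    have e1 := ha 1
    have e2 := ha 2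
    simp only [toV, Matrix.cons_val_one, Matrix.cons_val] at e1 e2
    refine mul_left_cancel₀ ?_ (e1.trans e2.symm)
    intro h; rw [toH_vh] at h
    have := congrArg (fun q : ℍ[ℝ] => q.imI) h
    simp [icoH] at this
  obtain ⟨u, hu, eu⟩ := eq_unit (hc 0) (nc 0)
  have htest := List.all_eq_true.1 probe_check u hu
  simp only [Bool.or_eq_true, decide_eq_true_eq, List.any_eq_true, Bool.and_eq_true,
    Bool.not_eq_true', decide_eq_false_iff_not, or_assoc] at htest
  have fin : ∀ s : ℍ[ℝ], toH u = s → ∀ x : icoLeech, ((z : Equiv.Perm icoLeech) x : HV) =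
      fun t => (x : HV) t * s := by
    intro s hs x
    rw [diag x]
    funext t
    have : c t = s := by fin_cases t <;> simp [← hs, eu, ← h12, ← h01]
    rw [this]
  rcases htest with e | e | ⟨i, -, ⟨hi, hn⟩, hne⟩
  · left
    refine Subtype.ext (Equiv.ext fun x => Subtype.ext ?_)
    rw [fin 1 (by rw [e, toH_one]) x]
    simp
  · right
    refine Subtype.ext (Equiv.ext fun x => Subtype.ext ?_)
    rw [fin (-1) (by rw [e]; ext <;> simp [toR]) x, negT_apply]
    funext t
    simp
  · exfalso
    obtain ⟨⟨hx, hy, hz'⟩, -⟩ := rep_ok hi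
    obtain ⟨a, ha⟩ := hh (rep i) (allIdx_spec good_check hi)
    have e0 := ha 0
    have e1 := ha 1
    simp only [toV, Matrix.cons_val_zero, Matrix.cons_val_one, ← h01, ← eu] at e0 e1
    obtain ⟨huI, -⟩ := mem_unitsL hu
    obtain ⟨m1, i1⟩ := toH_mul hx huI
    obtain ⟨m2, i2⟩ := toH_mul i1 (inI_conj hx)
    obtain ⟨m3, -⟩ := toH_mul i2 hy
    refine hne (toH_injective ?_)
    have h2 : toH (rep i).x * star (toH (rep i).x) = 2 := by
      rw [Quaternion.self_mul_star, normSq_toH hx, hn, two_real,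
        show toR ((8 : ℤ), (0 : ℤ)).1 ((8 : ℤ), (0 : ℤ)).2 = 2 by simp [toR]; norm_num]
    rw [m3, m2, m1, toH_conj, e0, mul_assoc a, h2, toH_smul, (toH_mul hy huI).1, e1, mul_assoc a,
      ← mul_assoc, two_comm a, mul_assoc, two_mul, two_zsmul]

theorem center_eq : (Subgroup.center twoJ2 : Set twoJ2) = {1, negT} := by
  ext z
  refine ⟨fun hz => center_cases hz, ?_⟩
  rintro (rfl | rfl)
  · exact one_mem _
  · exact negT_mem_center

theorem card_center : Nat.card (Subgroup.center twoJ2) = 2 := by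
  rw [← SetLike.coe_sort_coe, Nat.card_coe_set_eq, center_eq, Set.ncard_pair negT_ne_one.symm]

/-- `J₂` is the permutation group on the lines. -/
noncomputable def isoP : J2 ≃* P :=
  (QuotientGroup.quotientMulEquivOfEq phi_ker.symm).trans
    ((QuotientGroup.quotientKerEquivRange phi).trans (MulEquiv.subgroupCongr phi_range))

theorem card_twoJ2 : Nat.card twoJ2 = Nat.card P * 2 := by
  rw [Subgroup.card_eq_card_quotient_mul_card_subgroup (Subgroup.center twoJ2), card_center,
    Nat.card_congr isoP.toEquiv]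

end Cfsg.Agent.HJ
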