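import Cfsg.Agent.Lib.HallJanko.HundredDefs

/-! Checks on the 100 sets. -/

set_option autoImplicit false

namespace Cfsg.Agent.HJ

theorem hund_gen_check : ((List.range 4).all fun k => (List.range 100).all fun i =>
    decide (htN k i < 100) && decide (htN k (htN k i) = i) &&
      allIdx fun j => Nat.testBit (maskN (htN k i)) (gtN k j) == Nat.testBit (maskN i) j) = true := by
  decide +kernel

theorem mask_check : maskTab.Nodup ∧ maskTab.length = 100 ∧ (maskTab.all fun m => decide (m < 2 ^ 315)) = true := by
  decide +kernel

theorem hund_words_check : (hundWords.map Prod.fst = List.range 100) ∧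
    (hundWords.all fun e => e.2.all (fun k => decide (k < 4)) && decide (hwN e.2 0 = e.1)) = true := by
  decide +kernel

theorem hwords_check : ((List.range 4).all fun k => (hWords.getD k []).all (fun a => decide (a < 4)) &&
    decide (hwN (hWords.getD k []) 0 = 0) && (List.range 63).all (fun x =>
      decide (stN k x < 63) && decide (stN k (stN k x) = x) &&
        decide (awN (hWords.getD k []) (s63N x) = s63N (stN k x)))) = true := by decide +kernel

theorem s63_check : s63Tab.Nodup ∧ s63Tab.length = 63 ∧ (s63Tab.all fun a => decide (a < 315)) = true := by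
  decide +kernel

theorem sixty_check : ((sixtyCert0.all fun e => e.2.all (fun k => decide (k < 4)) && decide (swN e.2 0 = e.1)) &&
    (sixtyCert1.all fun e => e.2.all (fun k => decide (k < 4)) && decide (swN e.2 1 = e.1) &&
      decide (swN e.2 0 = 0)) &&
    (sixtyCert2.all fun e => e.2.all (fun k => decide (k < 4)) && decide (swN e.2 2 = e.1) &&
      decide (swN e.2 0 = 0) && decide (swN e.2 1 = 1))) = true := by decide +kernel

theorem orbit_check : ((hundOrbit0.all fun e => e.2.all (fun k => decide (k < 4)) &&
      decide (hwN (hExp e.2) 1 = e.1)) &&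
    (hundOrbit1.all fun e => e.2.all (fun k => decide (k < 4)) && decide (hwN (hExp e.2) 6 = e.1)) &&
    (List.range 100).all fun i => decide (i = 0) ||
      (decide ((setOf i ∩ setOf 0).card = 7) && decide (i ∈ hundOrbit0.map Prod.fst)) ||
      (decide ((setOf i ∩ setOf 0).card = 21) && decide (i ∈ hundOrbit1.map Prod.fst))) = true := by
  decide +kernel

end Cfsg.Agent.HJ
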