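import Cfsg.Agent.Lib.HallJanko.Simple
import Cfsg.Agent.Lib.HallJanko.HundredChecks

/-!
# The action on 100 sets of 63 lines
-/

set_option autoImplicit false

namespace Cfsg.Agent.HJ

open Quaternion Cfsg.Spor

theorem hund_gen_spec (k : Fin 4) (i : Fin 100) : htN k i < 100 ∧ htN k (htN k i) = i ∧
    ∀ j : Fin 315, Nat.testBit (maskN (htN k i)) (gperm k j) = Nat.testBit (maskN i) j := by
  have h := List.all_eq_true.1 (List.all_eq_true.1 hund_gen_check k (List.mem_range.2 k.2)) i
    (List.mem_range.2 i.2)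
  simp only [Bool.and_eq_true, decide_eq_true_eq] at h
  refine ⟨h.1.1, h.1.2, fun j => ?_⟩
  rw [gperm_apply]
  exact beq_iff_eq.1 (allIdx_spec h.2 j.2)

/-- The action of a generator on the 100 sets. -/
def hperm (k : Fin 4) : Equiv.Perm (Fin 100) where
  toFun i := ⟨htN k i, (hund_gen_spec k i).1⟩
  invFun i := ⟨htN k i, (hund_gen_spec k i).1⟩
  left_inv i := Fin.ext (hund_gen_spec k i).2.1
  right_inv i := Fin.ext (hund_gen_spec k i).2.1

/-- The relation "`π` is the action of `g` on the sets". -/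
def SetRel (g : Equiv.Perm (Fin 315)) (π : Equiv.Perm (Fin 100)) : Prop :=
  ∀ (i : Fin 100) (j : Fin 315), Nat.testBit (maskN (π i)) (g j) = Nat.testBit (maskN i) j

theorem mask_lt (i : Fin 100) : maskN i < 2 ^ 315 := by
  obtain ⟨-, hl, hb⟩ := mask_check
  have hi : (i : ℕ) < maskTab.length := i.2.trans_eq hl.symm
  rw [maskN, List.getD_eq_getElem _ _ hi]
  exact of_decide_eq_true (List.all_eq_true.1 hb _ (List.getElem_mem hi))

theorem mask_ext {i i' : Fin 100}
    (h : ∀ j : Fin 315, Nat.testBit (maskN i) j = Nat.testBit (maskN i') j) : i = i' := by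
  obtain ⟨hn, hl, -⟩ := mask_check
  have e : maskN i = maskN i' := by
    refine Nat.eq_of_testBit_eq fun j => ?_
    rcases lt_or_ge j 315 with hj | hj
    · exact h ⟨j, hj⟩
    · rw [Nat.testBit_lt_two_pow ((mask_lt i).trans_le (Nat.pow_le_pow_right (by norm_num) hj)),
        Nat.testBit_lt_two_pow ((mask_lt i').trans_le (Nat.pow_le_pow_right (by norm_num) hj))]
  have hi : (i : ℕ) < maskTab.length := i.2.trans_eq hl.symm
  have hi' : (i' : ℕ) < maskTab.length := i'.2.trans_eq hl.symm
  rw [maskN, maskN, List.getD_eq_getElem _ _ hi, List.getD_eq_getElem _ _ hi'] at e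
  exact Fin.ext ((hn.getElem_inj_iff).1 e)

theorem exists_hund : ∃ f : P →* Equiv.Perm (Fin 100),
    (∀ g : P, SetRel g.1 (f g)) ∧ f.range = Subgroup.closure (Set.range hperm) :=
  exists_hom_of_rel SetRel gperm hperm (fun _ _ => rfl)
    (fun g g' π π' h h' i j => (h (π' i) (g' j)).trans (h' i j))
    (fun g π h i j => by
      have := h (π⁻¹ i) (g⁻¹ j)
      rw [perm_self_inv, perm_self_inv] at this
      exact this.symm)
    (fun g π π' h h' => Equiv.ext fun i => mask_ext fun j => by
      rw [← perm_self_inv g j, h i, h' i])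
    (fun k i j => (hund_gen_spec k i).2.2 j)

/-- The action on the 100 sets. -/
noncomputable def psi : P →* Equiv.Perm (Fin 100) := exists_hund.choose

theorem psi_rel (g : P) : SetRel g.1 (psi g) := exists_hund.choose_spec.1 g

theorem psi_eq {g : P} {π : Equiv.Perm (Fin 100)} (h : SetRel g.1 π) : psi g = π :=
  Equiv.ext fun i => mask_ext fun j => by rw [← perm_self_inv g.1 j, psi_rel g i, h i]

/-- A generator as an element of `P`. -/
def gP (k : Fin 4) : P := ⟨gperm k, mem_P k⟩

theorem psi_gP (k : Fin 4) : psi (gP k) = hperm k := psi_eq fun i j => (hund_gen_spec k i).2.2 j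

/-- A word as an element of `P`. -/
def wPP (w : List (Fin 4)) : P := ⟨wP w, wP_mem w⟩

theorem psi_word : ∀ (l : List ℕ), (∀ k ∈ l, k < 4) → ∀ i : Fin 100,
    (psi (wPP (toWord l)) i : ℕ) = hwN l i
  | [], _, i => by rw [show wPP (toWord []) = 1 from Subtype.ext rfl, map_one]; rfl
  | k :: l, h, i => by
    have hk : k % 4 = k := Nat.mod_eq_of_lt (h k List.mem_cons_self)
    rw [show wPP (toWord (k :: l)) = gP ⟨k % 4, Nat.mod_lt _ (by norm_num)⟩ * wPP (toWord l) from
      Subtype.ext rfl, map_mul, psi_gP, Equiv.Perm.mul_apply]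
    show htN (k % 4) _ = _
    rw [psi_word l (fun a ha => h a (List.mem_cons_of_mem _ ha)) i, hk]
    rfl

theorem psi_transitive (i : Fin 100) : ∃ g : P, psi g 0 = i := by
  obtain ⟨hc, hw⟩ := hund_words_check
  have : (i : ℕ) ∈ hundWords.map Prod.fst := by rw [hc]; exact List.mem_range.2 i.2
  obtain ⟨⟨a, l⟩, he, ha⟩ := List.mem_map.1 this
  have h := List.all_eq_true.1 hw _ he
  simp only [Bool.and_eq_true, List.all_eq_true, decide_eq_true_eq] at h
  exact ⟨_, Fin.ext ((psi_word l h.1 0).trans (h.2.trans ha))⟩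

theorem psi_injective : Function.Injective psi := by
  rw [← MonoidHom.ker_eq_bot_iff]
  haveI := isSimple_P
  refine (IsSimpleGroup.eq_bot_or_eq_top_of_normal _ inferInstance).resolve_right fun h => ?_
  obtain ⟨g, hg⟩ := psi_transitive 1
  rw [MonoidHom.mem_ker.1 (h ▸ Subgroup.mem_top g)] at hg
  exact absurd hg (by decide)

/-- The image on the 100 sets. -/
noncomputable def Q100 : Subgroup (Equiv.Perm (Fin 100)) := psi.range

/-- `P` acting faithfully on the 100 sets. -/
noncomputable def iso100 : P ≃* Q100 := MonoidHom.ofInjective psi_injective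

theorem setOf_map (g : P) (i : Fin 100) :
    (setOf i).map g.1.toEmbedding = setOf (psi g i) := by
  ext x
  simp only [setOf, Finset.mem_map_equiv, Finset.mem_filter, Finset.mem_univ, true_and]
  have := psi_rel g i (g.1⁻¹ x)
  rw [perm_self_inv] at this
  rw [this]
  rfl

end Cfsg.Agent.HJ
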