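import Cfsg.Agent.Lib.HallJanko.Hundred
import Cfsg.Agent.Lib.HallJanko.HundredPackData
import Cfsg.Agent.Lib.Mathieu.ChainCount

/-!
The Hall–Janko group as a group of packed permutations of 100 points, with a certified chain.
-/

set_option autoImplicit false
set_option maxRecDepth 20000
set_option maxHeartbeats 1000000

namespace Cfsg.Agent.HJ

open Cfsg.Agent.Mathieu

/-- The enumeration of the 100 points. -/
abbrev enc100 : Fin 100 ≃ Fin 100 := Equiv.refl _

theorem gens100_check : (List.range 4).all (fun k => (List.range 100).all fun i =>
    htN k i == app (gens100.getD k 0) i) = true := by decide +kernel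

theorem rep_hperm (k : Fin 4) : Rep enc100 (hperm k) (gens100.getD k 0) := fun i =>
  beq_iff_eq.1 (List.all_eq_true.1 (List.all_eq_true.1 gens100_check k (List.mem_range.2 k.2)) i
    (List.mem_range.2 i.2))

theorem genGroup_eq : genGroup enc100 gens100 = Q100 := by
  rw [Q100, exists_hund_range, genGroup]
  congr 1
  ext σ
  constructor
  · rintro ⟨l, hl, hr⟩
    obtain ⟨k, hk, rfl⟩ := List.getElem_of_mem hl
    have hk4 : k < 4 := hk
    refine ⟨⟨k, hk4⟩, Rep.unique ?_ hr⟩
    have := rep_hperm ⟨k, hk4⟩
    rwa [List.getD_eq_getElem _ _ hk] at this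
  · rintro ⟨k, rfl⟩
    refine ⟨gens100.getD k 0, ?_, rep_hperm k⟩
    rw [List.getD_eq_getElem _ _ (show (k : ℕ) < gens100.length from k.2)]
    exact List.getElem_mem _
where
  exists_hund_range : psi.range = Subgroup.closure (Set.range hperm) := exists_hund.choose_spec.2

theorem card_Q100 : Nat.card Q100 = 604800 := by
  rw [← Nat.card_congr iso100.toEquiv, card_P]

theorem gens100_perm : gens100.all (permOK 100) = true := by decide +kernel

theorem slp100_ok : slpOK 100 gens100 slp100 = true := by decide +kernel

/-- The packed permutations produced by the program. -/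
def known100 : List ℕ := gens100 ++ slp100.map fun s => s.1

theorem known100_mem {l : ℕ} (hl : known100.contains l = true) :
    ∃ σ ∈ Q100, Rep enc100 σ l := by
  rw [← genGroup_eq]
  refine rep_of_slp gens100 slp100 (fun l hl => ?_) slp100_ok l
    (List.mem_append.1 (List.contains_iff_mem.1 hl))
  obtain ⟨σ, hσ⟩ := exists_rep (e := enc100) (List.all_eq_true.1 gens100_perm l hl)
  exact ⟨σ, Subgroup.subset_closure ⟨l, hl, hσ⟩, hσ⟩

theorem levels100_ok : levelsOK 100 [] levels100 = true := by decide +kernel

theorem levels100_known : (allReps levels100).all (known100.contains ·) = true := by decide +kernel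

theorem levels100_prod : (levels100.map fun p => p.2.1.length).prod = 604800 := by decide +kernel

theorem levels100_reps : ∀ t ∈ allReps levels100, ∃ σ ∈ Q100, Rep enc100 σ t := fun t ht =>
  known100_mem (List.all_eq_true.1 levels100_known t ht)

/-- The checked chain. -/
theorem stab100 : Stab enc100 Q100 levels100 := by
  have h := upper_of_card levels100_ok levels100_reps (by rw [card_Q100, levels100_prod])
  exact ⟨by norm_num, levels100_ok, levels100_reps, h.1, h.2⟩

/-- The isomorphism from the group defined on the icosian lattice. -/
noncomputable def isoJ2 : Spor.J2 ≃* Q100 := isoP.trans iso100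

end Cfsg.Agent.HJ
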