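import Cfsg.Agent.Lib.HallJanko.Ring

/-!
# The icosian Leech lattice and its reflections
-/

set_option autoImplicit false

namespace Cfsg.Agent.HJ

open Quaternion Cfsg.Spor V8

/-- Quaternion triples. -/
abbrev HV : Type := Fin 3 → ℍ[ℝ]

theorem two_real : (2 : ℍ[ℝ]) = ((2 : ℝ) : ℍ[ℝ]) := by norm_cast

theorem four_real : (4 : ℍ[ℝ]) = ((4 : ℝ) : ℍ[ℝ]) := by norm_cast

theorem half_two_mul (a : ℍ[ℝ]) : (1 / 2 : ℝ) • ((2 : ℍ[ℝ]) * a) = a := by
  rw [two_real, Quaternion.coe_mul_eq_smul, smul_smul]; norm_num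

theorem two_comm (a : ℍ[ℝ]) : a * 2 = 2 * a := by
  rw [two_mul, mul_two]

theorem normSq_toH {x : V8} (h : inI x = true) :
    normSq (toH x) = toR (nrm x).1 (nrm x).2 := by
  have e := (toH_mul h (inI_conj h)).1
  rw [toH_conj, Quaternion.self_mul_star] at e
  have e' := congrArg (fun q : ℍ[ℝ] => q.re) e
  simpa [nrm] using e'.symm

theorem wt_eq {x : V8} (h : inI x = true) : wt x = 4 * (nrm x).1 := by
  have e := normSq_toH h
  rw [Quaternion.normSq_def'] at e
  simp only [toH_re, toH_imI, toH_imJ, toH_imK] at e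
  have : toR (wt x) (2 * (x.a0 * x.b0 + x.a1 * x.b1 + x.a2 * x.b2 + x.a3 * x.b3)) =
      toR (4 * (nrm x).1) (4 * (nrm x).2) := by
    have h4 : toR (4 * (nrm x).1) (4 * (nrm x).2) = 4 * toR (nrm x).1 (nrm x).2 := by
      simp [toR]; ring
    rw [h4, ← e]
    simp [toR, wt]; ring_nf; simp only [sqrt5_sq]; ring
  exact (toR_inj this).1

theorem normSq_icoH : normSq icoH = 2 := by
  rw [Quaternion.normSq_def']
  simp [icoH]
  ring_nf
  rw [sqrt5_sq]
  norm_num

theorem icoH_mul_star : icoH * star icoH = 2 := by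
  rw [Quaternion.self_mul_star, normSq_icoH, two_real]

theorem star_mul_icoH : star icoH * icoH = 2 := by
  rw [Quaternion.star_mul_self, normSq_icoH, two_real]

theorem icoH_mem : icoH ∈ icosians := toH_vh ▸ toH_mem (by decide +kernel)

theorem half_mul_mem {q : ℍ[ℝ]} {m : ℍ[ℝ]} (hm : m ∈ icosians) (hq : q ∈ icosians)
    (h : 3 * q = 2 * m) : ∃ a ∈ icosians, q = 2 * a := by
  refine ⟨m - q, sub_mem hm hq, ?_⟩
  rw [mul_sub, ← h]; noncomm_ring

theorem leftIdeal_add {q a b : ℍ[ℝ]} (ha : a ∈ leftIdeal q) (hb : b ∈ leftIdeal q) :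
    a + b ∈ leftIdeal q := by
  obtain ⟨u, hu, rfl⟩ := ha
  obtain ⟨v, hv, rfl⟩ := hb
  exact ⟨u + v, add_mem hu hv, (add_mul u v q).symm⟩

theorem leftIdeal_mul {q a c : ℍ[ℝ]} (hc : c ∈ icosians) (ha : a ∈ leftIdeal q) :
    c * a ∈ leftIdeal q := by
  obtain ⟨u, hu, rfl⟩ := ha
  exact ⟨c * u, mul_mem hc hu, (mul_assoc c u q).symm⟩

theorem zero_mem_leftIdeal (q : ℍ[ℝ]) : (0 : ℍ[ℝ]) ∈ leftIdeal q :=
  ⟨0, zero_mem _, (zero_mul q).symm⟩

theorem leech_add {x y : HV} (hx : x ∈ icoLeech) (hy : y ∈ icoLeech) : x + y ∈ icoLeech := by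
  obtain ⟨x1, x2, x3, x4⟩ := hx
  obtain ⟨y1, y2, y3, y4⟩ := hy
  refine ⟨fun t => add_mem (x1 t) (y1 t), ?_, ?_, ?_⟩ <;> simp only [Pi.add_apply]
  · rw [add_sub_add_comm]; exact leftIdeal_add x2 y2
  · rw [add_sub_add_comm]; exact leftIdeal_add x3 y3
  · have := leftIdeal_add x4 y4
    rwa [show x 0 + x 1 + x 2 + (y 0 + y 1 + y 2) = x 0 + y 0 + (x 1 + y 1) + (x 2 + y 2) by abel]
      at this

theorem leech_smul {a : ℍ[ℝ]} {x : HV} (ha : a ∈ icosians) (hx : x ∈ icoLeech) :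
    a • x ∈ icoLeech := by
  obtain ⟨x1, x2, x3, x4⟩ := hx
  refine ⟨fun t => mul_mem ha (x1 t), ?_, ?_, ?_⟩ <;> simp only [Pi.smul_apply, smul_eq_mul]
  · rw [← mul_sub]; exact leftIdeal_mul ha x2
  · rw [← mul_sub]; exact leftIdeal_mul ha x3
  · rw [← mul_add, ← mul_add]; exact leftIdeal_mul ha x4

theorem leech_zero : (0 : HV) ∈ icoLeech :=
  ⟨fun _ => zero_mem _, by simpa using zero_mem_leftIdeal icoH, by simpa using zero_mem_leftIdeal icoH,
    by simpa using zero_mem_leftIdeal (star icoH)⟩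

theorem qip_add_left (x y r : HV) : qip (x + y) r = qip x r + qip y r := by
  simp [qip, Fin.sum_univ_three, add_mul]; abel

theorem qip_smul_left (a : ℍ[ℝ]) (x r : HV) : qip (a • x) r = a * qip x r := by
  simp [qip, Fin.sum_univ_three, mul_add, mul_assoc]

theorem qip_star (x r : HV) : star (qip x r) = qip r x := by
  simp [qip, Fin.sum_univ_three, star_mul, star_add]

theorem qip_add_right (x y r : HV) : qip x (y + r) = qip x y + qip x r := by
  rw [← qip_star, qip_add_left, star_add, qip_star, qip_star]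

theorem qip_smul_right (a : ℍ[ℝ]) (x r : HV) : qip x (a • r) = qip x r * star a := by
  rw [← qip_star, qip_smul_left, star_mul, qip_star]

theorem qip_mem {x r : HV} (hx : x ∈ icoLeech) (hr : r ∈ icoLeech) : qip x r ∈ icosians :=
  sum_mem fun t _ => mul_mem (hx.1 t) (star_mem_icosians (hr.1 t))

/-- Inner products in the lattice are divisible by two. -/
theorem qip_even {x r : HV} (hx : x ∈ icoLeech) (hr : r ∈ icoLeech) :
    ∃ a ∈ icosians, qip x r = 2 * a := by
  have hm := qip_mem hx hr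
  obtain ⟨-, ⟨a1, ha1, e1⟩, ⟨a2, ha2, e2⟩, ⟨a3, ha3, e3⟩⟩ := hx
  obtain ⟨-, ⟨b1, hb1, f1⟩, ⟨b2, hb2, f2⟩, ⟨b3, hb3, f3⟩⟩ := hr
  refine half_mul_mem (m := a1 * star b1 + a2 * star b2 + (a1 + a2) * star (b1 + b2) + a3 * star b3)
    ?_ hm ?_
  · exact add_mem (add_mem (add_mem (mul_mem ha1 (star_mem_icosians hb1))
      (mul_mem ha2 (star_mem_icosians hb2))) (mul_mem (add_mem ha1 ha2)
        (star_mem_icosians (add_mem hb1 hb2)))) (mul_mem ha3 (star_mem_icosians hb3))
  · have key : ∀ a b : ℍ[ℝ], a * icoH * star (b * icoH) = 2 * (a * star b) := fun a b => by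
      rw [star_mul, mul_assoc, ← mul_assoc icoH, icoH_mul_star, ← mul_assoc, two_comm, mul_assoc]
    have key' : ∀ a b : ℍ[ℝ], a * star icoH * star (b * star icoH) = 2 * (a * star b) := fun a b => by
      rw [star_mul, star_star, mul_assoc, ← mul_assoc (star icoH), star_mul_icoH, ← mul_assoc,
        two_comm, mul_assoc]
    have eX : x 0 - x 2 = (a1 + a2) * icoH := by rw [add_mul, ← e1, ← e2]; abel
    have eR : r 0 - r 2 = (b1 + b2) * icoH := by rw [add_mul, ← f1, ← f2]; abel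
    rw [mul_add, mul_add, mul_add, ← key, ← key, ← key, ← key', ← e1, ← e2, ← e3, ← f1, ← f2, ← f3,
      ← eX, ← eR]
    simp only [qip, Fin.sum_univ_three, star_sub, star_add]
    noncomm_ring

/-- The scalar of a reflection. -/
noncomputable def cof (r x : HV) : ℍ[ℝ] := (1 / 2 : ℝ) • qip x r

theorem cof_mem {x r : HV} (hx : x ∈ icoLeech) (hr : r ∈ icoLeech) : cof r x ∈ icosians := by
  obtain ⟨a, ha, e⟩ := qip_even hx hr
  rwa [cof, e, half_two_mul]

theorem two_mul_cof (r x : HV) : 2 * cof r x = qip x r := by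
  rw [cof, two_real, Quaternion.coe_mul_eq_smul, smul_smul]; norm_num

theorem qrefl_eq (r x : HV) : qrefl r x = (-cof r x) • r + x := by
  funext t
  simp only [qrefl, cof, Pi.add_apply, Pi.smul_apply, smul_eq_mul, neg_mul]
  abel

theorem qrefl_mem {x r : HV} (hx : x ∈ icoLeech) (hr : r ∈ icoLeech) : qrefl r x ∈ icoLeech := by
  rw [qrefl_eq]
  exact leech_add (leech_smul (neg_mem (cof_mem hx hr)) hr) hx

theorem qip_qrefl_self {r : HV} (h4 : qip r r = 4) (x : HV) : qip (qrefl r x) r = -qip x r := by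
  rw [qrefl_eq, qip_add_left, qip_smul_left, h4, show (4 : ℍ[ℝ]) = 2 * 2 by norm_num, ← mul_assoc,
    neg_mul, neg_mul, two_comm (cof r x), two_mul_cof, mul_two]
  abel

theorem qrefl_qrefl {r : HV} (h4 : qip r r = 4) (x : HV) : qrefl r (qrefl r x) = x := by
  rw [qrefl_eq r (qrefl r x), qrefl_eq r x]
  have : cof r (qrefl r x) = -cof r x := by rw [cof, qip_qrefl_self h4, smul_neg, cof]
  rw [qrefl_eq] at this
  rw [this, neg_neg, ← add_assoc, ← add_smul, add_neg_cancel, zero_smul, zero_add]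

theorem qrefl_linear (r : HV) (a : ℍ[ℝ]) (x y : HV) :
    qrefl r (a • x + y) = a • qrefl r x + qrefl r y := by
  have : cof r (a • x + y) = a * cof r x + cof r y := by
    simp only [cof, qip_add_left, qip_smul_left, smul_add, mul_smul_comm]
  simp only [qrefl_eq, this, neg_add, add_smul, smul_add, smul_smul, neg_mul, mul_neg]
  abel

theorem qip_qrefl {r : HV} (h4 : qip r r = 4) (x y : HV) :
    qip (qrefl r x) (qrefl r y) = qip x y := by
  rw [qrefl_eq r y, qip_add_right, qip_smul_right, qip_qrefl_self h4, qrefl_eq r x, qip_add_left,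
    qip_smul_left, ← qip_star y r, ← two_mul_cof r x, ← two_mul_cof r y, star_neg, star_mul,
    show star (2 : ℍ[ℝ]) = 2 by simp [two_real]]
  rw [two_comm (star _), ← two_comm (cof r x)]
  noncomm_ring

/-- A minimal vector. -/
def Good (r : HV) : Prop := r ∈ icoLeech ∧ qip r r = 4

/-- The reflection in a minimal vector. -/
noncomputable def refl (r : HV) (h : Good r) : Equiv.Perm icoLeech where
  toFun x := ⟨qrefl r x, qrefl_mem x.2 h.1⟩
  invFun x := ⟨qrefl r x, qrefl_mem x.2 h.1⟩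
  left_inv x := Subtype.ext (qrefl_qrefl h.2 _)
  right_inv x := Subtype.ext (qrefl_qrefl h.2 _)

theorem refl_apply {r : HV} (h : Good r) (x : icoLeech) :
    ((refl r h x : icoLeech) : HV) = qrefl r x := rfl

theorem isIco_refl {r : HV} (h : Good r) : IsIcoReflection (refl r h) :=
  ⟨⟨r, h.1⟩, h.2, fun _ => rfl⟩

theorem exists_of_isIco {f : Equiv.Perm icoLeech} (hf : IsIcoReflection f) :
    ∃ r h, refl r h = f := by
  obtain ⟨⟨r, hr⟩, h4, e⟩ := hf
  exact ⟨r, ⟨hr, h4⟩, Equiv.ext fun x => Subtype.ext (e x).symm⟩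

theorem refl_mem {r : HV} (h : Good r) : refl r h ∈ twoJ2 := Subgroup.subset_closure (isIco_refl h)

theorem refl_sq {r : HV} (h : Good r) : refl r h * refl r h = 1 :=
  Equiv.ext fun x => Subtype.ext (qrefl_qrefl h.2 _)

theorem refl_inv {r : HV} (h : Good r) : (refl r h)⁻¹ = refl r h :=
  inv_eq_of_mul_eq_one_right (refl_sq h)

/-- Two minimal vectors that differ by a unit give the same reflection. -/
theorem qrefl_unit_smul {u : ℍ[ℝ]} (hu : normSq u = 1) (r x : HV) :
    qrefl (u • r) x = qrefl r x := by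
  funext t
  simp only [qrefl, qip_smul_right, Pi.smul_apply, smul_eq_mul, smul_mul_assoc, mul_assoc]
  rw [← mul_assoc (star u), Quaternion.star_mul_self, hu]
  simp

theorem perm_self_inv {α : Type*} (f : Equiv.Perm α) (x : α) : f (f⁻¹ x) = x := by simp

theorem perm_inv_self {α : Type*} (f : Equiv.Perm α) (x : α) : f⁻¹ (f x) = x := by simp

/-- Permutations of the lattice preserving its structure. -/
noncomputable def linIso : Subgroup (Equiv.Perm icoLeech) where
  carrier := {f | (∀ x y z : icoLeech, ∀ a ∈ icosians, (z : HV) = a • (x : HV) + y →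
      (f z : HV) = a • (f x : HV) + f y) ∧
    ∀ x y : icoLeech, qip (f x : HV) (f y) = qip (x : HV) y}
  one_mem' := ⟨fun _ _ _ _ _ h => h, fun _ _ => rfl⟩
  mul_mem' := fun {f g} hf hg =>
    ⟨fun x y z a ha h => hf.1 _ _ _ a ha (hg.1 x y z a ha h),
      fun x y => (hf.2 _ _).trans (hg.2 x y)⟩
  inv_mem' := fun {f} hf => by
    refine ⟨fun x y z a ha h => ?_, fun x y => ?_⟩
    · let w : icoLeech := ⟨a • (f⁻¹ x : HV) + f⁻¹ y, leech_add (leech_smul ha (f⁻¹ x).2) (f⁻¹ y).2⟩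
      have hw := hf.1 (f⁻¹ x) (f⁻¹ y) w a ha rfl
      rw [perm_self_inv, perm_self_inv, ← h] at hw
      have : w = f⁻¹ z := by rw [← Subtype.ext hw, perm_inv_self]
      rw [← this]
    · have := hf.2 (f⁻¹ x) (f⁻¹ y)
      rw [perm_self_inv, perm_self_inv] at this
      exact this.symm

theorem refl_mem_linIso {r : HV} (h : Good r) : refl r h ∈ linIso :=
  ⟨fun x y z a _ e => by simp only [refl_apply, e, qrefl_linear], fun _ _ => qip_qrefl h.2 _ _⟩

theorem twoJ2_le_linIso : twoJ2 ≤ linIso := by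
  refine (Subgroup.closure_le _).2 fun f hf => ?_
  obtain ⟨r, h, rfl⟩ := exists_of_isIco hf
  exact refl_mem_linIso h

theorem map_smul_of_linIso {f : Equiv.Perm icoLeech} (hf : f ∈ linIso) {x z : icoLeech}
    {a : ℍ[ℝ]} (ha : a ∈ icosians) (h : (z : HV) = a • (x : HV)) :
    (f z : HV) = a • (f x : HV) := by
  let o : icoLeech := ⟨0, leech_zero⟩
  have h0 : (f o : HV) = 0 := by
    have := hf.1 o o o 1 (one_mem _) (by simp [o])
    simpa using this
  rw [hf.1 x o z a ha (by simp [o, h]), h0, add_zero]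

theorem good_map {f : Equiv.Perm icoLeech} (hf : f ∈ linIso) {r : HV} (h : Good r) :
    Good (f ⟨r, h.1⟩ : HV) := ⟨(f ⟨r, h.1⟩).2, (hf.2 _ _).trans h.2⟩

theorem conj_refl {f : Equiv.Perm icoLeech} (hf : f ∈ linIso) {r : HV} (h : Good r) :
    f * refl r h * f⁻¹ = refl _ (good_map hf h) := by
  refine Equiv.ext fun y => Subtype.ext ?_
  obtain ⟨x, rfl⟩ := f.surjective y
  rw [Equiv.Perm.mul_apply, Equiv.Perm.mul_apply, perm_inv_self, refl_apply]
  rw [hf.1 ⟨r, h.1⟩ x (refl r h x) _ (neg_mem (cof_mem x.2 h.1)) (qrefl_eq r x), qrefl_eq]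
  have : cof (f ⟨r, h.1⟩ : HV) (f x) = cof r x := by rw [cof, cof, hf.2]
  rw [this]

theorem refl_congr {r r' : HV} (h : Good r) (h' : Good r') {u : ℍ[ℝ]} (hu : normSq u = 1)
    (e : r' = u • r) : refl r' h' = refl r h :=
  Equiv.ext fun x => Subtype.ext (by rw [refl_apply, refl_apply, e, qrefl_unit_smul hu])

end Cfsg.Agent.HJ
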