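import Cfsg.Agent.Lib.HallJanko.Small
import Cfsg.Agent.Lib.HallJanko.GenChecks

/-!
# The 315 lines and the reflection group
-/

set_option autoImplicit false

namespace Cfsg.Agent.HJ

open Quaternion Cfsg.Spor V8

theorem mem_unitsL {u : V8} (h : u ∈ unitsL) : inI u = true ∧ normSq (toH u) = 1 := by
  have hc := units_check
  simp only [Bool.and_eq_true, List.all_eq_true, decide_eq_true_eq] at hc
  obtain ⟨hI, hn⟩ := hc.2 u h
  refine ⟨hI, ?_⟩
  rw [normSq_toH hI, hn]
  simp [toR]

theorem unitsL_nodup : unitsL.Nodup ∧ unitsL.length = 120 := by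
  have hc := units_check
  simp only [Bool.and_eq_true, decide_eq_true_eq] at hc
  exact hc.1

theorem inIdeal_spec {q v : V8} (hq : inI q = true) (hn : star (toH q) * toH q = 2)
    (hv : inI v = true) (h : inIdeal q v = true) : toH v ∈ leftIdeal (toH q) := by
  simp only [inIdeal, Bool.and_eq_true, decide_eq_true_eq] at h
  set w := divBy 2 (mul v (conj q)) with hw
  refine ⟨toH w, toH_mem h.2, ?_⟩
  have e := congrArg toH h.1
  rw [toH_smul, (toH_mul hv (inI_conj hq)).1, toH_conj] at e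
  have e' : ((2 : ℤ) • toH w) * toH q = toH v * 2 := by rw [e, mul_assoc, hn]
  rw [smul_mul_assoc, two_comm, two_mul, two_zsmul] at e'
  have : (2 : ℝ) • (toH w * toH q) = (2 : ℝ) • toH v := by rw [two_smul, two_smul, e']
  exact (smul_right_injective _ (two_ne_zero : (2 : ℝ) ≠ 0) this).symm

theorem qip_toV {a b : V3} (ha : inI a.x = true ∧ inI a.y = true ∧ inI a.z = true)
    (hb : inI b.x = true ∧ inI b.y = true ∧ inI b.z = true) :
    qip (toV a) (toV b) = toH (ipV a b) ∧ inI (ipV a b) = true := by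
  have e1 := toH_mul ha.1 (inI_conj hb.1)
  have e2 := toH_mul ha.2.1 (inI_conj hb.2.1)
  have e3 := toH_mul ha.2.2 (inI_conj hb.2.2)
  refine ⟨?_, inI_add (inI_add e1.2 e2.2) e3.2⟩
  simp [qip, Fin.sum_univ_three, toV, ipV, toH_add, e1.1, e2.1, e3.1, toH_conj]

/-- Componentwise membership in the ring. -/
def InV (a : V3) : Prop := inI a.x = true ∧ inI a.y = true ∧ inI a.z = true

theorem goodV_spec {v : V3} (h : goodV v = true) : InV v ∧ Good (toV v) := by
  simp only [goodV, Bool.and_eq_true, decide_eq_true_eq] at h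
  obtain ⟨⟨⟨⟨⟨⟨hx, hy⟩, hz⟩, h1⟩, h2⟩, h3⟩, h4⟩ := h
  refine ⟨⟨hx, hy, hz⟩, ⟨fun t => ?_, ?_, ?_, ?_⟩, ?_⟩
  · fin_cases t <;> simp [toV, toH_mem, hx, hy, hz]
  · have := inIdeal_spec (q := vh) (by decide +kernel) (by rw [toH_vh]; exact star_mul_icoH)
      (inI_sub hx hy) h1
    simpa [toV, toH_sub, toH_vh] using this
  · have := inIdeal_spec (q := vh) (by decide +kernel) (by rw [toH_vh]; exact star_mul_icoH)
      (inI_sub hy hz) h2
    simpa [toV, toH_sub, toH_vh] using this
  · have := inIdeal_spec (q := conj vh) (by decide +kernel)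
      (by rw [toH_conj, toH_vh, star_star]; exact icoH_mul_star) (inI_add (inI_add hx hy) hz) h3
    simpa [toV, toH_add, toH_conj, toH_vh] using this
  · rw [(qip_toV ⟨hx, hy, hz⟩ ⟨hx, hy, hz⟩).1, h4]
    rw [four_real]
    ext <;> simp [toR]
    norm_num

theorem rep_ok {i : ℕ} (hi : i < 315) : InV (rep i) ∧ Good (toV (rep i)) :=
  goodV_spec (allIdx_spec good_check hi)

/-- The representative of line `i`. -/
noncomputable def rv (i : Fin 315) : HV := toV (rep i)

theorem good_rv (i : Fin 315) : Good (rv i) := (rep_ok i.2).2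

/-- The representative as a lattice vector. -/
noncomputable def lv (i : Fin 315) : icoLeech := ⟨rv i, (good_rv i).1⟩

/-- The reflection attached to line `i`. -/
noncomputable def R (i : Fin 315) : Equiv.Perm icoLeech := refl (rv i) (good_rv i)

/-- The lines of the four generating reflections. -/
def gi (k : Fin 4) : Fin 315 := ⟨giN k % 315, Nat.mod_lt _ (by norm_num)⟩

/-- The action of a generator. -/
def gfun (k : Fin 4) (j : Fin 315) : Fin 315 := ⟨gtN k j % 315, Nat.mod_lt _ (by norm_num)⟩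

theorem gen_spec (k : Fin 4) (j : Fin 315) : (gfun k j : ℕ) = gtN k j ∧ gtN k (gtN k j) = j ∧
    guN k j ∈ unitsL ∧ reflV (rep (giN k)) (rep j) = smulV (guN k j) (rep (gtN k j)) := by
  have h := allIdx_spec (List.all_eq_true.1 gen_check k (List.mem_range.2 k.2)) j.2
  simp only [Bool.and_eq_true, decide_eq_true_eq] at h
  exact ⟨Nat.mod_eq_of_lt h.1.1.1, h.1.1.2, h.1.2, h.2⟩

theorem gi_val (k : Fin 4) : (gi k : ℕ) = giN k := by fin_cases k <;> rfl

/-- The permutation of the lines induced by a generator. -/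
def gperm (k : Fin 4) : Equiv.Perm (Fin 315) where
  toFun := gfun k
  invFun := gfun k
  left_inv j := Fin.ext (by rw [(gen_spec k _).1, (gen_spec k j).1, (gen_spec k j).2.1])
  right_inv j := Fin.ext (by rw [(gen_spec k _).1, (gen_spec k j).1, (gen_spec k j).2.1])

theorem gperm_apply (k : Fin 4) (j : Fin 315) : (gperm k j : ℕ) = gtN k j := (gen_spec k j).1

theorem gperm_sq (k : Fin 4) : gperm k * gperm k = 1 := Equiv.ext (gperm k).left_inv

theorem gperm_inv (k : Fin 4) : (gperm k)⁻¹ = gperm k := inv_eq_of_mul_eq_one_right (gperm_sq k)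

theorem qrefl_toV {r a : V3} (hr : InV r) (ha : InV a) (gr : Good (toV r)) (ga : Good (toV a)) :
    qrefl (toV r) (toV a) = toV (reflV r a) := by
  obtain ⟨w, hw, e⟩ := qip_even ga.1 gr.1
  obtain ⟨e1, -⟩ := qip_toV ha hr
  obtain ⟨v, hv, rfl⟩ := mem_icosians.1 hw
  have hd : divBy 2 (ipV a r) = v := by
    have h2 : ipV a r = smul 2 v := toH_injective (by rw [← e1, e, toH_smul, two_zsmul, two_mul])
    rw [h2]; cases v; simp [divBy, smul]
  have hc : cof (toV r) (toV a) = toH v := by rw [cof, e, half_two_mul]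
  funext t
  rw [qrefl_eq, hc]
  fin_cases t <;>
    simp [toV, reflV, force_eq, hd, toH_sub, (toH_mul hv hr.1).1, (toH_mul hv hr.2.1).1, (toH_mul hv hr.2.2).1,
      sub_eq_add_neg, add_comm]

theorem toV_smulV {u : V8} {a : V3} (hu : inI u = true) (ha : InV a) :
    toV (smulV u a) = toH u • toV a := by
  funext t
  fin_cases t <;> simp [toV, smulV, force_eq, (toH_mul hu ha.1).1, (toH_mul hu ha.2.1).1, (toH_mul hu ha.2.2).1]

/-- `f` carries line `j` to line `i`. -/
def Carries (f : Equiv.Perm icoLeech) (j i : Fin 315) : Prop :=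
  ∃ u, u ∈ icosians ∧ normSq u = 1 ∧ (f (lv j) : HV) = u • rv i

theorem carries_one (j : Fin 315) : Carries 1 j j :=
  ⟨1, one_mem _, map_one _, by simp [lv]⟩

theorem carries_mul {f g : Equiv.Perm icoLeech} {j i l : Fin 315} (hf : f ∈ linIso)
    (h1 : Carries g j i) (h2 : Carries f i l) : Carries (f * g) j l := by
  obtain ⟨u, hu, nu, e⟩ := h1
  obtain ⟨v, hv, nv, e'⟩ := h2
  refine ⟨u * v, mul_mem hu hv, by rw [map_mul, nu, nv, one_mul], ?_⟩
  rw [Equiv.Perm.mul_apply, map_smul_of_linIso hf (x := lv i) hu e, e', smul_smul]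

theorem carries_inv {f : Equiv.Perm icoLeech} {j i : Fin 315} (hf : f ∈ linIso)
    (h : Carries f j i) : Carries f⁻¹ i j := by
  obtain ⟨u, hu, nu, e⟩ := h
  refine ⟨star u, star_mem_icosians hu, by rw [Quaternion.normSq_star, nu], ?_⟩
  have e' : (lv i : HV) = star u • (f (lv j) : HV) := by
    rw [e, smul_smul, Quaternion.star_mul_self, nu, Quaternion.coe_one, one_smul]; rfl
  rw [map_smul_of_linIso (inv_mem hf) (x := f (lv j)) (star_mem_icosians hu) e', perm_inv_self]
  rfl

theorem conj_of_carries {f : Equiv.Perm icoLeech} (hf : f ∈ linIso) {j i : Fin 315}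
    (h : Carries f j i) : f * R j * f⁻¹ = R i := by
  obtain ⟨u, -, nu, e⟩ := h
  rw [R, conj_refl hf (good_rv j)]
  exact refl_congr (good_rv i) _ nu e

/-- A generator. -/
noncomputable def G (k : Fin 4) : Equiv.Perm icoLeech := R (gi k)

theorem G_mem (k : Fin 4) : G k ∈ twoJ2 := refl_mem (good_rv (gi k))

theorem carries_G (k : Fin 4) (j : Fin 315) : Carries (G k) j (gperm k j) := by
  obtain ⟨-, -, hu, e⟩ := gen_spec k j
  obtain ⟨hI, hn⟩ := mem_unitsL hu
  refine ⟨toH (guN k j), toH_mem hI, hn, ?_⟩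
  have hg : giN k < 315 := gi_val k ▸ (gi k).2
  rw [G, R, refl_apply]
  show qrefl (toV (rep (gi k))) (toV (rep j)) = _
  rw [gi_val, qrefl_toV (rep_ok hg).1 (rep_ok j.2).1 (rep_ok hg).2 (rep_ok j.2).2, e,
    ← gperm_apply, toV_smulV hI (rep_ok (gperm k j).2).1]
  rfl

/-- The group element of a word. -/
noncomputable def wG : List (Fin 4) → Equiv.Perm icoLeech
  | [] => 1
  | k :: w => G k * wG w

/-- The permutation of lines of a word. -/
def wP : List (Fin 4) → Equiv.Perm (Fin 315)
  | [] => 1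
  | k :: w => gperm k * wP w

theorem wG_mem : ∀ w : List (Fin 4), wG w ∈ Subgroup.closure (Set.range G)
  | [] => one_mem _
  | k :: w => mul_mem (Subgroup.subset_closure ⟨k, rfl⟩) (wG_mem w)

theorem closure_range_G_le : Subgroup.closure (Set.range G) ≤ twoJ2 :=
  (Subgroup.closure_le _).2 (by rintro _ ⟨k, rfl⟩; exact G_mem k)

theorem wG_linIso (w : List (Fin 4)) : wG w ∈ linIso :=
  twoJ2_le_linIso (closure_range_G_le (wG_mem w))

theorem carries_wG : ∀ (w : List (Fin 4)) (j : Fin 315), Carries (wG w) j (wP w j)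
  | [], j => carries_one j
  | k :: w, j => carries_mul (twoJ2_le_linIso (G_mem k)) (carries_wG w j) (carries_G k (wP w j))

/-- A word over the four generators. -/
def toWord (l : List ℕ) : List (Fin 4) := l.map fun k => ⟨k % 4, Nat.mod_lt _ (by norm_num)⟩

theorem wP_toWord : ∀ (l : List ℕ), (∀ k ∈ l, k < 4) → ∀ x : Fin 315, (wP (toWord l) x : ℕ) = awN l x
  | [], _, _ => rfl
  | k :: l, h, x => by
    have hk : k % 4 = k := Nat.mod_eq_of_lt (h k List.mem_cons_self)
    simp only [toWord, List.map_cons, wP, awN, Equiv.Perm.mul_apply, gperm_apply, hk]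
    rw [← wP_toWord l (fun a ha => h a (List.mem_cons_of_mem _ ha)) x]
    rfl

theorem cert_spec {cert : List (ℕ × List ℕ)} {fix : List ℕ} {root : Fin 315}
    (h : certOK cert fix root = true) {x : Fin 315} (hx : (x : ℕ) ∈ cert.map Prod.fst) :
    ∃ w, wP w root = x ∧ ∀ f : Fin 315, (f : ℕ) ∈ fix → wP w f = f := by
  obtain ⟨⟨a, l⟩, he, rfl⟩ := List.mem_map.1 hx
  have := List.all_eq_true.1 h _ he
  simp only [Bool.and_eq_true, List.all_eq_true, decide_eq_true_eq] at this
  obtain ⟨⟨h4, hr⟩, hf⟩ := this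
  exact ⟨toWord l, Fin.ext ((wP_toWord l h4 root).trans hr),
    fun f hf' => Fin.ext ((wP_toWord l h4 f).trans (hf _ hf'))⟩

theorem exists_word (x : Fin 315) : ∃ w, wP w 0 = x := by
  obtain ⟨w, hw, -⟩ := cert_spec (root := 0) words0_check
    (of_decide_eq_true (allIdx_spec words0_cover x.2))
  exact ⟨w, hw⟩

theorem R_eq_conj (x : Fin 315) : ∃ w, R x = wG w * R 0 * (wG w)⁻¹ := by
  obtain ⟨w, hw⟩ := exists_word x
  exact ⟨w, by rw [conj_of_carries (wG_linIso w) (hw ▸ carries_wG w 0)]⟩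

theorem R_zero_ne (m : Fin 315) (hm : m ≠ 0) : R 0 ≠ R m := by
  intro h
  have h0 := allIdx_spec distinct_check m.2
  have hm' : (m : ℕ) ≠ 0 := fun e => hm (Fin.ext e)
  simp only [hm', decide_false, Bool.false_or, Bool.not_eq_true', decide_eq_false_iff_not] at h0
  refine h0 (toV_injective ?_)
  have hI : inI ⟨-4, 0, 0, 0, 0, 0, 0, 0⟩ = true := by decide +kernel
  rw [← qrefl_toV (rep_ok (by norm_num)).1 (rep_ok m.2).1 (rep_ok (by norm_num)).2 (rep_ok m.2).2,
    toV_smulV hI (rep_ok m.2).1]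
  have e := congrArg (fun f : Equiv.Perm icoLeech => (f (lv m) : HV)) h
  simp only [R, refl_apply] at e
  rw [show toH ⟨-4, 0, 0, 0, 0, 0, 0, 0⟩ = -1 by ext <;> simp [toR], neg_smul, one_smul]
  refine e.trans ?_
  have hq := qip_qrefl_self (good_rv m).2 (rv m)
  rw [show (lv m : HV) = rv m from rfl, qrefl_eq, cof, (good_rv m).2,
    show (4 : ℍ[ℝ]) = 2 * 2 by norm_num, half_two_mul, neg_smul, two_smul]
  show -(rv m + rv m) + rv m = -rv m
  abel

theorem R_injective : Function.Injective R := by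
  intro i j h
  obtain ⟨w, hw⟩ := exists_word i
  have hc := carries_inv (wG_linIso w) (hw ▸ carries_wG w 0)
  obtain ⟨v, hv⟩ := exists_word j
  set m := (wP w)⁻¹ j with hm
  have hj : wP w m = j := by simp [hm]
  have hc' := carries_inv (wG_linIso w) (hj ▸ carries_wG w m)
  have e0 := conj_of_carries (inv_mem (wG_linIso w)) hc
  have e1 := conj_of_carries (inv_mem (wG_linIso w)) hc'
  rw [h, e1] at e0
  by_contra hij
  refine R_zero_ne m (fun e => hij ?_) e0.symm
  rw [← hw, ← hj, e]

theorem rv_ne_zero (i : Fin 315) : rv i ≠ 0 := by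
  intro h
  have := (good_rv i).2
  rw [h] at this
  have h4 := congrArg (fun q : ℍ[ℝ] => q.re) this
  simp [qip, four_real] at h4

theorem unit_rep_injective : Function.Injective
    fun p : {u // u ∈ unitsL} × Fin 315 => toH p.1 • rv p.2 := by
  rintro ⟨⟨u, hu⟩, i⟩ ⟨⟨v, hv⟩, j⟩ h
  simp only at h
  have hij : i = j := by
    refine R_injective (Equiv.ext fun x => Subtype.ext ?_)
    simp only [R, refl_apply]
    rw [← qrefl_unit_smul (mem_unitsL hu).2 (rv i), h, qrefl_unit_smul (mem_unitsL hv).2]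
  subst hij
  obtain ⟨t, ht⟩ := Function.ne_iff.1 (rv_ne_zero i)
  have := congrFun h t
  simp only [Pi.smul_apply, smul_eq_mul] at this
  have huv : toH u = toH v := mul_right_cancel₀ ht this
  simp [toH_injective huv]

theorem good_smul {u : ℍ[ℝ]} (hu : u ∈ icosians) (nu : normSq u = 1) {r : HV} (h : Good r) :
    Good (u • r) := by
  refine ⟨leech_smul hu h.1, ?_⟩
  rw [qip_smul_left, qip_smul_right, h.2, four_real, ← mul_assoc, Quaternion.mul_coe_eq_smul,
    smul_mul_assoc, Quaternion.self_mul_star, nu, Quaternion.coe_one, Quaternion.coe_one.symm,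
    Quaternion.smul_coe, mul_one]

theorem minimal_eq : {r : HV | Good r} =
    Set.range fun p : {u // u ∈ unitsL} × Fin 315 => toH p.1 • rv p.2 := by
  symm
  refine Set.eq_of_subset_of_ncard_le ?_ ?_ minimal_finite_card.1
  · rintro _ ⟨⟨⟨u, hu⟩, i⟩, rfl⟩
    exact good_smul (toH_mem (mem_unitsL hu).1) (mem_unitsL hu).2 (good_rv i)
  · rw [Set.ncard_range_of_injective unit_rep_injective]
    refine minimal_finite_card.2.trans (le_of_eq ?_)
    rw [Nat.card_prod, Nat.card_fin, ← Nat.card_congr (unitsL_nodup.1.getEquiv unitsL),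
      Nat.card_fin, unitsL_nodup.2]

end Cfsg.Agent.HJ
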