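import Cfsg.Agent.Lib.HallJanko.Data

/-!
# Computations with the 315 lines
-/

set_option autoImplicit false

namespace Cfsg.Agent.HJ

open V8

/-- The `i`-th representative. -/
def rep (i : ℕ) : V3 := (repTab.getD (i / 15) []).getD (i % 15) ⟨zero, zero, zero⟩

/-- The index of a generating reflection. -/
def giN : ℕ → ℕ
  | 0 => 0
  | 1 => 1
  | 2 => 83
  | _ => 93

/-- The action of generator `k` on indices. -/
def gtN (k j : ℕ) : ℕ := (genTab.getD k 0 >>> (9 * j)) &&& 511

/-- The unit factor attached to generator `k` on line `j`. -/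
def guN (k j : ℕ) : V8 := unitsL.getD ((unitTab.getD k 0 >>> (7 * j)) &&& 127) zero

/-- The action of a word (rightmost letter first). -/
def awN : List ℕ → ℕ → ℕ
  | [], x => x
  | k :: w, x => gtN k (awN w x)


/-- Hermitian product. -/
def ipV (a b : V3) : V8 := add (add (mul a.x (conj b.x)) (mul a.y (conj b.y))) (mul a.z (conj b.z))

/-- Evaluate a natural number before passing it on. -/
def forceN {α : Type} (n : ℕ) (k : ℕ → α) : α :=
  match n with
  | 0 => k 0
  | m + 1 => k (m + 1)

/-- Evaluate an integer before passing it on. -/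
def forceI {α : Type} (z : ℤ) (k : ℤ → α) : α :=
  match z with
  | .ofNat n => forceN n fun m => k (.ofNat m)
  | .negSucc n => forceN n fun m => k (.negSucc m)

theorem forceI_eq {α : Type} (z : ℤ) (k : ℤ → α) : forceI z k = k z := by
  rcases z with (_ | n) | (_ | n) <;> rfl

/-- Evaluate the coordinates before passing them on. -/
def force {α : Type} (v : V8) (k : V8 → α) : α :=
  forceI v.a0 fun a0 => forceI v.b0 fun b0 => forceI v.a1 fun a1 => forceI v.b1 fun b1 =>
    forceI v.a2 fun a2 => forceI v.b2 fun b2 => forceI v.a3 fun a3 => forceI v.b3 fun b3 =>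
      k ⟨a0, b0, a1, b1, a2, b2, a3, b3⟩

theorem force_eq {α : Type} (v : V8) (k : V8 → α) : force v k = k v := by
  simp only [force, forceI_eq]

/-- The reflection formula. -/
def reflV (r a : V3) : V3 :=
  force (divBy 2 (ipV a r)) fun q =>
  ⟨sub a.x (mul q r.x), sub a.y (mul q r.y), sub a.z (mul q r.z)⟩

/-- Scalar multiple of a triple. -/
def smulV (u : V8) (a : V3) : V3 := force u fun u => ⟨mul u a.x, mul u a.y, mul u a.z⟩

/-- The test for a minimal vector. -/
def goodV (v : V3) : Bool :=
  inI v.x && inI v.y && inI v.z && inIdeal vh (sub v.x v.y) && inIdeal vh (sub v.y v.z) &&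
    inIdeal (conj vh) (add (add v.x v.y) v.z) && decide (ipV v v = ⟨16, 0, 0, 0, 0, 0, 0, 0⟩)

/-- The norm of the inner product of two lines. -/
def k2 (i j : ℕ) : ℤ × ℤ := nrm (ipV (rep i) (rep j))

/-- The real part of a cyclic product of three inner products. -/
def k3 (i j k : ℕ) : ℤ × ℤ :=
  let p := mul (mul (ipV (rep i) (rep j)) (ipV (rep j) (rep k))) (ipV (rep k) (rep i))
  (p.a0, p.b0)

/-- A test on all indices. -/
def allIdx (f : ℕ → Bool) : Bool := (List.range 315).all f

theorem allIdx_spec {f : ℕ → Bool} (h : allIdx f = true) {i : ℕ} (hi : i < 315) : f i = true :=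
  List.all_eq_true.1 h i (List.mem_range.2 hi)

/-- Certificates for an orbit: each entry gives a word carrying `root` to it, fixing the points in `fix`. -/
def certOK (cert : List (ℕ × List ℕ)) (fix : List ℕ) (root : ℕ) : Bool :=
  cert.all fun e => e.2.all (fun k => decide (k < 4)) && decide (awN e.2 root = e.1) &&
    fix.all fun f => decide (awN e.2 f = f)

end Cfsg.Agent.HJ
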