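import Cfsg.Agent.Lib.Mathieu.ListGroup
import Cfsg.Agent.Lib.HallJanko.HundredPackData
import Cfsg.Agent.Lib.HallJanko.Lines
import Cfsg.Agent.Lib.HallJanko.MultData

/-!
Kernel checks of the certificates for the Schur multiplier of the Hall–Janko group.
-/

set_option autoImplicit false
set_option maxRecDepth 20000
set_option maxHeartbeats 1000000

namespace Cfsg.Agent.HJ

open Cfsg.Agent.Mathieu

/-- Packed permutations known to be in the group. -/
def knownM : List ℕ := gens100 ++ slpM.map fun s => s.1

/-- Membership test used for the certificate. -/
def memM (l : ℕ) : Bool := knownM.contains l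

/-- The kernel is central: only the identity matrix. -/
def matM (_ : ℕ) (M : List ℕ) : Bool := M == [1]

theorem slpM_ok : slpOK 100 gens100 slpM = true := by decide +kernel

theorem multPres_ok : multPres.ok 100 memM matM = true := by decide +kernel

theorem mult_sylOK : multCert.sylOK 100 = true := by decide +kernel

theorem mult_linOK : multCert.linOK 1 [2 ^ 28] = true := by decide +kernel

theorem mult_eqs_lt : (multCert.eqs.all fun q =>
    q.1.all fun i => decide (i < multCert.pres.gens.length)) = true := by decide +kernel

theorem mult_words : multCert.words.length = 128 := by decide +kernel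

theorem mult_extra : (decide (28 < multPres.rules.length) &&
    (multPres.rules.getD 28 ([], []) == ([0, 1, 3], [1, 3, 0])) &&
    isId 100 (multPres.prod 100 [0, 0]) && decide (3 < multPres.gens.length)) = true := by decide +kernel

/-- The first generator of a Sylow subgroup. -/
def mA (d : List ℕ) : ℕ := d.getD 0 0

/-- The second generator. -/
def mB (d : List ℕ) : ℕ := d.getD 1 0

/-- The normalising element. -/
def mG (d : List ℕ) : ℕ := d.getD 2 0

theorem five_check : ((fiveData.all fun l => memM l) &&
    listGroupOK 100 [mA fiveData, mB fiveData] fiveSteps &&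
    distinctList 100 (slpList [mA fiveData, mB fiveData] fiveSteps) &&
    ((slpList [mA fiveData, mB fiveData] fiveSteps).length == 25) &&
    samePack 100 (packMulS 100 (mA fiveData) (mB fiveData)) (packMulS 100 (mB fiveData) (mA fiveData)) &&
    samePack 100 (packMulS 100 (mG fiveData) (mA fiveData)) (packMulS 100 (mA fiveData) (mG fiveData)) &&
    isIdS 100 (packPowS 100 (mB fiveData) 5) &&
    samePack 100 (packMulS 100 (mG fiveData) (mB fiveData))
      (packMulS 100 (packPowS 100 (mB fiveData) 4) (mG fiveData))) = true := by decide +kernel

theorem three_check : ((threeData.all fun l => memM l) &&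
    listGroupOK 100 [mA threeData, mB threeData] threeSteps &&
    distinctList 100 (slpList [mA threeData, mB threeData] threeSteps) &&
    ((slpList [mA threeData, mB threeData] threeSteps).length == 27) &&
    isIdS 100 (packPowS 100 (mA threeData) 3) && isIdS 100 (packPowS 100 (mB threeData) 3) &&
    (let a := mA threeData; let b := mB threeData; let t := mG threeData
     let a2 := packPowS 100 a 2; let b2 := packPowS 100 b 2
     let c := packMulS 100 (packMulS 100 a b) (packMulS 100 a2 b2)
     !isIdS 100 c && isIdS 100 (packPowS 100 c 3) &&
      samePack 100 (packMulS 100 a c) (packMulS 100 c a) &&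
      samePack 100 (packMulS 100 b c) (packMulS 100 c b) &&
      samePack 100 (packMulS 100 t a) (packMulS 100 a2 t) &&
      samePack 100 (packMulS 100 t b) (packMulS 100 (packMulS 100 b2 c) t))) = true := by decide +kernel

/-- Product of the unit factors along a word. -/
def uW : List ℕ → ℕ → V8
  | [], _ => V8.one
  | k :: w, x => V8.mul (uW w x) (guN k (awN w x))

theorem word_check : ((wordA ++ wordB).all (fun k => decide (k < 4)) &&
    allIdx (fun x => awN (wordA ++ wordB) x == awN (wordB ++ wordA) x) &&
    !decide (uW (wordA ++ wordB) 0 = uW (wordB ++ wordA) 0)) = true := by decide +kernel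

end Cfsg.Agent.HJ
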