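import Cfsg.Agent.Lib.HallJanko.Lines

/-! Certificates for primitivity. -/

set_option autoImplicit false

namespace Cfsg.Agent.HJ

/-- Suborbit 0. -/
def suborb0 : List (ℕ × List ℕ) := [(1, []),
  (2, [3,2,0,3,2,3,2,0,3,2,2,3,0,2,3,1,2,3,0,2,3,2,3,0,2,3,3,0,1,2,1,3,1,0,2]),
  (307, [3,2,0,3,2,1,3,2,0,3,2]),
  (308, [2,3,0,2,3,1,2,3,0,2,3,2,3,0,2,3,3,0,1,2,1,3,1,0,2]),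
  (309, [3,2,0,3,2,2,3,0,2,3,1,2,3,0,2,3,2,3,0,2,3,3,0,1,2,1,3,1,0,2]),
  (310, [1,3,2,0,3,2]),
  (311, [3,2,0,3,2]),
  (312, [3,2,0,3,2,1,2,3,0,2,3,1,2,3,0,2,3,2,3,0,2,3,3,0,1,2,1,3,1,0,2]),
  (313, [1,2,3,0,2,3,1,2,3,0,2,3,2,3,0,2,3,3,0,1,2,1,3,1,0,2]),
  (314, [3,2,0,3,2,3,2,0,3,2])]

/-- Connectivity of orbital 0. -/
def orbital0 : List (ℕ × ℕ × ℕ × List ℕ) := [(1, 0, 1, []),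
  (2, 0, 2, []),
  (307, 0, 307, []),
  (308, 0, 308, []),
  (309, 0, 309, []),
  (310, 0, 310, []),
  (311, 0, 311, []),
  (312, 0, 312, []),
  (313, 0, 313, []),
  (314, 0, 314, []),
  (14, 1, 307, [2,1,0,2]),
  (13, 1, 308, [2,1,0,2]),
  (12, 1, 309, [2,1,0,2]),
  (11, 1, 310, [2,1,0,2]),
  (10, 1, 311, [2,1,0,2]),
  (9, 1, 312, [2,1,0,2]),
  (8, 1, 313, [2,1,0,2]),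
  (7, 1, 314, [2,1,0,2]),
  (6, 2, 307, [3,1,3]),
  (16, 2, 308, [3,1,3]),
  (4, 2, 309, [3,1,3]),
  (3, 2, 310, [3,1,3]),
  (18, 2, 311, [3,1,3]),
  (17, 2, 312, [3,1,3]),
  (5, 2, 313, [3,1,3]),
  (15, 2, 314, [3,1,3]),
  (29, 307, 307, [2,3,1,2,0,3,1,2]),
  (20, 307, 308, [2,3,1,2,0,3,1,2]),
  (27, 307, 309, [2,3,1,2,0,3,1,2]),
  (31, 307, 310, [2,3,1,2,0,3,1,2]),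
  (22, 307, 311, [2,3,1,2,0,3,1,2]),
  (26, 307, 312, [2,3,1,2,0,3,1,2]),
  (33, 307, 313, [2,3,1,2,0,3,1,2]),
  (24, 307, 314, [2,3,1,2,0,3,1,2]),
  (77, 308, 1, [1,3,2,1,3,2,3,2]),
  (72, 308, 2, [1,3,2,1,3,2,3,2]),
  (75, 308, 307, [1,3,2,1,3,2,3,2]),
  (67, 308, 308, [1,3,2,1,3,2,3,2]),
  (69, 308, 310, [1,3,2,1,3,2,3,2]),
  (80, 308, 311, [1,3,2,1,3,2,3,2]),
  (82, 308, 313, [1,3,2,1,3,2,3,2]),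
  (74, 308, 314, [1,3,2,1,3,2,3,2]),
  (63, 309, 307, [2,3,0,2,1,3]),
  (60, 309, 308, [2,3,0,2,1,3]),
  (51, 309, 309, [2,3,0,2,1,3]),
  (56, 309, 310, [2,3,0,2,1,3]),
  (61, 309, 311, [2,3,0,2,1,3]),
  (66, 309, 312, [2,3,0,2,1,3]),
  (57, 309, 313, [2,3,0,2,1,3]),
  (54, 309, 314, [2,3,0,2,1,3]),
  (40, 310, 1, [3,2,3,2,1,3,2]),
  (45, 310, 2, [3,2,3,2,1,3,2]),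
  (48, 310, 308, [3,2,3,2,1,3,2]),
  (43, 310, 309, [3,2,3,2,1,3,2]),
  (35, 310, 310, [3,2,3,2,1,3,2]),
  (50, 310, 311, [3,2,3,2,1,3,2]),
  (42, 310, 312, [3,2,3,2,1,3,2]),
  (37, 310, 313, [3,2,3,2,1,3,2]),
  (41, 311, 307, [3,2,0,3,1,0,2]),
  (47, 311, 308, [3,2,0,3,1,0,2]),
  (39, 311, 309, [3,2,0,3,1,0,2]),
  (36, 311, 310, [3,2,0,3,1,0,2]),
  (49, 311, 311, [3,2,0,3,1,0,2]),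
  (46, 311, 312, [3,2,0,3,1,0,2]),
  (38, 311, 313, [3,2,0,3,1,0,2]),
  (44, 311, 314, [3,2,0,3,1,0,2]),
  (53, 312, 307, [1,2,3,0,2,1,3]),
  (58, 312, 308, [1,2,3,0,2,1,3]),
  (65, 312, 309, [1,2,3,0,2,1,3]),
  (62, 312, 310, [1,2,3,0,2,1,3]),
  (55, 312, 311, [1,2,3,0,2,1,3]),
  (52, 312, 312, [1,2,3,0,2,1,3]),
  (59, 312, 313, [1,2,3,0,2,1,3]),
  (64, 312, 314, [1,2,3,0,2,1,3]),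
  (71, 313, 1, [3,2,1,3,2,3,2]),
  (78, 313, 2, [3,2,1,3,2,3,2]),
  (73, 313, 307, [3,2,1,3,2,3,2]),
  (81, 313, 308, [3,2,1,3,2,3,2]),
  (79, 313, 310, [3,2,1,3,2,3,2]),
  (70, 313, 311, [3,2,1,3,2,3,2]),
  (68, 313, 313, [3,2,1,3,2,3,2]),
  (76, 313, 314, [3,2,1,3,2,3,2]),
  (28, 314, 1, [2,3,1,2,3,2,3]),
  (25, 314, 2, [2,3,1,2,3,2,3]),
  (21, 314, 307, [2,3,1,2,3,2,3]),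
  (23, 314, 308, [2,3,1,2,3,2,3]),
  (34, 314, 309, [2,3,1,2,3,2,3]),
  (19, 314, 312, [2,3,1,2,3,2,3]),
  (30, 314, 313, [2,3,1,2,3,2,3]),
  (32, 314, 314, [2,3,1,2,3,2,3]),
  (221, 14, 307, [0,2,3,1,2,0,3]),
  (111, 14, 308, [0,2,3,1,2,0,3]),
  (97, 14, 309, [0,2,3,1,2,0,3]),
  (193, 14, 310, [0,2,3,1,2,0,3]),
  (131, 14, 311, [0,2,3,1,2,0,3]),
  (227, 14, 312, [0,2,3,1,2,0,3]),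
  (213, 14, 313, [0,2,3,1,2,0,3]),
  (103, 14, 314, [0,2,3,1,2,0,3]),
  (220, 13, 1, [2,0,3,2,1,3,2,3]),
  (106, 13, 2, [2,0,3,2,1,3,2,3]),
  (92, 13, 307, [2,0,3,2,1,3,2,3]),
  (110, 13, 308, [2,0,3,2,1,3,2,3]),
  (134, 13, 310, [2,0,3,2,1,3,2,3]),
  (192, 13, 311, [2,0,3,2,1,3,2,3]),
  (216, 13, 313, [2,0,3,2,1,3,2,3]),
  (234, 13, 314, [2,0,3,2,1,3,2,3]),
  (99, 12, 307, [2,3,0,2,1,3,1,2]),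
  (229, 12, 308, [2,3,0,2,1,3,1,2]),
  (211, 12, 309, [2,3,0,2,1,3,1,2]),
  (135, 12, 310, [2,3,0,2,1,3,1,2]),
  (189, 12, 311, [2,3,0,2,1,3,1,2]),
  (113, 12, 312, [2,3,0,2,1,3,1,2]),
  (95, 12, 313, [2,3,0,2,1,3,1,2]),
  (225, 12, 314, [2,3,0,2,1,3,1,2]),
  (232, 11, 1, [3,2,1,0,2]),
  (94, 11, 2, [3,2,1,0,2]),
  (102, 11, 307, [3,2,1,0,2]),
  (138, 11, 308, [3,2,1,0,2]),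
  (108, 11, 309, [3,2,1,0,2]),
  (218, 11, 312, [3,2,1,0,2]),
  (188, 11, 313, [3,2,1,0,2]),
  (224, 11, 314, [3,2,1,0,2]),
  (93, 10, 1, [0,3,2,1,0,2]),
  (231, 10, 2, [0,3,2,1,0,2]),
  (223, 10, 307, [0,3,2,1,0,2]),
  (187, 10, 308, [0,3,2,1,0,2]),
  (217, 10, 309, [0,3,2,1,0,2]),
  (107, 10, 312, [0,3,2,1,0,2]),
  (137, 10, 313, [0,3,2,1,0,2]),
  (101, 10, 314, [0,3,2,1,0,2]),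
  (226, 9, 307, [2,3,0,2,1,3,0,2]),
  (96, 9, 308, [2,3,0,2,1,3,0,2]),
  (114, 9, 309, [2,3,0,2,1,3,0,2]),
  (190, 9, 310, [2,3,0,2,1,3,0,2]),
  (136, 9, 311, [2,3,0,2,1,3,0,2]),
  (212, 9, 312, [2,3,0,2,1,3,0,2]),
  (230, 9, 313, [2,3,0,2,1,3,0,2]),
  (100, 9, 314, [2,3,0,2,1,3,0,2]),
  (191, 8, 307, [2,1,3,2,3,1,2,3,2]),
  (109, 8, 308, [2,1,3,2,3,1,2,3,2]),
  (105, 8, 309, [2,1,3,2,3,1,2,3,2]),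
  (91, 8, 310, [2,1,3,2,3,1,2,3,2]),
  (233, 8, 311, [2,1,3,2,3,1,2,3,2]),
  (219, 8, 312, [2,1,3,2,3,1,2,3,2]),
  (215, 8, 313, [2,1,3,2,3,1,2,3,2]),
  (133, 8, 314, [2,1,3,2,3,1,2,3,2]),
  (104, 7, 307, [2,3,1,2,0,3]),
  (214, 7, 308, [2,3,1,2,0,3]),
  (228, 7, 309, [2,3,1,2,0,3]),
  (132, 7, 310, [2,3,1,2,0,3]),
  (194, 7, 311, [2,3,1,2,0,3]),
  (98, 7, 312, [2,3,1,2,0,3]),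
  (112, 7, 313, [2,3,1,2,0,3]),
  (222, 7, 314, [2,3,1,2,0,3]),
  (160, 6, 1, [3,2,3,2,1,3,1,2]),
  (157, 6, 2, [3,2,3,2,1,3,1,2]),
  (155, 6, 308, [3,2,3,2,1,3,1,2]),
  (156, 6, 309, [3,2,3,2,1,3,1,2]),
  (159, 6, 310, [3,2,3,2,1,3,1,2]),
  (158, 6, 311, [3,2,3,2,1,3,1,2]),
  (161, 6, 312, [3,2,3,2,1,3,1,2]),
  (162, 6, 313, [3,2,3,2,1,3,1,2]),
  (151, 16, 1, [2,1,3,2,1,3,2]),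
  (150, 16, 2, [2,1,3,2,1,3,2]),
  (154, 16, 307, [2,1,3,2,1,3,2]),
  (149, 16, 308, [2,1,3,2,1,3,2]),
  (153, 16, 310, [2,1,3,2,1,3,2]),
  (148, 16, 311, [2,1,3,2,1,3,2]),
  (152, 16, 313, [2,1,3,2,1,3,2]),
  (147, 16, 314, [2,1,3,2,1,3,2]),
  (142, 4, 1, [3,1,2,3,1,2,3,1,2]),
  (143, 4, 2, [3,1,2,3,1,2,3,1,2]),
  (145, 4, 307, [3,1,2,3,1,2,3,1,2]),
  (139, 4, 309, [3,1,2,3,1,2,3,1,2]),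
  (141, 4, 310, [3,1,2,3,1,2,3,1,2]),
  (144, 4, 311, [3,1,2,3,1,2,3,1,2]),
  (146, 4, 312, [3,1,2,3,1,2,3,1,2]),
  (140, 4, 314, [3,1,2,3,1,2,3,1,2]),
  (235, 3, 1, [2,3,1,3]),
  (242, 3, 2, [2,3,1,3]),
  (238, 3, 307, [2,3,1,3]),
  (236, 3, 308, [2,3,1,3]),
  (240, 3, 309, [2,3,1,3]),
  (237, 3, 312, [2,3,1,3]),
  (241, 3, 313, [2,3,1,3]),
  (239, 3, 314, [2,3,1,3]),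
  (90, 18, 1, [0,2,3,1,3]),
  (83, 18, 2, [0,2,3,1,3]),
  (87, 18, 307, [0,2,3,1,3]),
  (89, 18, 308, [0,2,3,1,3]),
  (85, 18, 309, [0,2,3,1,3]),
  (88, 18, 312, [0,2,3,1,3]),
  (84, 18, 313, [0,2,3,1,3]),
  (86, 18, 314, [0,2,3,1,3]),
  (180, 17, 1, [3,0,2,3,2,3,1,3,0,2]),
  (185, 17, 2, [3,0,2,3,2,3,1,3,0,2]),
  (179, 17, 307, [3,0,2,3,2,3,1,3,0,2]),
  (182, 17, 308, [3,0,2,3,2,3,1,3,0,2]),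
  (181, 17, 309, [3,0,2,3,2,3,1,3,0,2]),
  (184, 17, 312, [3,0,2,3,2,3,1,3,0,2]),
  (183, 17, 313, [3,0,2,3,2,3,1,3,0,2]),
  (186, 17, 314, [3,0,2,3,2,3,1,3,0,2]),
  (175, 5, 1, [2,3,2,3,1,3]),
  (174, 5, 2, [2,3,2,3,1,3]),
  (177, 5, 307, [2,3,2,3,1,3]),
  (173, 5, 309, [2,3,2,3,1,3]),
  (171, 5, 310, [2,3,2,3,1,3]),
  (178, 5, 311, [2,3,2,3,1,3]),
  (176, 5, 312, [2,3,2,3,1,3]),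
  (172, 5, 314, [2,3,2,3,1,3]),
  (165, 15, 1, [0,3,2,3,2,1,3,1,2]),
  (168, 15, 2, [0,3,2,3,2,1,3,1,2]),
  (170, 15, 308, [0,3,2,3,2,1,3,1,2]),
  (169, 15, 309, [0,3,2,3,2,1,3,1,2]),
  (166, 15, 310, [0,3,2,3,2,1,3,1,2]),
  (167, 15, 311, [0,3,2,3,2,1,3,1,2]),
  (164, 15, 312, [0,3,2,3,2,1,3,1,2]),
  (163, 15, 313, [0,3,2,3,2,1,3,1,2]),
  (118, 29, 308, [3,2,3,0,2,3,1,3,0,2]),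
  (130, 29, 313, [3,2,3,0,2,3,1,3,0,2]),
  (209, 20, 1, [1,2,3,2,1,3,1,2]),
  (199, 20, 2, [1,2,3,2,1,3,1,2]),
  (205, 27, 310, [3,1,2,0,3,1,2]),
  (197, 27, 311, [3,1,2,0,3,1,2]),
  (121, 31, 308, [1,3,2,3,1,2]),
  (202, 31, 313, [1,3,2,3,1,2]),
  (204, 22, 309, [2,1,3,2,3]),
  (123, 22, 312, [2,1,3,2,3]),
  (128, 26, 310, [3,2,0,3,1,3,2]),
  (120, 26, 311, [3,2,0,3,1,3,2]),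
  (126, 33, 309, [2,0,3,2,3,1,3,2]),
  (116, 33, 312, [2,0,3,2,3,1,3,2]),
  (195, 24, 1, [2,3,1,2,3,1,2,3,2]),
  (207, 24, 2, [2,3,1,2,3,1,2,3,2]),
  (115, 77, 314, [3,1,2,3,0,2]),
  (210, 72, 314, [0,3,1,2,3,0,2]),
  (196, 75, 1, [0,3,2,1,3,1,2]),
  (201, 67, 314, [1,3,2,3,1,2,3,2]),
  (206, 69, 2, [3,0,2,3,1,3,2]),
  (119, 80, 310, [2,0,3,2,1,3]),
  (124, 82, 311, [2,3,2,1,3,2,3]),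
  (129, 74, 1, [3,2,1,3,1,2]),
  (122, 63, 311, [2,1,3,0,2,1,3]),
  (198, 56, 308, [1,0,2,3,1,2]),
  (127, 61, 308, [1,2,3,1,2]),
  (203, 54, 310, [3,0,2,1,3,0,2]),
  (208, 35, 314, [1,3,2,3,2,0,3,1,2]),
  (117, 50, 314, [1,0,3,2,3,2,0,3,1,2]),
  (200, 36, 307, [0,3,2,3,2,0,3,1,2]),
  (125, 49, 307, [3,2,3,2,0,3,1,2]),
  (279, 221, 310, [0,2,0,3,2,3,1,3,1,2]),
  (266, 221, 311, [0,2,0,3,2,3,1,3,1,2]),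
  (267, 111, 309, [2,3,0,2,3,1,3,0,2]),
  (282, 111, 312, [2,3,0,2,3,1,3,0,2]),
  (292, 97, 307, [3,1,2,3,2,3]),
  (270, 97, 314, [3,1,2,3,2,3]),
  (258, 193, 308, [1,2,3,0,2]),
  (296, 193, 313, [1,2,3,0,2]),
  (260, 131, 308, [2,3,0,2]),
  (286, 131, 313, [2,3,0,2]),
  (290, 227, 310, [0,3,1,2,0,3]),
  (248, 227, 311, [0,3,1,2,0,3]),
  (300, 213, 309, [2,1,3,2,3,1,3,2]),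
  (249, 213, 312, [2,1,3,2,3,1,3,2]),
  (301, 103, 310, [1,0,2,0,3,2,3,1,3,1,2]),
  (252, 103, 311, [1,0,2,0,3,2,3,1,3,1,2]),
  (250, 220, 312, [3,1,2,3,1,3,2]),
  (268, 106, 312, [2,1,3,1,2,3,1,2]),
  (302, 92, 312, [1,0,3,2,3,1,3,2]),
  (295, 110, 310, [0,3,2,1,3,2,3]),
  (269, 134, 1, [0,3,0,2,3,1,2]),
  (247, 192, 310, [2,1,3,2,1,3]),
  (285, 216, 1, [3,1,0,2,3,1,2]),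
  (280, 234, 312, [0,3,2,3,1,3,2]),
  (259, 99, 311, [3,0,2,1,3,1,2]),
  (289, 135, 308, [0,2,1,0,3,1,2]),
  (291, 189, 310, [3,1,0,2,1,3]),
  (257, 225, 310, [0,3,0,2,1,3]),
  (251, 108, 314, [3,2,3,0,2,1,3,1,2]),
  (265, 218, 310, [3,2,3,0,2,1,3,0,2]),
  (299, 217, 2, [2,3,1,3,2,0,3,1,2]),
  (281, 107, 311, [0,3,2,3,0,2,1,3,0,2]),
  (278, 160, 310, [3,2,3,2,1,3,0,2]),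
  (274, 160, 311, [3,2,3,2,1,3,0,2]),
  (277, 157, 310, [3,2,0,3,1,2]),
  (273, 157, 311, [3,2,0,3,1,2]),
  (306, 155, 1, [3,2,3,1,2,3,2,3]),
  (246, 155, 2, [3,2,3,1,2,3,2,3]),
  (294, 156, 1, [2,3,2,3,0,2,1,3,1,2]),
  (256, 156, 2, [2,3,2,3,0,2,1,3,1,2]),
  (298, 159, 308, [1,3,1,2,3,1,2]),
  (253, 159, 313, [1,3,1,2,3,1,2]),
  (297, 158, 308, [0,3,1,2,3,1,2]),
  (254, 158, 313, [0,3,1,2,3,1,2]),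
  (255, 161, 310, [3,2,1,3,2,3,1,3,2]),
  (293, 161, 311, [3,2,1,3,2,3,1,3,2]),
  (245, 162, 1, [3,0,2,3,2,1,3,1,2]),
  (305, 162, 2, [3,0,2,3,2,1,3,1,2]),
  (276, 151, 1, [2,0,3]),
  (275, 150, 312, [1,2,3,2]),
  (261, 154, 1, [0,2,1,3]),
  (264, 149, 314, [1,3,1,2,3,1,2,3,2]),
  (304, 153, 1, [1,3,2,3,1,3,1,2]),
  (303, 148, 1, [0,3,2,3,1,3,1,2]),
  (263, 152, 309, [3,2,1,3,0,2,3,1,2]),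
  (262, 147, 1, [1,2,1,3]),
  (284, 139, 310, [3,1,0,2,1,3,0,2]),
  (243, 141, 314, [2,0,3,2,1,3,1,2]),
  (244, 144, 308, [0,3,1,3,2,3,1,2]),
  (283, 146, 311, [3,0,2,3,1,3,0,2]),
  (287, 238, 313, [2,3,2,3,2,1,3,1,2]),
  (288, 239, 314, [0,3,1,2,3,2,0,3,1,2]),
  (271, 87, 313, [2,3,1,2,3,2,0,3,1,2]),
  (272, 86, 307, [3,1,2,3,2,0,3,1,2])]

/-- Suborbit 1. -/
def suborb1 : List (ℕ × List ℕ) := [(3, []),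
  (4, [0,1,2,3,0,2,3,2,3,0,2,3,2,3,0,2,3,1,3,1,2,3,2,1,0,3,1,2,3,2,3,2,0,3,2,3,2,0,3,2,0]),
  (5, [2,3,0,2,3,1,2,3,0,2,3,2,3,0,2,3,3,0,1,2,1,3,1,0,2,3,2,0,3,2,2,3,0,2,3,1,2,3,0,2,3,2,3,0,2,3,3,0,1,2,1,3,1,0,2]),
  (6, [3,2,0,3,2,1,2,3,0,2,3,1,2,3,0,2,3,2,3,0,2,3,3,0,1,2,1,3,1,0,2,2,3,0,2,3,1,2,3,0,2,3,2,3,0,2,3,3,0,1,2,1,3,1,0,2]),
  (7, [3,2,0,3,2,2,3,0,2,3,1,2,3,0,2,3,2,3,0,2,3,3,0,1,2,1,3,1,0,2,2,3,0,2,3,1,2,3,0,2,3,2,3,0,2,3,3,0,1,2,1,3,1,0,2,0]),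
  (8, [2,3,0,2,3,1,2,3,0,2,3,2,3,0,2,3,3,0,1,2,1,3,1,0,2,3,2,0,3,2,1,2,3,0,2,3,1,2,3,0,2,3,2,3,0,2,3,3,0,1,2,1,3,1,0,2]),
  (9, [0,1,2,3,0,2,3,2,3,0,2,3,2,3,0,2,3,1,3,1,2,3,2,1,0,3,1,2,3,2,3,2,0,3,2,1,3,2,0,3,2]),
  (10, [3,2,0,3,2,3,2,0,3,2,2,3,0,2,3,1,2,3,0,2,3,2,3,0,2,3,3,0,1,2,1,3,1,0,2,0]),
  (11, [3,2,0,3,2,3,2,0,3,2,2,3,0,2,3,1,2,3,0,2,3,2,3,0,2,3,3,0,1,2,1,3,1,0,2]),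
  (12, [2,3,0,2,3,1,2,3,0,2,3,2,3,0,2,3,3,0,1,2,1,3,1,0,2,2,3,0,2,3,1,2,3,0,2,3,2,3,0,2,3,3,0,1,2,1,3,1,0,2,1,2,3,0,2,3,1,2,3,0,2,3,2,3,0,2,3,3,0,1,2,1,3,1,0,2]),
  (13, [2,3,0,2,3,1,2,3,0,2,3,2,3,0,2,3,3,0,1,2,1,3,1,0,2,1,2,3,0,2,3,1,2,3,0,2,3,2,3,0,2,3,3,0,1,2,1,3,1,0,2,2,3,0,2,3,1,2,3,0,2,3,2,3,0,2,3,3,0,1,2,1,3,1,0,2]),
  (14, [3,2,0,3,2,2,3,0,2,3,1,2,3,0,2,3,2,3,0,2,3,3,0,1,2,1,3,1,0,2,2,3,0,2,3,1,2,3,0,2,3,2,3,0,2,3,3,0,1,2,1,3,1,0,2]),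
  (15, [0,1,2,3,0,2,3,2,3,0,2,3,2,3,0,2,3,1,3,1,2,3,2,1,0,3,1,2,3,2,3,2,0,3,2,2,3,0,2,3,1,2,3,0,2,3,2,3,0,2,3,3,0,1,2,1,3,1,0,2,3,2,0,3,2]),
  (16, [2,3,0,2,3,1,2,3,0,2,3,2,3,0,2,3,3,0,1,2,1,3,1,0,2,3,2,0,3,2,2,3,0,2,3,1,2,3,0,2,3,2,3,0,2,3,3,0,1,2,1,3,1,0,2,0]),
  (17, [0,1,2,3,0,2,3,2,3,0,2,3,2,3,0,2,3,1,3,1,2,3,2,1,0,3,1,2,3,2,3,2,0,3,2,3,2,0,3,2]),
  (18, [0]),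
  (19, [0,1,2,3,0,2,3,2,3,0,2,3,2,3,0,2,3,1,3,1,2,3,2,1,0,3,1,2,3,2,1,2,3,0,2,3,1,2,3,0,2,3,2,3,0,2,3,3,0,1,2,1,3,1,0,2]),
  (20, [3,2,0,3,2,3,2,0,3,2]),
  (21, [1,2,3,0,2,3,1,2,3,0,2,3,2,3,0,2,3,3,0,1,2,1,3,1,0,2,3,2,0,3,2,3,2,0,3,2]),
  (22, [2,3,0,2,3,1,2,3,0,2,3,2,3,0,2,3,3,0,1,2,1,3,1,0,2,3,2,0,3,2,3,2,0,3,2,0]),
  (23, [3,2,0,3,2,1,3,2,0,3,2,0]),
  (24, [3,2,0,3,2,2,3,0,2,3,1,2,3,0,2,3,2,3,0,2,3,3,0,1,2,1,3,1,0,2,3,2,0,3,2]),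
  (25, [1,0,1,2,3,0,2,3,2,3,0,2,3,2,3,0,2,3,1,3,1,2,3,2,1,0,3,1,2,3,2,2,3,0,2,3,1,2,3,0,2,3,2,3,0,2,3,3,0,1,2,1,3,1,0,2]),
  (26, [0,1,2,3,0,2,3,2,3,0,2,3,2,3,0,2,3,1,3,1,2,3,2,1,0,3,1,2,3,2,2,3,0,2,3,1,2,3,0,2,3,2,3,0,2,3,3,0,1,2,1,3,1,0,2,0]),
  (27, [0,1,2,3,0,2,3,2,3,0,2,3,2,3,0,2,3,1,3,1,2,3,2,1,0,3,1,2,3,2,2,3,0,2,3,1,2,3,0,2,3,2,3,0,2,3,3,0,1,2,1,3,1,0,2]),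
  (28, [1,0,1,2,3,0,2,3,2,3,0,2,3,2,3,0,2,3,1,3,1,2,3,2,1,0,3,1,2,3,2,2,3,0,2,3,1,2,3,0,2,3,2,3,0,2,3,3,0,1,2,1,3,1,0,2,0]),
  (29, [3,2,0,3,2,2,3,0,2,3,1,2,3,0,2,3,2,3,0,2,3,3,0,1,2,1,3,1,0,2,3,2,0,3,2,0]),
  (30, [3,2,0,3,2,1,3,2,0,3,2]),
  (31, [2,3,0,2,3,1,2,3,0,2,3,2,3,0,2,3,3,0,1,2,1,3,1,0,2,3,2,0,3,2,3,2,0,3,2]),
  (32, [0,1,2,3,0,2,3,2,3,0,2,3,2,3,0,2,3,1,3,1,2,3,2,1,0,3,1,2,3,2,3,2,0,3,2,0,1,2,3,0,2,3,2,3,0,2,3,2,3,0,2,3,1,3,1,2,3,2,1,0,3,1,2,3,2,2,3,0,2,3,1,2,3,0,2,3,2,3,0,2,3,3,0,1,2,1,3,1,0,2]),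
  (33, [3,2,0,3,2,3,2,0,3,2,0]),
  (34, [1,3,2,0,3,2,3,2,0,3,2]),
  (35, [2,3,0,2,3,1,2,3,0,2,3,2,3,0,2,3,3,0,1,2,1,3,1,0,2,2,3,0,2,3,1,2,3,0,2,3,2,3,0,2,3,3,0,1,2,1,3,1,0,2,3,2,0,3,2]),
  (36, [2,3,0,2,3,1,2,3,0,2,3,2,3,0,2,3,3,0,1,2,1,3,1,0,2,1,3,2,0,3,2]),
  (37, [2,3,0,2,3,1,2,3,0,2,3,2,3,0,2,3,3,0,1,2,1,3,1,0,2,3,2,0,3,2]),
  (38, [1,2,3,0,2,3,1,2,3,0,2,3,2,3,0,2,3,3,0,1,2,1,3,1,0,2,3,2,0,3,2,0]),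
  (39, [1,3,2,0,3,2,0]),
  (40, [3,2,0,3,2]),
  (41, [1,0,1,2,3,0,2,3,2,3,0,2,3,2,3,0,2,3,1,3,1,2,3,2,1,0,3,1,2,3,2,2,3,0,2,3,1,2,3,0,2,3,2,3,0,2,3,3,0,1,2,1,3,1,0,2,3,2,0,3,2]),
  (42, [0,1,2,3,0,2,3,2,3,0,2,3,2,3,0,2,3,1,3,1,2,3,2,1,0,3,1,2,3,2,2,3,0,2,3,1,2,3,0,2,3,2,3,0,2,3,3,0,1,2,1,3,1,0,2,3,2,0,3,2,0]),
  (43, [0,1,2,3,0,2,3,2,3,0,2,3,2,3,0,2,3,1,3,1,2,3,2,1,0,3,1,2,3,2,2,3,0,2,3,1,2,3,0,2,3,2,3,0,2,3,3,0,1,2,1,3,1,0,2,3,2,0,3,2]),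
  (44, [2,3,0,2,3,1,2,3,0,2,3,2,3,0,2,3,3,0,1,2,1,3,1,0,2,2,3,0,2,3,1,2,3,0,2,3,2,3,0,2,3,3,0,1,2,1,3,1,0,2,1,3,2,0,3,2]),
  (45, [3,2,0,3,2,0]),
  (46, [1,3,2,0,3,2]),
  (47, [1,2,3,0,2,3,1,2,3,0,2,3,2,3,0,2,3,3,0,1,2,1,3,1,0,2,3,2,0,3,2]),
  (48, [2,3,0,2,3,1,2,3,0,2,3,2,3,0,2,3,3,0,1,2,1,3,1,0,2,3,2,0,3,2,0]),
  (49, [2,3,0,2,3,1,2,3,0,2,3,2,3,0,2,3,3,0,1,2,1,3,1,0,2,1,3,2,0,3,2,0]),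
  (50, [2,3,0,2,3,1,2,3,0,2,3,2,3,0,2,3,3,0,1,2,1,3,1,0,2,2,3,0,2,3,1,2,3,0,2,3,2,3,0,2,3,3,0,1,2,1,3,1,0,2,3,2,0,3,2,0]),
  (51, [0,1,2,3,0,2,3,2,3,0,2,3,2,3,0,2,3,1,3,1,2,3,2,1,0,3,1,2,3,2,2,3,0,2,3,1,2,3,0,2,3,2,3,0,2,3,3,0,1,2,1,3,1,0,2,1,2,3,0,2,3,1,2,3,0,2,3,2,3,0,2,3,3,0,1,2,1,3,1,0,2]),
  (52, [0,1,2,3,0,2,3,2,3,0,2,3,2,3,0,2,3,1,3,1,2,3,2,1,0,3,1,2,3,2,3,2,0,3,2,2,3,0,2,3,1,2,3,0,2,3,2,3,0,2,3,3,0,1,2,1,3,1,0,2]),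
  (53, [2,3,0,2,3,1,2,3,0,2,3,2,3,0,2,3,3,0,1,2,1,3,1,0,2,2,3,0,2,3,1,2,3,0,2,3,2,3,0,2,3,3,0,1,2,1,3,1,0,2]),
  (54, [3,2,0,3,2,1,2,3,0,2,3,1,2,3,0,2,3,2,3,0,2,3,3,0,1,2,1,3,1,0,2]),
  (55, [3,2,0,3,2,2,3,0,2,3,1,2,3,0,2,3,2,3,0,2,3,3,0,1,2,1,3,1,0,2]),
  (56, [1,3,2,0,3,2,2,3,0,2,3,1,2,3,0,2,3,2,3,0,2,3,3,0,1,2,1,3,1,0,2,0]),
  (57, [2,3,0,2,3,1,2,3,0,2,3,2,3,0,2,3,3,0,1,2,1,3,1,0,2,1,2,3,0,2,3,1,2,3,0,2,3,2,3,0,2,3,3,0,1,2,1,3,1,0,2,0]),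
  (58, [1,2,3,0,2,3,1,2,3,0,2,3,2,3,0,2,3,3,0,1,2,1,3,1,0,2,1,2,3,0,2,3,1,2,3,0,2,3,2,3,0,2,3,3,0,1,2,1,3,1,0,2]),
  (59, [1,2,3,0,2,3,1,2,3,0,2,3,2,3,0,2,3,3,0,1,2,1,3,1,0,2,1,2,3,0,2,3,1,2,3,0,2,3,2,3,0,2,3,3,0,1,2,1,3,1,0,2,0]),
  (60, [2,3,0,2,3,1,2,3,0,2,3,2,3,0,2,3,3,0,1,2,1,3,1,0,2,1,2,3,0,2,3,1,2,3,0,2,3,2,3,0,2,3,3,0,1,2,1,3,1,0,2]),
  (61, [1,3,2,0,3,2,2,3,0,2,3,1,2,3,0,2,3,2,3,0,2,3,3,0,1,2,1,3,1,0,2]),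
  (62, [3,2,0,3,2,2,3,0,2,3,1,2,3,0,2,3,2,3,0,2,3,3,0,1,2,1,3,1,0,2,0]),
  (63, [1,2,3,0,2,3,1,2,3,0,2,3,2,3,0,2,3,3,0,1,2,1,3,1,0,2,2,3,0,2,3,1,2,3,0,2,3,2,3,0,2,3,3,0,1,2,1,3,1,0,2]),
  (64, [2,3,0,2,3,1,2,3,0,2,3,2,3,0,2,3,3,0,1,2,1,3,1,0,2,2,3,0,2,3,1,2,3,0,2,3,2,3,0,2,3,3,0,1,2,1,3,1,0,2,0]),
  (65, [0,1,2,3,0,2,3,2,3,0,2,3,2,3,0,2,3,1,3,1,2,3,2,1,0,3,1,2,3,2,3,2,0,3,2,2,3,0,2,3,1,2,3,0,2,3,2,3,0,2,3,3,0,1,2,1,3,1,0,2,0]),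
  (66, [1,0,1,2,3,0,2,3,2,3,0,2,3,2,3,0,2,3,1,3,1,2,3,2,1,0,3,1,2,3,2,3,2,0,3,2,2,3,0,2,3,1,2,3,0,2,3,2,3,0,2,3,3,0,1,2,1,3,1,0,2]),
  (67, [1,2,3,0,2,3,1,2,3,0,2,3,2,3,0,2,3,3,0,1,2,1,3,1,0,2,0]),
  (68, [2,3,0,2,3,1,2,3,0,2,3,2,3,0,2,3,3,0,1,2,1,3,1,0,2]),
  (69, [3,2,0,3,2,0,1,2,3,0,2,3,2,3,0,2,3,2,3,0,2,3,1,3,1,2,3,2,1,0,3,1,2,3,2,2,3,0,2,3,1,2,3,0,2,3,2,3,0,2,3,3,0,1,2,1,3,1,0,2,0]),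
  (70, [3,2,0,3,2,3,2,0,3,2,1,3,2,0,3,2]),
  (71, [1,3,2,0,3,2,3,2,0,3,2,3,2,0,3,2]),
  (72, [3,2,0,3,2,3,2,0,3,2,3,2,0,3,2,0]),
  (73, [3,2,0,3,2,1,3,2,0,3,2,3,2,0,3,2]),
  (74, [2,3,0,2,3,1,2,3,0,2,3,2,3,0,2,3,3,0,1,2,1,3,1,0,2,3,2,0,3,2,2,3,0,2,3,1,2,3,0,2,3,2,3,0,2,3,3,0,1,2,1,3,1,0,2,2,3,0,2,3,1,2,3,0,2,3,2,3,0,2,3,3,0,1,2,1,3,1,0,2]),
  (75, [3,2,0,3,2,2,3,0,2,3,1,2,3,0,2,3,2,3,0,2,3,3,0,1,2,1,3,1,0,2,3,2,0,3,2,3,2,0,3,2]),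
  (76, [3,2,0,3,2,0,1,2,3,0,2,3,2,3,0,2,3,2,3,0,2,3,1,3,1,2,3,2,1,0,3,1,2,3,2,1,2,3,0,2,3,1,2,3,0,2,3,2,3,0,2,3,3,0,1,2,1,3,1,0,2]),
  (77, [3,2,0,3,2,3,2,0,3,2,3,2,0,3,2]),
  (78, [1,3,2,0,3,2,3,2,0,3,2,3,2,0,3,2,0]),
  (79, [2,3,0,2,3,1,2,3,0,2,3,2,3,0,2,3,3,0,1,2,1,3,1,0,2,0,1,2,3,0,2,3,2,3,0,2,3,2,3,0,2,3,1,3,1,2,3,2,1,0,3,1,2,3,2,3,2,0,3,2,3,2,0,3,2]),
  (80, [3,2,0,3,2,0,1,2,3,0,2,3,2,3,0,2,3,2,3,0,2,3,1,3,1,2,3,2,1,0,3,1,2,3,2,2,3,0,2,3,1,2,3,0,2,3,2,3,0,2,3,3,0,1,2,1,3,1,0,2]),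
  (81, [2,3,0,2,3,1,2,3,0,2,3,2,3,0,2,3,3,0,1,2,1,3,1,0,2,0]),
  (82, [1,2,3,0,2,3,1,2,3,0,2,3,2,3,0,2,3,3,0,1,2,1,3,1,0,2])]

/-- Connectivity of orbital 1. -/
def orbital1 : List (ℕ × ℕ × ℕ × List ℕ) := [(3, 0, 3, []),
  (4, 0, 4, []),
  (5, 0, 5, []),
  (6, 0, 6, []),
  (7, 0, 7, []),
  (8, 0, 8, []),
  (9, 0, 9, []),
  (10, 0, 10, []),
  (11, 0, 11, []),
  (12, 0, 12, []),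
  (13, 0, 13, []),
  (14, 0, 14, []),
  (15, 0, 15, []),
  (16, 0, 16, []),
  (17, 0, 17, []),
  (18, 0, 18, []),
  (19, 0, 19, []),
  (20, 0, 20, []),
  (21, 0, 21, []),
  (22, 0, 22, []),
  (23, 0, 23, []),
  (24, 0, 24, []),
  (25, 0, 25, []),
  (26, 0, 26, []),
  (27, 0, 27, []),
  (28, 0, 28, []),
  (29, 0, 29, []),
  (30, 0, 30, []),
  (31, 0, 31, []),
  (32, 0, 32, []),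
  (33, 0, 33, []),
  (34, 0, 34, []),
  (35, 0, 35, []),
  (36, 0, 36, []),
  (37, 0, 37, []),
  (38, 0, 38, []),
  (39, 0, 39, []),
  (40, 0, 40, []),
  (41, 0, 41, []),
  (42, 0, 42, []),
  (43, 0, 43, []),
  (44, 0, 44, []),
  (45, 0, 45, []),
  (46, 0, 46, []),
  (47, 0, 47, []),
  (48, 0, 48, []),
  (49, 0, 49, []),
  (50, 0, 50, []),
  (51, 0, 51, []),
  (52, 0, 52, []),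
  (53, 0, 53, []),
  (54, 0, 54, []),
  (55, 0, 55, []),
  (56, 0, 56, []),
  (57, 0, 57, []),
  (58, 0, 58, []),
  (59, 0, 59, []),
  (60, 0, 60, []),
  (61, 0, 61, []),
  (62, 0, 62, []),
  (63, 0, 63, []),
  (64, 0, 64, []),
  (65, 0, 65, []),
  (66, 0, 66, []),
  (67, 0, 67, []),
  (68, 0, 68, []),
  (69, 0, 69, []),
  (70, 0, 70, []),
  (71, 0, 71, []),
  (72, 0, 72, []),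
  (73, 0, 73, []),
  (74, 0, 74, []),
  (75, 0, 75, []),
  (76, 0, 76, []),
  (77, 0, 77, []),
  (78, 0, 78, []),
  (79, 0, 79, []),
  (80, 0, 80, []),
  (81, 0, 81, []),
  (82, 0, 82, []),
  (255, 3, 3, [2,3,1,3]),
  (100, 3, 4, [2,3,1,3]),
  (110, 3, 8, [2,3,1,3]),
  (99, 3, 9, [2,3,1,3]),
  (276, 3, 10, [2,3,1,3]),
  (256, 3, 11, [2,3,1,3]),
  (98, 3, 14, [2,3,1,3]),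
  (97, 3, 15, [2,3,1,3]),
  (109, 3, 16, [2,3,1,3]),
  (275, 3, 18, [2,3,1,3]),
  (246, 3, 20, [2,3,1,3]),
  (245, 3, 23, [2,3,1,3]),
  (108, 3, 24, [2,3,1,3]),
  (105, 3, 25, [2,3,1,3]),
  (96, 3, 27, [2,3,1,3]),
  (288, 3, 30, [2,3,1,3]),
  (106, 3, 31, [2,3,1,3]),
  (95, 3, 32, [2,3,1,3]),
  (287, 3, 33, [2,3,1,3]),
  (107, 3, 34, [2,3,1,3]),
  (86, 3, 36, [2,3,1,3]),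
  (85, 3, 38, [2,3,1,3]),
  (90, 3, 39, [2,3,1,3]),
  (1, 3, 40, [2,3,1,3]),
  (84, 3, 41, [2,3,1,3]),
  (89, 3, 44, [2,3,1,3]),
  (83, 3, 46, [2,3,1,3]),
  (88, 3, 47, [2,3,1,3]),
  (87, 3, 49, [2,3,1,3]),
  (264, 3, 52, [2,3,1,3]),
  (91, 3, 53, [2,3,1,3]),
  (112, 3, 55, [2,3,1,3]),
  (92, 3, 56, [2,3,1,3]),
  (278, 3, 57, [2,3,1,3]),
  (102, 3, 59, [2,3,1,3]),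
  (263, 3, 60, [2,3,1,3]),
  (111, 3, 63, [2,3,1,3]),
  (277, 3, 65, [2,3,1,3]),
  (101, 3, 66, [2,3,1,3]),
  (103, 3, 68, [2,3,1,3]),
  (244, 3, 71, [2,3,1,3]),
  (298, 3, 74, [2,3,1,3]),
  (243, 3, 75, [2,3,1,3]),
  (94, 3, 76, [2,3,1,3]),
  (93, 3, 77, [2,3,1,3]),
  (297, 3, 78, [2,3,1,3]),
  (113, 3, 79, [2,3,1,3]),
  (104, 3, 80, [2,3,1,3]),
  (114, 3, 82, [2,3,1,3]),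
  (192, 4, 8, [3,1,2,3,1,2,3,1,2]),
  (231, 4, 11, [3,1,2,3,1,2,3,1,2]),
  (262, 4, 14, [3,1,2,3,1,2,3,1,2]),
  (232, 4, 16, [3,1,2,3,1,2,3,1,2]),
  (261, 4, 17, [3,1,2,3,1,2,3,1,2]),
  (191, 4, 18, [3,1,2,3,1,2,3,1,2]),
  (253, 4, 20, [3,1,2,3,1,2,3,1,2]),
  (254, 4, 25, [3,1,2,3,1,2,3,1,2]),
  (193, 4, 26, [3,1,2,3,1,2,3,1,2]),
  (229, 4, 30, [3,1,2,3,1,2,3,1,2]),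
  (230, 4, 31, [3,1,2,3,1,2,3,1,2]),
  (194, 4, 34, [3,1,2,3,1,2,3,1,2]),
  (138, 4, 36, [3,1,2,3,1,2,3,1,2]),
  (137, 4, 37, [3,1,2,3,1,2,3,1,2]),
  (293, 4, 39, [3,1,2,3,1,2,3,1,2]),
  (228, 4, 40, [3,1,2,3,1,2,3,1,2]),
  (227, 4, 41, [3,1,2,3,1,2,3,1,2]),
  (294, 4, 43, [3,1,2,3,1,2,3,1,2]),
  (135, 4, 53, [3,1,2,3,1,2,3,1,2]),
  (234, 4, 54, [3,1,2,3,1,2,3,1,2]),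
  (284, 4, 56, [3,1,2,3,1,2,3,1,2]),
  (233, 4, 58, [3,1,2,3,1,2,3,1,2]),
  (136, 4, 60, [3,1,2,3,1,2,3,1,2]),
  (283, 4, 65, [3,1,2,3,1,2,3,1,2]),
  (186, 4, 68, [3,1,2,3,1,2,3,1,2]),
  (180, 4, 70, [3,1,2,3,1,2,3,1,2]),
  (182, 4, 71, [3,1,2,3,1,2,3,1,2]),
  (184, 4, 73, [3,1,2,3,1,2,3,1,2]),
  (181, 4, 76, [3,1,2,3,1,2,3,1,2]),
  (183, 4, 78, [3,1,2,3,1,2,3,1,2]),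
  (185, 4, 79, [3,1,2,3,1,2,3,1,2]),
  (179, 4, 81, [3,1,2,3,1,2,3,1,2]),
  (223, 5, 5, [2,3,2,3,1,3]),
  (306, 5, 7, [2,3,2,3,1,3]),
  (224, 5, 11, [2,3,2,3,1,3]),
  (305, 5, 17, [2,3,2,3,1,3]),
  (188, 5, 23, [2,3,2,3,1,3]),
  (271, 5, 27, [2,3,2,3,1,3]),
  (187, 5, 31, [2,3,2,3,1,3]),
  (272, 5, 34, [2,3,2,3,1,3]),
  (219, 5, 36, [2,3,2,3,1,3]),
  (132, 5, 43, [2,3,2,3,1,3]),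
  (131, 5, 46, [2,3,2,3,1,3]),
  (220, 5, 48, [2,3,2,3,1,3]),
  (212, 5, 58, [2,3,2,3,1,3]),
  (211, 5, 63, [2,3,2,3,1,3]),
  (152, 5, 67, [2,3,2,3,1,3]),
  (148, 5, 69, [2,3,2,3,1,3]),
  (150, 5, 72, [2,3,2,3,1,3]),
  (154, 5, 74, [2,3,2,3,1,3]),
  (147, 5, 75, [2,3,2,3,1,3]),
  (151, 5, 77, [2,3,2,3,1,3]),
  (153, 5, 80, [2,3,2,3,1,3]),
  (149, 5, 82, [2,3,2,3,1,3]),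
  (273, 6, 6, [3,2,3,2,1,3,1,2]),
  (274, 6, 10, [3,2,3,2,1,3,1,2]),
  (170, 6, 20, [3,2,3,2,1,3,1,2]),
  (167, 6, 22, [3,2,3,2,1,3,1,2]),
  (169, 6, 24, [3,2,3,2,1,3,1,2]),
  (168, 6, 26, [3,2,3,2,1,3,1,2]),
  (165, 6, 27, [3,2,3,2,1,3,1,2]),
  (164, 6, 29, [3,2,3,2,1,3,1,2]),
  (166, 6, 31, [3,2,3,2,1,3,1,2]),
  (163, 6, 33, [3,2,3,2,1,3,1,2]),
  (225, 6, 36, [3,2,3,2,1,3,1,2]),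
  (226, 6, 45, [3,2,3,2,1,3,1,2]),
  (214, 6, 54, [3,2,3,2,1,3,1,2]),
  (213, 6, 65, [3,2,3,2,1,3,1,2]),
  (134, 6, 74, [3,2,3,2,1,3,1,2]),
  (133, 6, 81, [3,2,3,2,1,3,1,2]),
  (2, 7, 3, [2,3,1,2,0,3]),
  (221, 7, 7, [2,3,1,2,0,3]),
  (155, 7, 20, [2,3,1,2,0,3]),
  (280, 7, 21, [2,3,1,2,0,3]),
  (302, 7, 22, [2,3,1,2,0,3]),
  (173, 7, 24, [2,3,1,2,0,3]),
  (236, 7, 27, [2,3,1,2,0,3]),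
  (251, 7, 31, [2,3,1,2,0,3]),
  (265, 7, 32, [2,3,1,2,0,3]),
  (140, 7, 36, [2,3,1,2,0,3]),
  (157, 7, 38, [2,3,1,2,0,3]),
  (257, 7, 39, [2,3,1,2,0,3]),
  (259, 7, 40, [2,3,1,2,0,3]),
  (171, 7, 43, [2,3,1,2,0,3]),
  (285, 7, 45, [2,3,1,2,0,3]),
  (295, 7, 46, [2,3,1,2,0,3]),
  (172, 7, 51, [2,3,1,2,0,3]),
  (235, 7, 53, [2,3,1,2,0,3]),
  (269, 7, 55, [2,3,1,2,0,3]),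
  (247, 7, 56, [2,3,1,2,0,3]),
  (141, 7, 60, [2,3,1,2,0,3]),
  (289, 7, 61, [2,3,1,2,0,3]),
  (291, 7, 62, [2,3,1,2,0,3]),
  (237, 7, 68, [2,3,1,2,0,3]),
  (299, 7, 69, [2,3,1,2,0,3]),
  (281, 7, 70, [2,3,1,2,0,3]),
  (139, 7, 71, [2,3,1,2,0,3]),
  (156, 7, 75, [2,3,1,2,0,3]),
  (268, 7, 79, [2,3,1,2,0,3]),
  (250, 7, 80, [2,3,1,2,0,3]),
  (216, 8, 15, [2,1,3,2,3,1,2,3,2]),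
  (270, 8, 19, [2,1,3,2,3,1,2,3,2]),
  (162, 8, 23, [2,1,3,2,3,1,2,3,2]),
  (143, 8, 31, [2,1,3,2,3,1,2,3,2]),
  (248, 8, 33, [2,1,3,2,3,1,2,3,2]),
  (174, 8, 35, [2,1,3,2,3,1,2,3,2]),
  (279, 8, 38, [2,1,3,2,3,1,2,3,2]),
  (146, 8, 39, [2,1,3,2,3,1,2,3,2]),
  (301, 8, 48, [2,1,3,2,3,1,2,3,2]),
  (267, 8, 56, [2,1,3,2,3,1,2,3,2]),
  (239, 8, 60, [2,1,3,2,3,1,2,3,2]),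
  (249, 8, 62, [2,1,3,2,3,1,2,3,2]),
  (178, 8, 65, [2,1,3,2,3,1,2,3,2]),
  (158, 8, 72, [2,1,3,2,3,1,2,3,2]),
  (286, 8, 73, [2,1,3,2,3,1,2,3,2]),
  (296, 8, 75, [2,1,3,2,3,1,2,3,2]),
  (242, 8, 82, [2,1,3,2,3,1,2,3,2]),
  (189, 9, 10, [2,3,0,2,1,3,0,2]),
  (260, 9, 21, [2,3,0,2,1,3,0,2]),
  (258, 9, 22, [2,3,0,2,1,3,0,2]),
  (159, 9, 33, [2,3,0,2,1,3,0,2]),
  (290, 9, 39, [2,3,0,2,1,3,0,2]),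
  (292, 9, 40, [2,3,0,2,1,3,0,2]),
  (161, 9, 47, [2,3,0,2,1,3,0,2]),
  (176, 9, 65, [2,3,0,2,1,3,0,2]),
  (145, 9, 78, [2,3,0,2,1,3,0,2]),
  (238, 9, 82, [2,3,0,2,1,3,0,2]),
  (142, 10, 4, [0,3,2,1,0,2]),
  (240, 10, 34, [0,3,2,1,0,2]),
  (218, 10, 49, [0,3,2,1,0,2]),
  (252, 10, 55, [0,3,2,1,0,2]),
  (266, 10, 63, [0,3,2,1,0,2]),
  (177, 10, 75, [0,3,2,1,0,2]),
  (241, 11, 3, [3,2,1,0,2]),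
  (175, 11, 28, [3,2,1,0,2]),
  (217, 11, 36, [3,2,1,0,2]),
  (282, 11, 54, [3,2,1,0,2]),
  (300, 11, 62, [3,2,1,0,2]),
  (144, 11, 67, [3,2,1,0,2]),
  (190, 12, 11, [2,3,0,2,1,3,1,2]),
  (160, 12, 73, [2,3,0,2,1,3,1,2]),
  (215, 13, 64, [2,0,3,2,1,3,2,3]),
  (222, 14, 14, [0,2,3,1,2,0,3]),
  (303, 15, 11, [0,3,2,3,2,1,3,1,2]),
  (304, 15, 15, [0,3,2,3,2,1,3,1,2]),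
  (204, 19, 6, [0,2,3,2,1,3,1,2]),
  (130, 19, 11, [0,2,3,2,1,3,1,2]),
  (202, 19, 12, [0,2,3,2,1,3,1,2]),
  (197, 19, 14, [0,2,3,2,1,3,1,2]),
  (207, 19, 16, [0,2,3,2,1,3,1,2]),
  (120, 19, 17, [0,2,3,2,1,3,1,2]),
  (125, 19, 70, [0,2,3,2,1,3,1,2]),
  (115, 19, 79, [0,2,3,2,1,3,1,2]),
  (307, 19, 80, [0,2,3,2,1,3,1,2]),
  (203, 20, 6, [1,2,3,2,1,3,1,2]),
  (129, 20, 11, [1,2,3,2,1,3,1,2]),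
  (201, 20, 12, [1,2,3,2,1,3,1,2]),
  (198, 20, 14, [1,2,3,2,1,3,1,2]),
  (208, 20, 16, [1,2,3,2,1,3,1,2]),
  (119, 20, 17, [1,2,3,2,1,3,1,2]),
  (126, 20, 70, [1,2,3,2,1,3,1,2]),
  (116, 20, 79, [1,2,3,2,1,3,1,2]),
  (314, 20, 80, [1,2,3,2,1,3,1,2]),
  (122, 21, 23, [3,2,3,1,2]),
  (199, 21, 74, [3,2,3,1,2]),
  (195, 21, 77, [3,2,3,1,2]),
  (118, 21, 79, [3,2,3,1,2]),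
  (121, 22, 20, [2,1,3,2,3]),
  (117, 22, 52, [2,1,3,2,3]),
  (200, 22, 56, [2,1,3,2,3]),
  (196, 22, 63, [2,1,3,2,3]),
  (205, 23, 42, [2,1,3,2,3,1,3,1,2]),
  (128, 23, 46, [2,1,3,2,3,1,3,1,2]),
  (206, 24, 14, [2,3,1,2,3,1,2,3,2]),
  (127, 24, 16, [2,3,1,2,3,1,2,3,2]),
  (123, 25, 50, [2,0,3,1,2,0,3]),
  (124, 26, 47, [3,2,0,3,1,3,2]),
  (210, 27, 38, [3,1,2,0,3,1,2]),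
  (209, 28, 37, [1,3,2,0,3,1,3,2]),
  (311, 35, 41, [1,3,2,3,2,0,3,1,2]),
  (310, 36, 41, [0,3,2,3,2,0,3,1,2]),
  (312, 51, 38, [2,3,2,1,3,2,0,3,1,2]),
  (309, 52, 37, [2,1,3,1,2,3,1,2,3,2]),
  (313, 67, 67, [1,3,2,3,1,2,3,2]),
  (308, 68, 67, [0,3,2,3,1,2,3,2])]

/-- Suborbit 2. -/
def suborb2 : List (ℕ × List ℕ) := [(83, []),
  (84, [3,2,0,3,2,2,3,0,2,3,1,2,3,0,2,3,2,3,0,2,3,3,0,1,2,1,3,1,0,2,3,2,0,3,2]),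
  (85, [2,3,0,2,3,1,2,3,0,2,3,2,3,0,2,3,3,0,1,2,1,3,1,0,2,3,2,0,3,2,2,3,0,2,3,1,2,3,0,2,3,2,3,0,2,3,3,0,1,2,1,3,1,0,2,3,2,0,3,2,1]),
  (86, [2,3,0,2,3,1,2,3,0,2,3,2,3,0,2,3,3,0,1,2,1,3,1,0,2,1,3,2,0,3,2,1,0]),
  (87, [2,3,0,2,3,1,2,3,0,2,3,2,3,0,2,3,3,0,1,2,1,3,1,0,2,2,3,0,2,3,1,2,3,0,2,3,2,3,0,2,3,3,0,1,2,1,3,1,0,2,3,2,0,3,2,1,0]),
  (88, [3,2,0,3,2,1,3,2,0,3,2,3,2,0,3,2,1]),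
  (89, [3,2,0,3,2,1,3,2,0,3,2,0]),
  (90, [1,0]),
  (91, [3,2,0,3,2,1,3,2,0,3,2,3,2,0,3,2]),
  (92, [3,2,0,3,2,1,2,3,0,2,3,1,2,3,0,2,3,2,3,0,2,3,3,0,1,2,1,3,1,0,2,0,1,2,3,0,2,3,2,3,0,2,3,2,3,0,2,3,1,3,1,2,3,2,1,0,3,1,2,3,2,3,2,0,3,2]),
  (93, [3,2,0,3,2,3,2,0,3,2]),
  (94, [1,3,2,0,3,2,3,2,0,3,2,0]),
  (95, [3,2,0,3,2,3,2,0,3,2,0,1,2,3,0,2,3,2,3,0,2,3,2,3,0,2,3,1,3,1,2,3,2,1,0,3,1,2,3,2,3,2,0,3,2,1]),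
  (96, [0,1,2,3,0,2,3,2,3,0,2,3,2,3,0,2,3,1,3,1,2,3,2,1,0,3,1,2,3,2,3,2,0,3,2,1,3,2,0,3,2,0]),
  (97, [0,1,2,3,0,2,3,2,3,0,2,3,2,3,0,2,3,1,3,1,2,3,2,1,0,3,1,2,3,2,2,3,0,2,3,1,2,3,0,2,3,2,3,0,2,3,3,0,1,2,1,3,1,0,2,1]),
  (98, [1,0,1,2,3,0,2,3,2,3,0,2,3,2,3,0,2,3,1,3,1,2,3,2,1,0,3,1,2,3,2,2,3,0,2,3,1,2,3,0,2,3,2,3,0,2,3,3,0,1,2,1,3,1,0,2,1,0]),
  (99, [3,2,0,3,2,0,1,2,3,0,2,3,2,3,0,2,3,2,3,0,2,3,1,3,1,2,3,2,1,0,3,1,2,3,2,3,2,0,3,2]),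
  (100, [2,3,0,2,3,1,2,3,0,2,3,2,3,0,2,3,3,0,1,2,1,3,1,0,2,2,3,0,2,3,1,2,3,0,2,3,2,3,0,2,3,3,0,1,2,1,3,1,0,2,1]),
  (101, [0,1,2,3,0,2,3,2,3,0,2,3,2,3,0,2,3,1,3,1,2,3,2,1,0,3,1,2,3,2,3,2,0,3,2,3,2,0,3,2,3,2,0,3,2,0]),
  (102, [3,2,0,3,2,3,2,0,3,2,3,2,0,3,2,1]),
  (103, [3,2,0,3,2,2,3,0,2,3,1,2,3,0,2,3,2,3,0,2,3,3,0,1,2,1,3,1,0,2,3,2,0,3,2,1]),
  (104, [3,2,0,3,2,1,3,2,0,3,2,1,0]),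
  (105, [2,3,0,2,3,1,2,3,0,2,3,2,3,0,2,3,3,0,1,2,1,3,1,0,2,3,2,0,3,2,1,0]),
  (106, [1,2,3,0,2,3,1,2,3,0,2,3,2,3,0,2,3,3,0,1,2,1,3,1,0,2,3,2,0,3,2,1]),
  (107, [2,3,0,2,3,1,2,3,0,2,3,2,3,0,2,3,3,0,1,2,1,3,1,0,2,1,3,2,0,3,2,0]),
  (108, [2,3,0,2,3,1,2,3,0,2,3,2,3,0,2,3,3,0,1,2,1,3,1,0,2,2,3,0,2,3,1,2,3,0,2,3,2,3,0,2,3,3,0,1,2,1,3,1,0,2,3,2,0,3,2,0]),
  (109, [2,3,0,2,3,1,2,3,0,2,3,2,3,0,2,3,3,0,1,2,1,3,1,0,2,1]),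
  (110, [1,2,3,0,2,3,1,2,3,0,2,3,2,3,0,2,3,3,0,1,2,1,3,1,0,2,1,0]),
  (111, [2,3,0,2,3,1,2,3,0,2,3,2,3,0,2,3,3,0,1,2,1,3,1,0,2,3,2,0,3,2,2,3,0,2,3,1,2,3,0,2,3,2,3,0,2,3,3,0,1,2,1,3,1,0,2,3,2,0,3,2]),
  (112, [3,2,0,3,2,3,2,0,3,2,2,3,0,2,3,1,2,3,0,2,3,2,3,0,2,3,3,0,1,2,1,3,1,0,2,3,2,0,3,2,1]),
  (113, [3,2,0,3,2,2,3,0,2,3,1,2,3,0,2,3,2,3,0,2,3,3,0,1,2,1,3,1,0,2,1,3,2,0,3,2,0]),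
  (114, [2,3,0,2,3,1,2,3,0,2,3,2,3,0,2,3,3,0,1,2,1,3,1,0,2,0,1,2,3,0,2,3,2,3,0,2,3,2,3,0,2,3,1,3,1,2,3,2,1,0,3,1,2,3,2,3,2,0,3,2,1,0]),
  (115, [1,0,1,2,3,0,2,3,2,3,0,2,3,2,3,0,2,3,1,3,1,2,3,2,1,0,3,1,2,3,2,3,2,0,3,2,2,3,0,2,3,1,2,3,0,2,3,2,3,0,2,3,3,0,1,2,1,3,1,0,2,1]),
  (116, [0,1,2,3,0,2,3,2,3,0,2,3,2,3,0,2,3,1,3,1,2,3,2,1,0,3,1,2,3,2,3,2,0,3,2,2,3,0,2,3,1,2,3,0,2,3,2,3,0,2,3,3,0,1,2,1,3,1,0,2,1,0]),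
  (117, [1,0,1,2,3,0,2,3,2,3,0,2,3,2,3,0,2,3,1,3,1,2,3,2,1,0,3,1,2,3,2,1,3,2,0,3,2,0]),
  (118, [0,1,2,3,0,2,3,2,3,0,2,3,2,3,0,2,3,1,3,1,2,3,2,1,0,3,1,2,3,2,1,3,2,0,3,2]),
  (119, [1,0,1,2,3,0,2,3,2,3,0,2,3,2,3,0,2,3,1,3,1,2,3,2,1,0,3,1,2,3,2,3,2,0,3,2,1]),
  (120, [0,1,2,3,0,2,3,2,3,0,2,3,2,3,0,2,3,1,3,1,2,3,2,1,0,3,1,2,3,2,3,2,0,3,2,1,0]),
  (121, [0,1,2,3,0,2,3,2,3,0,2,3,2,3,0,2,3,1,3,1,2,3,2,1,0,3,1,2,3,2,2,3,0,2,3,1,2,3,0,2,3,2,3,0,2,3,3,0,1,2,1,3,1,0,2,3,2,0,3,2,1,0]),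
  (122, [2,3,0,2,3,1,2,3,0,2,3,2,3,0,2,3,3,0,1,2,1,3,1,0,2,3,2,0,3,2,3,2,0,3,2,3,2,0,3,2]),
  (123, [1,0,1,2,3,0,2,3,2,3,0,2,3,2,3,0,2,3,1,3,1,2,3,2,1,0,3,1,2,3,2,3,2,0,3,2,0]),
  (124, [0,1,2,3,0,2,3,2,3,0,2,3,2,3,0,2,3,1,3,1,2,3,2,1,0,3,1,2,3,2,3,2,0,3,2]),
  (125, [0,1,2,3,0,2,3,2,3,0,2,3,2,3,0,2,3,1,3,1,2,3,2,1,0,3,1,2,3,2,1,3,2,0,3,2,1,0]),
  (126, [0,1,2,3,0,2,3,2,3,0,2,3,2,3,0,2,3,1,3,1,2,3,2,1,0,3,1,2,3,2,2,3,0,2,3,1,2,3,0,2,3,2,3,0,2,3,3,0,1,2,1,3,1,0,2,2,3,0,2,3,1,2,3,0,2,3,2,3,0,2,3,3,0,1,2,1,3,1,0,2,3,2,0,3,2]),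
  (127, [0,1,2,3,0,2,3,2,3,0,2,3,2,3,0,2,3,1,3,1,2,3,2,1,0,3,1,2,3,2,2,3,0,2,3,1,2,3,0,2,3,2,3,0,2,3,3,0,1,2,1,3,1,0,2,3,2,0,3,2]),
  (128, [1,0,1,2,3,0,2,3,2,3,0,2,3,2,3,0,2,3,1,3,1,2,3,2,1,0,3,1,2,3,2,2,3,0,2,3,1,2,3,0,2,3,2,3,0,2,3,3,0,1,2,1,3,1,0,2,3,2,0,3,2,0]),
  (129, [3,2,0,3,2,2,3,0,2,3,1,2,3,0,2,3,2,3,0,2,3,3,0,1,2,1,3,1,0,2,3,2,0,3,2,3,2,0,3,2]),
  (130, [2,3,0,2,3,1,2,3,0,2,3,2,3,0,2,3,3,0,1,2,1,3,1,0,2,2,3,0,2,3,1,2,3,0,2,3,2,3,0,2,3,3,0,1,2,1,3,1,0,2,3,2,0,3,2,3,2,0,3,2,1]),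
  (131, [3,2,0,3,2,0]),
  (132, [1,3,2,0,3,2]),
  (133, [0,1,2,3,0,2,3,2,3,0,2,3,2,3,0,2,3,1,3,1,2,3,2,1,0,3,1,2,3,2,0,1,2,3,0,2,3,2,3,0,2,3,2,3,0,2,3,1,3,1,2,3,2,1,0,3,1,2,3,2,2,3,0,2,3,1,2,3,0,2,3,2,3,0,2,3,3,0,1,2,1,3,1,0,2,3,2,0,3,2,0]),
  (134, [0,1,2,3,0,2,3,2,3,0,2,3,2,3,0,2,3,1,3,1,2,3,2,1,0,3,1,2,3,2,1,0,1,2,3,0,2,3,2,3,0,2,3,2,3,0,2,3,1,3,1,2,3,2,1,0,3,1,2,3,2,3,2,0,3,2,1]),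
  (135, [2,3,0,2,3,1,2,3,0,2,3,2,3,0,2,3,3,0,1,2,1,3,1,0,2,3,2,0,3,2,3,2,0,3,2,0]),
  (136, [3,2,0,3,2,3,2,0,3,2,1,3,2,0,3,2]),
  (137, [3,2,0,3,2,1,0,1,2,3,0,2,3,2,3,0,2,3,2,3,0,2,3,1,3,1,2,3,2,1,0,3,1,2,3,2,1,3,2,0,3,2]),
  (138, [3,2,0,3,2,1,0,1,2,3,0,2,3,2,3,0,2,3,2,3,0,2,3,1,3,1,2,3,2,1,0,3,1,2,3,2,2,3,0,2,3,1,2,3,0,2,3,2,3,0,2,3,3,0,1,2,1,3,1,0,2,3,2,0,3,2]),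
  (139, [3,2,0,3,2,3,2,0,3,2,2,3,0,2,3,1,2,3,0,2,3,2,3,0,2,3,3,0,1,2,1,3,1,0,2,3,2,0,3,2,0]),
  (140, [0,1,2,3,0,2,3,2,3,0,2,3,2,3,0,2,3,1,3,1,2,3,2,1,0,3,1,2,3,2,3,2,0,3,2,3,2,0,3,2]),
  (141, [3,2,0,3,2,1,0,1,2,3,0,2,3,2,3,0,2,3,2,3,0,2,3,1,3,1,2,3,2,1,0,3,1,2,3,2,3,2,0,3,2]),
  (142, [3,2,0,3,2,2,3,0,2,3,1,2,3,0,2,3,2,3,0,2,3,3,0,1,2,1,3,1,0,2,2,3,0,2,3,1,2,3,0,2,3,2,3,0,2,3,3,0,1,2,1,3,1,0,2,3,2,0,3,2]),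
  (143, [2,3,0,2,3,1,2,3,0,2,3,2,3,0,2,3,3,0,1,2,1,3,1,0,2,0,1,2,3,0,2,3,2,3,0,2,3,2,3,0,2,3,1,3,1,2,3,2,1,0,3,1,2,3,2,3,2,0,3,2]),
  (144, [2,3,0,2,3,1,2,3,0,2,3,2,3,0,2,3,3,0,1,2,1,3,1,0,2,3,2,0,3,2,0,1,2,3,0,2,3,2,3,0,2,3,2,3,0,2,3,1,3,1,2,3,2,1,0,3,1,2,3,2,3,2,0,3,2,1]),
  (145, [0,1,2,3,0,2,3,2,3,0,2,3,2,3,0,2,3,1,3,1,2,3,2,1,0,3,1,2,3,2,3,2,0,3,2,3,2,0,3,2,1,0]),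
  (146, [2,3,0,2,3,1,2,3,0,2,3,2,3,0,2,3,3,0,1,2,1,3,1,0,2,3,2,0,3,2,1,3,2,0,3,2,0]),
  (147, [3,2,0,3,2,2,3,0,2,3,1,2,3,0,2,3,2,3,0,2,3,3,0,1,2,1,3,1,0,2,1,0]),
  (148, [3,2,0,3,2,0,1,2,3,0,2,3,2,3,0,2,3,2,3,0,2,3,1,3,1,2,3,2,1,0,3,1,2,3,2,3,2,0,3,2,1]),
  (149, [3,2,0,3,2,2,3,0,2,3,1,2,3,0,2,3,2,3,0,2,3,3,0,1,2,1,3,1,0,2,1,3,2,0,3,2,1]),
  (150, [1,3,2,0,3,2,3,2,0,3,2,3,2,0,3,2]),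
  (151, [3,2,0,3,2,3,2,0,3,2,3,2,0,3,2,0]),
  (152, [0,1,2,3,0,2,3,2,3,0,2,3,2,3,0,2,3,1,3,1,2,3,2,1,0,3,1,2,3,2,1,0,1,2,3,0,2,3,2,3,0,2,3,2,3,0,2,3,1,3,1,2,3,2,1,0,3,1,2,3,2,3,2,0,3,2,0]),
  (153, [2,3,0,2,3,1,2,3,0,2,3,2,3,0,2,3,3,0,1,2,1,3,1,0,2,0,1,2,3,0,2,3,2,3,0,2,3,2,3,0,2,3,1,3,1,2,3,2,1,0,3,1,2,3,2,1,2,3,0,2,3,1,2,3,0,2,3,2,3,0,2,3,3,0,1,2,1,3,1,0,2,1]),
  (154, [2,3,0,2,3,1,2,3,0,2,3,2,3,0,2,3,3,0,1,2,1,3,1,0,2,3,2,0,3,2]),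
  (155, [3,2,0,3,2,3,2,0,3,2,1]),
  (156, [2,3,0,2,3,1,2,3,0,2,3,2,3,0,2,3,3,0,1,2,1,3,1,0,2,1,3,2,0,3,2,3,2,0,3,2,0]),
  (157, [3,2,0,3,2,1,0]),
  (158, [0,1,2,3,0,2,3,2,3,0,2,3,2,3,0,2,3,1,3,1,2,3,2,1,0,3,1,2,3,2,3,2,0,3,2,0,1,2,3,0,2,3,2,3,0,2,3,2,3,0,2,3,1,3,1,2,3,2,1,0,3,1,2,3,2,3,2,0,3,2]),
  (159, [1,2,3,0,2,3,1,2,3,0,2,3,2,3,0,2,3,3,0,1,2,1,3,1,0,2,1,2,3,0,2,3,1,2,3,0,2,3,2,3,0,2,3,3,0,1,2,1,3,1,0,2,1]),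
  (160, [1,3,2,0,3,2,1]),
  (161, [1,2,3,0,2,3,1,2,3,0,2,3,2,3,0,2,3,3,0,1,2,1,3,1,0,2,1,3,2,0,3,2,3,2,0,3,2]),
  (162, [0,1,2,3,0,2,3,2,3,0,2,3,2,3,0,2,3,1,3,1,2,3,2,1,0,3,1,2,3,2,0,1,2,3,0,2,3,2,3,0,2,3,2,3,0,2,3,1,3,1,2,3,2,1,0,3,1,2,3,2,1,3,2,0,3,2]),
  (163, [1,3,2,0,3,2,3,2,0,3,2,1]),
  (164, [3,2,0,3,2,3,2,0,3,2,1,3,2,0,3,2,1]),
  (165, [1,3,2,0,3,2,1,0]),
  (166, [0,1,2,3,0,2,3,2,3,0,2,3,2,3,0,2,3,1,3,1,2,3,2,1,0,3,1,2,3,2,3,2,0,3,2,0,1,2,3,0,2,3,2,3,0,2,3,2,3,0,2,3,1,3,1,2,3,2,1,0,3,1,2,3,2,3,2,0,3,2,1]),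
  (167, [2,3,0,2,3,1,2,3,0,2,3,2,3,0,2,3,3,0,1,2,1,3,1,0,2,1,2,3,0,2,3,1,2,3,0,2,3,2,3,0,2,3,3,0,1,2,1,3,1,0,2,1]),
  (168, [3,2,0,3,2,1]),
  (169, [2,3,0,2,3,1,2,3,0,2,3,2,3,0,2,3,3,0,1,2,1,3,1,0,2,1,3,2,0,3,2,3,2,0,3,2]),
  (170, [3,2,0,3,2,3,2,0,3,2,1,0]),
  (171, [2,3,0,2,3,1,2,3,0,2,3,2,3,0,2,3,3,0,1,2,1,3,1,0,2,3,2,0,3,2,0]),
  (172, [1,3,2,0,3,2,0,1,2,3,0,2,3,2,3,0,2,3,2,3,0,2,3,1,3,1,2,3,2,1,0,3,1,2,3,2,3,2,0,3,2,1]),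
  (173, [0,1,2,3,0,2,3,2,3,0,2,3,2,3,0,2,3,1,3,1,2,3,2,1,0,3,1,2,3,2,1,0,1,2,3,0,2,3,2,3,0,2,3,2,3,0,2,3,1,3,1,2,3,2,1,0,3,1,2,3,2,3,2,0,3,2]),
  (174, [3,2,0,3,2,3,2,0,3,2,3,2,0,3,2]),
  (175, [2,3,0,2,3,1,2,3,0,2,3,2,3,0,2,3,3,0,1,2,1,3,1,0,2,3,2,0,3,2,3,2,0,3,2,1]),
  (176, [3,2,0,3,2,2,3,0,2,3,1,2,3,0,2,3,2,3,0,2,3,3,0,1,2,1,3,1,0,2,1,3,2,0,3,2,1,0]),
  (177, [3,2,0,3,2,0,1,2,3,0,2,3,2,3,0,2,3,2,3,0,2,3,1,3,1,2,3,2,1,0,3,1,2,3,2,3,2,0,3,2,1,0]),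
  (178, [3,2,0,3,2,2,3,0,2,3,1,2,3,0,2,3,2,3,0,2,3,3,0,1,2,1,3,1,0,2,1]),
  (179, [2,3,0,2,3,1,2,3,0,2,3,2,3,0,2,3,3,0,1,2,1,3,1,0,2,3,2,0,3,2,1,3,2,0,3,2]),
  (180, [0,1,2,3,0,2,3,2,3,0,2,3,2,3,0,2,3,1,3,1,2,3,2,1,0,3,1,2,3,2,3,2,0,3,2,3,2,0,3,2,1]),
  (181, [1,3,2,0,3,2,1,0,1,2,3,0,2,3,2,3,0,2,3,2,3,0,2,3,1,3,1,2,3,2,1,0,3,1,2,3,2,3,2,0,3,2]),
  (182, [2,3,0,2,3,1,2,3,0,2,3,2,3,0,2,3,3,0,1,2,1,3,1,0,2,0,1,2,3,0,2,3,2,3,0,2,3,2,3,0,2,3,1,3,1,2,3,2,1,0,3,1,2,3,2,3,2,0,3,2,0]),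
  (183, [1,2,3,0,2,3,1,2,3,0,2,3,2,3,0,2,3,3,0,1,2,1,3,1,0,2,0,1,2,3,0,2,3,2,3,0,2,3,2,3,0,2,3,1,3,1,2,3,2,1,0,3,1,2,3,2,3,2,0,3,2]),
  (184, [0,1,2,3,0,2,3,2,3,0,2,3,2,3,0,2,3,1,3,1,2,3,2,1,0,3,1,2,3,2,1,2,3,0,2,3,1,2,3,0,2,3,2,3,0,2,3,3,0,1,2,1,3,1,0,2,1]),
  (185, [0,1,2,3,0,2,3,2,3,0,2,3,2,3,0,2,3,1,3,1,2,3,2,1,0,3,1,2,3,2,3,2,0,3,2,3,2,0,3,2,0]),
  (186, [3,2,0,3,2,3,2,0,3,2,2,3,0,2,3,1,2,3,0,2,3,2,3,0,2,3,3,0,1,2,1,3,1,0,2,3,2,0,3,2]),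
  (187, [3,2,0,3,2,1,0,1,2,3,0,2,3,2,3,0,2,3,2,3,0,2,3,1,3,1,2,3,2,1,0,3,1,2,3,2,2,3,0,2,3,1,2,3,0,2,3,2,3,0,2,3,3,0,1,2,1,3,1,0,2,3,2,0,3,2,0]),
  (188, [3,2,0,3,2,1,0,1,2,3,0,2,3,2,3,0,2,3,2,3,0,2,3,1,3,1,2,3,2,1,0,3,1,2,3,2,1,3,2,0,3,2,0]),
  (189, [2,3,0,2,3,1,2,3,0,2,3,2,3,0,2,3,3,0,1,2,1,3,1,0,2,2,3,0,2,3,1,2,3,0,2,3,2,3,0,2,3,3,0,1,2,1,3,1,0,2,0,1,2,3,0,2,3,2,3,0,2,3,2,3,0,2,3,1,3,1,2,3,2,1,0,3,1,2,3,2,3,2,0,3,2]),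
  (190, [2,3,0,2,3,1,2,3,0,2,3,2,3,0,2,3,3,0,1,2,1,3,1,0,2,3,2,0,3,2,3,2,0,3,2]),
  (191, [2,3,0,2,3,1,2,3,0,2,3,2,3,0,2,3,3,0,1,2,1,3,1,0,2,0,1,2,3,0,2,3,2,3,0,2,3,2,3,0,2,3,1,3,1,2,3,2,1,0,3,1,2,3,2,0,1,2,3,0,2,3,2,3,0,2,3,2,3,0,2,3,1,3,1,2,3,2,1,0,3,1,2,3,2,3,2,0,3,2,3,2,0,3,2]),
  (192, [0,1,2,3,0,2,3,2,3,0,2,3,2,3,0,2,3,1,3,1,2,3,2,1,0,3,1,2,3,2,0,1,2,3,0,2,3,2,3,0,2,3,2,3,0,2,3,1,3,1,2,3,2,1,0,3,1,2,3,2,2,3,0,2,3,1,2,3,0,2,3,2,3,0,2,3,3,0,1,2,1,3,1,0,2,3,2,0,3,2]),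
  (193, [1,3,2,0,3,2,0]),
  (194, [3,2,0,3,2]),
  (195, [2,3,0,2,3,1,2,3,0,2,3,2,3,0,2,3,3,0,1,2,1,3,1,0,2,1,3,2,0,3,2,3,2,0,3,2,3,2,0,3,2]),
  (196, [3,2,0,3,2,2,3,0,2,3,1,2,3,0,2,3,2,3,0,2,3,3,0,1,2,1,3,1,0,2,3,2,0,3,2,3,2,0,3,2,0]),
  (197, [1,0,1,2,3,0,2,3,2,3,0,2,3,2,3,0,2,3,1,3,1,2,3,2,1,0,3,1,2,3,2,2,3,0,2,3,1,2,3,0,2,3,2,3,0,2,3,3,0,1,2,1,3,1,0,2,3,2,0,3,2]),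
  (198, [0,1,2,3,0,2,3,2,3,0,2,3,2,3,0,2,3,1,3,1,2,3,2,1,0,3,1,2,3,2,2,3,0,2,3,1,2,3,0,2,3,2,3,0,2,3,3,0,1,2,1,3,1,0,2,3,2,0,3,2,0]),
  (199, [0,1,2,3,0,2,3,2,3,0,2,3,2,3,0,2,3,1,3,1,2,3,2,1,0,3,1,2,3,2,2,3,0,2,3,1,2,3,0,2,3,2,3,0,2,3,3,0,1,2,1,3,1,0,2,2,3,0,2,3,1,2,3,0,2,3,2,3,0,2,3,3,0,1,2,1,3,1,0,2,3,2,0,3,2,0]),
  (200, [0,1,2,3,0,2,3,2,3,0,2,3,2,3,0,2,3,1,3,1,2,3,2,1,0,3,1,2,3,2,1,3,2,0,3,2,1]),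
  (201, [0,1,2,3,0,2,3,2,3,0,2,3,2,3,0,2,3,1,3,1,2,3,2,1,0,3,1,2,3,2,3,2,0,3,2,0]),
  (202, [1,0,1,2,3,0,2,3,2,3,0,2,3,2,3,0,2,3,1,3,1,2,3,2,1,0,3,1,2,3,2,3,2,0,3,2]),
  (203, [0,1,2,3,0,2,3,2,3,0,2,3,2,3,0,2,3,1,3,1,2,3,2,1,0,3,1,2,3,2,0,1,2,3,0,2,3,2,3,0,2,3,2,3,0,2,3,1,3,1,2,3,2,1,0,3,1,2,3,2,3,2,0,3,2,3,2,0,3,2]),
  (204, [0,1,2,3,0,2,3,2,3,0,2,3,2,3,0,2,3,1,3,1,2,3,2,1,0,3,1,2,3,2,2,3,0,2,3,1,2,3,0,2,3,2,3,0,2,3,3,0,1,2,1,3,1,0,2,3,2,0,3,2,1]),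
  (205, [0,1,2,3,0,2,3,2,3,0,2,3,2,3,0,2,3,1,3,1,2,3,2,1,0,3,1,2,3,2,3,2,0,3,2,1]),
  (206, [1,0,1,2,3,0,2,3,2,3,0,2,3,2,3,0,2,3,1,3,1,2,3,2,1,0,3,1,2,3,2,3,2,0,3,2,1,0]),
  (207, [0,1,2,3,0,2,3,2,3,0,2,3,2,3,0,2,3,1,3,1,2,3,2,1,0,3,1,2,3,2,1,3,2,0,3,2,0]),
  (208, [1,0,1,2,3,0,2,3,2,3,0,2,3,2,3,0,2,3,1,3,1,2,3,2,1,0,3,1,2,3,2,1,3,2,0,3,2]),
  (209, [0,1,2,3,0,2,3,2,3,0,2,3,2,3,0,2,3,1,3,1,2,3,2,1,0,3,1,2,3,2,3,2,0,3,2,2,3,0,2,3,1,2,3,0,2,3,2,3,0,2,3,3,0,1,2,1,3,1,0,2,1]),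
  (210, [1,0,1,2,3,0,2,3,2,3,0,2,3,2,3,0,2,3,1,3,1,2,3,2,1,0,3,1,2,3,2,3,2,0,3,2,2,3,0,2,3,1,2,3,0,2,3,2,3,0,2,3,3,0,1,2,1,3,1,0,2,1,0]),
  (211, [2,3,0,2,3,1,2,3,0,2,3,2,3,0,2,3,3,0,1,2,1,3,1,0,2,0,1,2,3,0,2,3,2,3,0,2,3,2,3,0,2,3,1,3,1,2,3,2,1,0,3,1,2,3,2,3,2,0,3,2,1]),
  (212, [3,2,0,3,2,2,3,0,2,3,1,2,3,0,2,3,2,3,0,2,3,3,0,1,2,1,3,1,0,2,1,3,2,0,3,2]),
  (213, [2,3,0,2,3,1,2,3,0,2,3,2,3,0,2,3,3,0,1,2,1,3,1,0,2,3,2,0,3,2,2,3,0,2,3,1,2,3,0,2,3,2,3,0,2,3,3,0,1,2,1,3,1,0,2,1,3,2,0,3,2]),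
  (214, [2,3,0,2,3,1,2,3,0,2,3,2,3,0,2,3,3,0,1,2,1,3,1,0,2,3,2,0,3,2,2,3,0,2,3,1,2,3,0,2,3,2,3,0,2,3,3,0,1,2,1,3,1,0,2,3,2,0,3,2,0]),
  (215, [1,2,3,0,2,3,1,2,3,0,2,3,2,3,0,2,3,3,0,1,2,1,3,1,0,2,1]),
  (216, [2,3,0,2,3,1,2,3,0,2,3,2,3,0,2,3,3,0,1,2,1,3,1,0,2,1,0]),
  (217, [2,3,0,2,3,1,2,3,0,2,3,2,3,0,2,3,3,0,1,2,1,3,1,0,2,2,3,0,2,3,1,2,3,0,2,3,2,3,0,2,3,3,0,1,2,1,3,1,0,2,3,2,0,3,2]),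
  (218, [2,3,0,2,3,1,2,3,0,2,3,2,3,0,2,3,3,0,1,2,1,3,1,0,2,1,3,2,0,3,2]),
  (219, [3,2,0,3,2,1,2,3,0,2,3,1,2,3,0,2,3,2,3,0,2,3,3,0,1,2,1,3,1,0,2,1]),
  (220, [2,3,0,2,3,1,2,3,0,2,3,2,3,0,2,3,3,0,1,2,1,3,1,0,2,3,2,0,3,2,1]),
  (221, [3,2,0,3,2,1,3,2,0,3,2,1]),
  (222, [2,3,0,2,3,1,2,3,0,2,3,2,3,0,2,3,3,0,1,2,1,3,1,0,2,1,0,1,2,3,0,2,3,2,3,0,2,3,2,3,0,2,3,1,3,1,2,3,2,1,0,3,1,2,3,2,3,2,0,3,2]),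
  (223, [3,2,0,3,2,3,2,0,3,2,3,2,0,3,2,1,0]),
  (224, [0,1,2,3,0,2,3,2,3,0,2,3,2,3,0,2,3,1,3,1,2,3,2,1,0,3,1,2,3,2,3,2,0,3,2,3,2,0,3,2,3,2,0,3,2]),
  (225, [2,3,0,2,3,1,2,3,0,2,3,2,3,0,2,3,3,0,1,2,1,3,1,0,2,2,3,0,2,3,1,2,3,0,2,3,2,3,0,2,3,3,0,1,2,1,3,1,0,2,1,0]),
  (226, [3,2,0,3,2,0,1,2,3,0,2,3,2,3,0,2,3,2,3,0,2,3,1,3,1,2,3,2,1,0,3,1,2,3,2,3,2,0,3,2,0]),
  (227, [1,0,1,2,3,0,2,3,2,3,0,2,3,2,3,0,2,3,1,3,1,2,3,2,1,0,3,1,2,3,2,2,3,0,2,3,1,2,3,0,2,3,2,3,0,2,3,3,0,1,2,1,3,1,0,2,1]),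
  (228, [0,1,2,3,0,2,3,2,3,0,2,3,2,3,0,2,3,1,3,1,2,3,2,1,0,3,1,2,3,2,2,3,0,2,3,1,2,3,0,2,3,2,3,0,2,3,3,0,1,2,1,3,1,0,2,1,0]),
  (229, [0,1,2,3,0,2,3,2,3,0,2,3,2,3,0,2,3,1,3,1,2,3,2,1,0,3,1,2,3,2,3,2,0,3,2,1,3,2,0,3,2]),
  (230, [0,1,2,3,0,2,3,2,3,0,2,3,2,3,0,2,3,1,3,1,2,3,2,1,0,3,1,2,3,2,3,2,0,3,2,1,3,2,0,3,2,1]),
  (231, [1,3,2,0,3,2,3,2,0,3,2]),
  (232, [3,2,0,3,2,3,2,0,3,2,0]),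
  (233, [2,3,0,2,3,1,2,3,0,2,3,2,3,0,2,3,3,0,1,2,1,3,1,0,2,3,2,0,3,2,1,3,2,0,3,2,1]),
  (234, [3,2,0,3,2,1,3,2,0,3,2,3,2,0,3,2,0]),
  (235, [1]),
  (236, [3,2,0,3,2,1,3,2,0,3,2]),
  (237, [3,2,0,3,2,0,1,2,3,0,2,3,2,3,0,2,3,2,3,0,2,3,1,3,1,2,3,2,1,0,3,1,2,3,2,0,1,2,3,0,2,3,2,3,0,2,3,2,3,0,2,3,1,3,1,2,3,2,1,0,3,1,2,3,2,1,3,2,0,3,2]),
  (238, [2,3,0,2,3,1,2,3,0,2,3,2,3,0,2,3,3,0,1,2,1,3,1,0,2,2,3,0,2,3,1,2,3,0,2,3,2,3,0,2,3,3,0,1,2,1,3,1,0,2,3,2,0,3,2,1]),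
  (239, [2,3,0,2,3,1,2,3,0,2,3,2,3,0,2,3,3,0,1,2,1,3,1,0,2,1,3,2,0,3,2,1]),
  (240, [2,3,0,2,3,1,2,3,0,2,3,2,3,0,2,3,3,0,1,2,1,3,1,0,2,2,3,0,2,3,1,2,3,0,2,3,2,3,0,2,3,3,0,1,2,1,3,1,0,2,1,0,1,2,3,0,2,3,2,3,0,2,3,2,3,0,2,3,1,3,1,2,3,2,1,0,3,1,2,3,2,3,2,0,3,2]),
  (241, [3,2,0,3,2,2,3,0,2,3,1,2,3,0,2,3,2,3,0,2,3,3,0,1,2,1,3,1,0,2,3,2,0,3,2,0]),
  (242, [0])]

/-- Connectivity of orbital 2. -/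
def orbital2 : List (ℕ × ℕ × ℕ × List ℕ) := [(83, 0, 83, []),
  (84, 0, 84, []),
  (85, 0, 85, []),
  (86, 0, 86, []),
  (87, 0, 87, []),
  (88, 0, 88, []),
  (89, 0, 89, []),
  (90, 0, 90, []),
  (91, 0, 91, []),
  (92, 0, 92, []),
  (93, 0, 93, []),
  (94, 0, 94, []),
  (95, 0, 95, []),
  (96, 0, 96, []),
  (97, 0, 97, []),
  (98, 0, 98, []),
  (99, 0, 99, []),
  (100, 0, 100, []),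
  (101, 0, 101, []),
  (102, 0, 102, []),
  (103, 0, 103, []),
  (104, 0, 104, []),
  (105, 0, 105, []),
  (106, 0, 106, []),
  (107, 0, 107, []),
  (108, 0, 108, []),
  (109, 0, 109, []),
  (110, 0, 110, []),
  (111, 0, 111, []),
  (112, 0, 112, []),
  (113, 0, 113, []),
  (114, 0, 114, []),
  (115, 0, 115, []),
  (116, 0, 116, []),
  (117, 0, 117, []),
  (118, 0, 118, []),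
  (119, 0, 119, []),
  (120, 0, 120, []),
  (121, 0, 121, []),
  (122, 0, 122, []),
  (123, 0, 123, []),
  (124, 0, 124, []),
  (125, 0, 125, []),
  (126, 0, 126, []),
  (127, 0, 127, []),
  (128, 0, 128, []),
  (129, 0, 129, []),
  (130, 0, 130, []),
  (131, 0, 131, []),
  (132, 0, 132, []),
  (133, 0, 133, []),
  (134, 0, 134, []),
  (135, 0, 135, []),
  (136, 0, 136, []),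
  (137, 0, 137, []),
  (138, 0, 138, []),
  (139, 0, 139, []),
  (140, 0, 140, []),
  (141, 0, 141, []),
  (142, 0, 142, []),
  (143, 0, 143, []),
  (144, 0, 144, []),
  (145, 0, 145, []),
  (146, 0, 146, []),
  (147, 0, 147, []),
  (148, 0, 148, []),
  (149, 0, 149, []),
  (150, 0, 150, []),
  (151, 0, 151, []),
  (152, 0, 152, []),
  (153, 0, 153, []),
  (154, 0, 154, []),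
  (155, 0, 155, []),
  (156, 0, 156, []),
  (157, 0, 157, []),
  (158, 0, 158, []),
  (159, 0, 159, []),
  (160, 0, 160, []),
  (161, 0, 161, []),
  (162, 0, 162, []),
  (163, 0, 163, []),
  (164, 0, 164, []),
  (165, 0, 165, []),
  (166, 0, 166, []),
  (167, 0, 167, []),
  (168, 0, 168, []),
  (169, 0, 169, []),
  (170, 0, 170, []),
  (171, 0, 171, []),
  (172, 0, 172, []),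
  (173, 0, 173, []),
  (174, 0, 174, []),
  (175, 0, 175, []),
  (176, 0, 176, []),
  (177, 0, 177, []),
  (178, 0, 178, []),
  (179, 0, 179, []),
  (180, 0, 180, []),
  (181, 0, 181, []),
  (182, 0, 182, []),
  (183, 0, 183, []),
  (184, 0, 184, []),
  (185, 0, 185, []),
  (186, 0, 186, []),
  (187, 0, 187, []),
  (188, 0, 188, []),
  (189, 0, 189, []),
  (190, 0, 190, []),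
  (191, 0, 191, []),
  (192, 0, 192, []),
  (193, 0, 193, []),
  (194, 0, 194, []),
  (195, 0, 195, []),
  (196, 0, 196, []),
  (197, 0, 197, []),
  (198, 0, 198, []),
  (199, 0, 199, []),
  (200, 0, 200, []),
  (201, 0, 201, []),
  (202, 0, 202, []),
  (203, 0, 203, []),
  (204, 0, 204, []),
  (205, 0, 205, []),
  (206, 0, 206, []),
  (207, 0, 207, []),
  (208, 0, 208, []),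
  (209, 0, 209, []),
  (210, 0, 210, []),
  (211, 0, 211, []),
  (212, 0, 212, []),
  (213, 0, 213, []),
  (214, 0, 214, []),
  (215, 0, 215, []),
  (216, 0, 216, []),
  (217, 0, 217, []),
  (218, 0, 218, []),
  (219, 0, 219, []),
  (220, 0, 220, []),
  (221, 0, 221, []),
  (222, 0, 222, []),
  (223, 0, 223, []),
  (224, 0, 224, []),
  (225, 0, 225, []),
  (226, 0, 226, []),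
  (227, 0, 227, []),
  (228, 0, 228, []),
  (229, 0, 229, []),
  (230, 0, 230, []),
  (231, 0, 231, []),
  (232, 0, 232, []),
  (233, 0, 233, []),
  (234, 0, 234, []),
  (235, 0, 235, []),
  (236, 0, 236, []),
  (237, 0, 237, []),
  (238, 0, 238, []),
  (239, 0, 239, []),
  (240, 0, 240, []),
  (241, 0, 241, []),
  (242, 0, 242, []),
  (314, 83, 97, [0,2]),
  (14, 83, 98, [0,2]),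
  (9, 83, 99, [0,2]),
  (309, 83, 100, [0,2]),
  (308, 83, 109, [0,2]),
  (8, 83, 110, [0,2]),
  (301, 83, 116, [0,2]),
  (295, 83, 118, [0,2]),
  (291, 83, 119, [0,2]),
  (282, 83, 122, [0,2]),
  (252, 83, 124, [0,2]),
  (259, 83, 126, [0,2]),
  (269, 83, 127, [0,2]),
  (267, 83, 130, [0,2]),
  (290, 83, 132, [0,2]),
  (286, 83, 134, [0,2]),
  (299, 83, 135, [0,2]),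
  (279, 83, 138, [0,2]),
  (33, 83, 139, [0,2]),
  (74, 83, 141, [0,2]),
  (303, 83, 142, [0,2]),
  (254, 83, 143, [0,2]),
  (47, 83, 145, [0,2]),
  (283, 83, 147, [0,2]),
  (65, 83, 149, [0,2]),
  (41, 83, 150, [0,2]),
  (30, 83, 153, [0,2]),
  (274, 83, 154, [0,2]),
  (271, 83, 155, [0,2]),
  (77, 83, 158, [0,2]),
  (58, 83, 160, [0,2]),
  (50, 83, 161, [0,2]),
  (294, 83, 162, [0,2]),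
  (293, 83, 164, [0,2]),
  (57, 83, 167, [0,2]),
  (78, 83, 168, [0,2]),
  (272, 83, 169, [0,2]),
  (49, 83, 170, [0,2]),
  (66, 83, 172, [0,2]),
  (29, 83, 173, [0,2]),
  (284, 83, 174, [0,2]),
  (273, 83, 175, [0,2]),
  (42, 83, 178, [0,2]),
  (73, 83, 179, [0,2]),
  (253, 83, 180, [0,2]),
  (48, 83, 183, [0,2]),
  (34, 83, 184, [0,2]),
  (304, 83, 185, [0,2]),
  (249, 83, 187, [0,2]),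
  (258, 83, 189, [0,2]),
  (265, 83, 192, [0,2]),
  (248, 83, 194, [0,2]),
  (39, 83, 195, [0,2]),
  (31, 83, 197, [0,2]),
  (55, 83, 200, [0,2]),
  (79, 83, 202, [0,2]),
  (62, 83, 204, [0,2]),
  (22, 83, 205, [0,2]),
  (70, 83, 208, [0,2]),
  (45, 83, 209, [0,2]),
  (24, 83, 211, [0,2]),
  (76, 83, 214, [0,2]),
  (67, 83, 215, [0,2]),
  (245, 83, 217, [0,2]),
  (287, 83, 218, [0,2]),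
  (59, 83, 220, [0,2]),
  (52, 83, 222, [0,2]),
  (263, 83, 223, [0,2]),
  (277, 83, 224, [0,2]),
  (54, 83, 226, [0,2]),
  (28, 83, 227, [0,2]),
  (71, 83, 229, [0,2]),
  (243, 83, 231, [0,2]),
  (297, 83, 232, [0,2]),
  (20, 83, 234, [0,2]),
  (1, 83, 235, [0,2]),
  (5, 83, 236, [0,2]),
  (4, 83, 237, [0,2]),
  (15, 83, 238, [0,2]),
  (6, 83, 239, [0,2]),
  (17, 83, 240, [0,2]),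
  (16, 83, 241, [0,2]),
  (64, 84, 86, [3,2,1,3,2]),
  (56, 84, 92, [3,2,1,3,2]),
  (262, 84, 93, [3,2,1,3,2]),
  (300, 84, 96, [3,2,1,3,2]),
  (292, 84, 112, [3,2,1,3,2]),
  (289, 84, 117, [3,2,1,3,2]),
  (26, 84, 120, [3,2,1,3,2]),
  (27, 84, 124, [3,2,1,3,2]),
  (255, 84, 130, [3,2,1,3,2]),
  (11, 84, 131, [3,2,1,3,2]),
  (251, 84, 135, [3,2,1,3,2]),
  (270, 84, 139, [3,2,1,3,2]),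
  (60, 84, 141, [3,2,1,3,2]),
  (82, 84, 143, [3,2,1,3,2]),
  (12, 84, 145, [3,2,1,3,2]),
  (302, 84, 146, [3,2,1,3,2]),
  (311, 84, 147, [3,2,1,3,2]),
  (35, 84, 148, [3,2,1,3,2]),
  (37, 84, 149, [3,2,1,3,2]),
  (40, 84, 151, [3,2,1,3,2]),
  (81, 84, 158, [3,2,1,3,2]),
  (23, 84, 165, [3,2,1,3,2]),
  (261, 84, 167, [3,2,1,3,2]),
  (69, 84, 169, [3,2,1,3,2]),
  (306, 84, 182, [3,2,1,3,2]),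
  (264, 84, 183, [3,2,1,3,2]),
  (44, 84, 194, [3,2,1,3,2]),
  (63, 84, 196, [3,2,1,3,2]),
  (276, 84, 206, [3,2,1,3,2]),
  (250, 84, 211, [3,2,1,3,2]),
  (305, 84, 216, [3,2,1,3,2]),
  (312, 84, 218, [3,2,1,3,2]),
  (278, 84, 231, [3,2,1,3,2]),
  (25, 84, 239, [3,2,1,3,2]),
  (61, 84, 240, [3,2,1,3,2]),
  (266, 84, 242, [3,2,1,3,2]),
  (46, 85, 87, [3,2,0,3,1,3,2,1,3]),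
  (310, 85, 100, [3,2,0,3,1,3,2,1,3]),
  (247, 85, 104, [3,2,0,3,1,3,2,1,3]),
  (275, 85, 113, [3,2,0,3,1,3,2,1,3]),
  (298, 85, 119, [3,2,0,3,1,3,2,1,3]),
  (281, 85, 147, [3,2,0,3,1,3,2,1,3]),
  (36, 85, 151, [3,2,0,3,1,3,2,1,3]),
  (10, 85, 153, [3,2,0,3,1,3,2,1,3]),
  (80, 85, 165, [3,2,0,3,1,3,2,1,3]),
  (313, 85, 166, [3,2,0,3,1,3,2,1,3]),
  (72, 85, 169, [3,2,0,3,1,3,2,1,3]),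
  (256, 85, 176, [3,2,0,3,1,3,2,1,3]),
  (19, 85, 184, [3,2,0,3,1,3,2,1,3]),
  (13, 85, 187, [3,2,0,3,1,3,2,1,3]),
  (268, 85, 194, [3,2,0,3,1,3,2,1,3]),
  (244, 85, 198, [3,2,0,3,1,3,2,1,3]),
  (280, 85, 203, [3,2,0,3,1,3,2,1,3]),
  (296, 86, 98, [3,1,2,3,2,0,3,1,2]),
  (51, 86, 130, [3,1,2,3,2,0,3,1,2]),
  (32, 86, 137, [3,1,2,3,2,0,3,1,2]),
  (257, 86, 154, [3,1,2,3,2,0,3,1,2]),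
  (68, 86, 211, [3,1,2,3,2,0,3,1,2]),
  (38, 86, 214, [3,1,2,3,2,0,3,1,2]),
  (53, 87, 87, [2,3,1,2,3,2,0,3,1,2]),
  (75, 87, 124, [2,3,1,2,3,2,0,3,1,2]),
  (43, 87, 156, [2,3,1,2,3,2,0,3,1,2]),
  (260, 87, 159, [2,3,1,2,3,2,0,3,1,2]),
  (21, 87, 184, [2,3,1,2,3,2,0,3,1,2]),
  (285, 87, 192, [2,3,1,2,3,2,0,3,1,2]),
  (246, 88, 129, [2,3,2,0,3,1,3,2,1,3]),
  (7, 88, 134, [2,3,2,0,3,1,3,2,1,3]),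
  (307, 88, 143, [2,3,2,0,3,1,3,2,1,3]),
  (288, 88, 208, [2,3,2,0,3,1,3,2,1,3]),
  (2, 91, 179, [3,2,3,1,3,2]),
  (18, 91, 214, [3,2,3,1,3,2]),
  (3, 139, 119, [3,1,0,2,1,3,0,2])]

/-- Suborbit 3. -/
def suborb3 : List (ℕ × List ℕ) := [(243, []),
  (244, [1,0]),
  (245, [2,3,0,2,3,1,2,3,0,2,3,2,3,0,2,3,3,0,1,2,1,3,1,0,2,0]),
  (246, [1,2,3,0,2,3,1,2,3,0,2,3,2,3,0,2,3,3,0,1,2,1,3,1,0,2]),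
  (247, [0,1,2,3,0,2,3,2,3,0,2,3,2,3,0,2,3,1,3,1,2,3,2,1,0,3,1,2,3,2,3,2,0,3,2,0]),
  (248, [0,1,2,3,0,2,3,2,3,0,2,3,2,3,0,2,3,1,3,1,2,3,2,1,0,3,1,2,3,2]),
  (249, [1,2,3,0,2,3,1,2,3,0,2,3,2,3,0,2,3,3,0,1,2,1,3,1,0,2,1]),
  (250, [2,3,0,2,3,1,2,3,0,2,3,2,3,0,2,3,3,0,1,2,1,3,1,0,2,1,0]),
  (251, [3,2,0,3,2]),
  (252, [0,1,2,3,0,2,3,2,3,0,2,3,2,3,0,2,3,1,3,1,2,3,2,1,0,3,1,2,3,2,0,1,2,3,0,2,3,2,3,0,2,3,2,3,0,2,3,1,3,1,2,3,2,1,0,3,1,2,3,2]),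
  (253, [3,2,0,3,2,2,3,0,2,3,1,2,3,0,2,3,2,3,0,2,3,3,0,1,2,1,3,1,0,2]),
  (254, [2,3,0,2,3,1,2,3,0,2,3,2,3,0,2,3,3,0,1,2,1,3,1,0,2,0,1,2,3,0,2,3,2,3,0,2,3,2,3,0,2,3,1,3,1,2,3,2,1,0,3,1,2,3,2,0,1,2,3,0,2,3,2,3,0,2,3,2,3,0,2,3,1,3,1,2,3,2,1,0,3,1,2,3,2]),
  (255, [3,2,0,3,2,3,2,0,3,2]),
  (256, [2,3,0,2,3,1,2,3,0,2,3,2,3,0,2,3,3,0,1,2,1,3,1,0,2,2,3,0,2,3,1,2,3,0,2,3,2,3,0,2,3,3,0,1,2,1,3,1,0,2,3,2,0,3,2]),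
  (257, [2,3,0,2,3,1,2,3,0,2,3,2,3,0,2,3,3,0,1,2,1,3,1,0,2,3,2,0,3,2,0]),
  (258, [0,1,2,3,0,2,3,2,3,0,2,3,2,3,0,2,3,1,3,1,2,3,2,1,0,3,1,2,3,2,2,3,0,2,3,1,2,3,0,2,3,2,3,0,2,3,3,0,1,2,1,3,1,0,2]),
  (259, [0,1,2,3,0,2,3,2,3,0,2,3,2,3,0,2,3,1,3,1,2,3,2,1,0,3,1,2,3,2,2,3,0,2,3,1,2,3,0,2,3,2,3,0,2,3,3,0,1,2,1,3,1,0,2,0]),
  (260, [2,3,0,2,3,1,2,3,0,2,3,2,3,0,2,3,3,0,1,2,1,3,1,0,2,3,2,0,3,2]),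
  (261, [1,3,2,0,3,2,3,2,0,3,2]),
  (262, [3,2,0,3,2,3,2,0,3,2,0]),
  (263, [2,3,0,2,3,1,2,3,0,2,3,2,3,0,2,3,3,0,1,2,1,3,1,0,2,1,3,2,0,3,2]),
  (264, [3,2,0,3,2,2,3,0,2,3,1,2,3,0,2,3,2,3,0,2,3,3,0,1,2,1,3,1,0,2,0]),
  (265, [1,3,2,0,3,2]),
  (266, [3,2,0,3,2,0]),
  (267, [2,3,0,2,3,1,2,3,0,2,3,2,3,0,2,3,3,0,1,2,1,3,1,0,2,1]),
  (268, [3,2,0,3,2,0,1,2,3,0,2,3,2,3,0,2,3,2,3,0,2,3,1,3,1,2,3,2,1,0,3,1,2,3,2,0,1,2,3,0,2,3,2,3,0,2,3,2,3,0,2,3,1,3,1,2,3,2,1,0,3,1,2,3,2]),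
  (269, [0,1,2,3,0,2,3,2,3,0,2,3,2,3,0,2,3,1,3,1,2,3,2,1,0,3,1,2,3,2,0]),
  (270, [0,1,2,3,0,2,3,2,3,0,2,3,2,3,0,2,3,1,3,1,2,3,2,1,0,3,1,2,3,2,3,2,0,3,2]),
  (271, [3,2,0,3,2,1]),
  (272, [2,3,0,2,3,1,2,3,0,2,3,2,3,0,2,3,3,0,1,2,1,3,1,0,2]),
  (273, [1]),
  (274, [0])]

/-- Connectivity of orbital 3. -/
def orbital3 : List (ℕ × ℕ × ℕ × List ℕ) := [(243, 0, 243, []),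
  (244, 0, 244, []),
  (245, 0, 245, []),
  (246, 0, 246, []),
  (247, 0, 247, []),
  (248, 0, 248, []),
  (249, 0, 249, []),
  (250, 0, 250, []),
  (251, 0, 251, []),
  (252, 0, 252, []),
  (253, 0, 253, []),
  (254, 0, 254, []),
  (255, 0, 255, []),
  (256, 0, 256, []),
  (257, 0, 257, []),
  (258, 0, 258, []),
  (259, 0, 259, []),
  (260, 0, 260, []),
  (261, 0, 261, []),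
  (262, 0, 262, []),
  (263, 0, 263, []),
  (264, 0, 264, []),
  (265, 0, 265, []),
  (266, 0, 266, []),
  (267, 0, 267, []),
  (268, 0, 268, []),
  (269, 0, 269, []),
  (270, 0, 270, []),
  (271, 0, 271, []),
  (272, 0, 272, []),
  (273, 0, 273, []),
  (274, 0, 274, []),
  (11, 243, 244, [3,1,2,3]),
  (13, 243, 245, [3,1,2,3]),
  (66, 243, 247, [3,1,2,3]),
  (78, 243, 248, [3,1,2,3]),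
  (81, 243, 249, [3,1,2,3]),
  (29, 243, 250, [3,1,2,3]),
  (282, 243, 251, [3,1,2,3]),
  (119, 243, 252, [3,1,2,3]),
  (12, 243, 253, [3,1,2,3]),
  (14, 243, 256, [3,1,2,3]),
  (54, 243, 257, [3,1,2,3]),
  (22, 243, 258, [3,1,2,3]),
  (73, 243, 259, [3,1,2,3]),
  (42, 243, 260, [3,1,2,3]),
  (60, 243, 261, [3,1,2,3]),
  (151, 243, 262, [3,1,2,3]),
  (184, 243, 263, [3,1,2,3]),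
  (37, 243, 264, [3,1,2,3]),
  (35, 243, 267, [3,1,2,3]),
  (61, 243, 268, [3,1,2,3]),
  (45, 243, 269, [3,1,2,3]),
  (20, 243, 270, [3,1,2,3]),
  (89, 243, 271, [3,1,2,3]),
  (70, 243, 272, [3,1,2,3]),
  (27, 243, 273, [3,1,2,3]),
  (160, 243, 274, [3,1,2,3]),
  (281, 244, 243, [3,1,0,2]),
  (38, 244, 245, [3,1,0,2]),
  (19, 244, 246, [3,1,0,2]),
  (46, 244, 248, [3,1,0,2]),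
  (69, 244, 249, [3,1,0,2]),
  (120, 244, 250, [3,1,0,2]),
  (62, 244, 252, [3,1,0,2]),
  (30, 244, 253, [3,1,0,2]),
  (7, 244, 254, [3,1,0,2]),
  (41, 244, 255, [3,1,0,2]),
  (10, 244, 256, [3,1,0,2]),
  (74, 244, 257, [3,1,0,2]),
  (157, 244, 258, [3,1,0,2]),
  (21, 244, 260, [3,1,0,2]),
  (28, 244, 261, [3,1,0,2]),
  (53, 244, 262, [3,1,0,2]),
  (59, 244, 263, [3,1,0,2]),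
  (36, 244, 264, [3,1,0,2]),
  (82, 244, 265, [3,1,0,2]),
  (150, 244, 266, [3,1,0,2]),
  (8, 244, 268, [3,1,0,2]),
  (77, 244, 269, [3,1,0,2]),
  (181, 244, 270, [3,1,0,2]),
  (65, 244, 271, [3,1,0,2]),
  (9, 244, 272, [3,1,0,2]),
  (84, 244, 273, [3,1,0,2]),
  (86, 245, 243, [3,0,2,3,2,1,3,0,2]),
  (26, 245, 244, [3,0,2,3,2,1,3,0,2]),
  (172, 245, 245, [3,0,2,3,2,1,3,0,2]),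
  (50, 245, 246, [3,0,2,3,2,1,3,0,2]),
  (33, 245, 247, [3,0,2,3,2,1,3,0,2]),
  (163, 245, 249, [3,0,2,3,2,1,3,0,2]),
  (295, 245, 250, [3,0,2,3,2,1,3,0,2]),
  (75, 245, 253, [3,0,2,3,2,1,3,0,2]),
  (43, 245, 257, [3,0,2,3,2,1,3,0,2]),
  (179, 245, 261, [3,0,2,3,2,1,3,0,2]),
  (52, 245, 262, [3,0,2,3,2,1,3,0,2]),
  (122, 245, 263, [3,0,2,3,2,1,3,0,2]),
  (58, 245, 265, [3,0,2,3,2,1,3,0,2]),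
  (67, 245, 271, [3,0,2,3,2,1,3,0,2]),
  (121, 246, 243, [3,2,0,3,1,2,0,3]),
  (68, 246, 246, [3,2,0,3,1,2,0,3]),
  (177, 246, 248, [3,2,0,3,1,2,0,3]),
  (76, 246, 250, [3,2,0,3,1,2,0,3]),
  (87, 246, 252, [3,2,0,3,1,2,0,3]),
  (25, 246, 253, [3,2,0,3,1,2,0,3]),
  (51, 246, 255, [3,2,0,3,1,2,0,3]),
  (34, 246, 256, [3,2,0,3,1,2,0,3]),
  (186, 246, 260, [3,2,0,3,1,2,0,3]),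
  (57, 246, 263, [3,2,0,3,1,2,0,3]),
  (170, 246, 268, [3,2,0,3,1,2,0,3]),
  (44, 246, 270, [3,2,0,3,1,2,0,3]),
  (49, 246, 271, [3,2,0,3,1,2,0,3]),
  (296, 246, 273, [3,2,0,3,1,2,0,3]),
  (102, 247, 244, [1,3,2,3,2]),
  (17, 247, 249, [1,3,2,3,2]),
  (23, 247, 250, [1,3,2,3,2]),
  (95, 247, 254, [1,3,2,3,2]),
  (79, 247, 258, [1,3,2,3,2]),
  (3, 247, 259, [1,3,2,3,2]),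
  (133, 247, 261, [1,3,2,3,2]),
  (71, 247, 262, [1,3,2,3,2]),
  (47, 247, 264, [1,3,2,3,2]),
  (16, 247, 266, [1,3,2,3,2]),
  (298, 247, 269, [1,3,2,3,2]),
  (97, 247, 270, [1,3,2,3,2]),
  (199, 247, 271, [1,3,2,3,2]),
  (6, 247, 272, [1,3,2,3,2]),
  (134, 248, 246, [2,3,2,3]),
  (101, 248, 247, [2,3,2,3]),
  (297, 248, 248, [2,3,2,3]),
  (24, 248, 249, [2,3,2,3]),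
  (80, 248, 251, [2,3,2,3]),
  (48, 248, 252, [2,3,2,3]),
  (98, 248, 256, [2,3,2,3]),
  (72, 248, 258, [2,3,2,3]),
  (200, 248, 263, [2,3,2,3]),
  (96, 248, 273, [2,3,2,3]),
  (112, 249, 243, [1,2,3,1,3,1,2]),
  (113, 249, 245, [1,2,3,1,3,1,2]),
  (196, 249, 249, [1,2,3,1,3,1,2]),
  (275, 249, 250, [1,2,3,1,3,1,2]),
  (4, 249, 253, [1,2,3,1,3,1,2]),
  (138, 249, 261, [1,2,3,1,3,1,2]),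
  (40, 249, 262, [1,2,3,1,3,1,2]),
  (106, 249, 263, [1,2,3,1,3,1,2]),
  (15, 249, 271, [1,2,3,1,3,1,2]),
  (111, 250, 243, [0,2,3,1,3,1,2]),
  (114, 250, 245, [0,2,3,1,3,1,2]),
  (195, 250, 249, [0,2,3,1,3,1,2]),
  (276, 250, 250, [0,2,3,1,3,1,2]),
  (137, 250, 261, [0,2,3,1,3,1,2]),
  (39, 250, 262, [0,2,3,1,3,1,2]),
  (105, 250, 263, [0,2,3,1,3,1,2]),
  (127, 251, 244, [0,3,2,1,3]),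
  (216, 251, 247, [0,3,2,1,3]),
  (217, 251, 251, [0,3,2,1,3]),
  (31, 251, 254, [0,3,2,1,3]),
  (189, 251, 259, [0,3,2,1,3]),
  (18, 251, 260, [0,3,2,1,3]),
  (221, 251, 267, [0,3,2,1,3]),
  (64, 251, 271, [0,3,2,1,3]),
  (303, 251, 274, [0,3,2,1,3]),
  (128, 252, 244, [1,3,2,1,3]),
  (215, 252, 247, [1,3,2,1,3]),
  (218, 252, 251, [1,3,2,1,3]),
  (32, 252, 254, [1,3,2,1,3]),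
  (190, 252, 259, [1,3,2,1,3]),
  (222, 252, 267, [1,3,2,1,3]),
  (63, 252, 271, [1,3,2,1,3]),
  (304, 252, 274, [1,3,2,1,3]),
  (166, 253, 243, [1,3,2,3,0,2,3,1,2]),
  (237, 253, 248, [1,3,2,3,0,2,3,1,2]),
  (180, 253, 252, [1,3,2,3,0,2,3,1,2]),
  (56, 253, 254, [1,3,2,3,0,2,3,1,2]),
  (208, 253, 260, [1,3,2,3,0,2,3,1,2]),
  (149, 253, 268, [1,3,2,3,0,2,3,1,2]),
  (289, 253, 273, [1,3,2,3,0,2,3,1,2]),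
  (167, 254, 243, [0,3,2,3,0,2,3,1,2]),
  (240, 254, 248, [0,3,2,3,0,2,3,1,2]),
  (185, 254, 252, [0,3,2,3,0,2,3,1,2]),
  (55, 254, 254, [0,3,2,3,0,2,3,1,2]),
  (207, 254, 260, [0,3,2,3,0,2,3,1,2]),
  (152, 254, 268, [0,3,2,3,0,2,3,1,2]),
  (290, 254, 273, [0,3,2,3,0,2,3,1,2]),
  (147, 255, 243, [1,0,2,3,2,1,0,2]),
  (116, 255, 248, [1,0,2,3,2,1,0,2]),
  (142, 255, 252, [1,0,2,3,2,1,0,2]),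
  (83, 255, 260, [1,0,2,3,2,1,0,2]),
  (164, 255, 268, [1,0,2,3,2,1,0,2]),
  (302, 255, 273, [1,0,2,3,2,1,0,2]),
  (154, 256, 243, [2,3,2,1,0,2]),
  (115, 256, 248, [2,3,2,1,0,2]),
  (143, 256, 252, [2,3,2,1,0,2]),
  (90, 256, 260, [2,3,2,1,0,2]),
  (169, 256, 268, [2,3,2,1,0,2]),
  (301, 256, 273, [2,3,2,1,0,2]),
  (201, 257, 247, [2,0,3,1,2,1,3]),
  (288, 257, 255, [2,0,3,1,2,1,3]),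
  (92, 257, 257, [2,0,3,1,2,1,3]),
  (94, 257, 261, [2,0,3,1,2,1,3]),
  (131, 257, 266, [2,0,3,1,2,1,3]),
  (100, 257, 268, [2,0,3,1,2,1,3]),
  (5, 257, 269, [2,0,3,1,2,1,3]),
  (99, 258, 250, [2,1,0,2,0,3,1,2]),
  (132, 258, 252, [2,1,0,2,0,3,1,2]),
  (93, 258, 255, [2,1,0,2,0,3,1,2]),
  (91, 258, 259, [2,1,0,2,0,3,1,2]),
  (287, 258, 261, [2,1,0,2,0,3,1,2]),
  (202, 258, 269, [2,1,0,2,0,3,1,2]),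
  (294, 259, 251, [2,3,1,0,2,1,3]),
  (234, 259, 252, [2,3,1,0,2,1,3]),
  (232, 259, 262, [2,3,1,0,2,1,3]),
  (123, 259, 263, [2,3,1,0,2,1,3]),
  (193, 259, 271, [2,3,1,0,2,1,3]),
  (226, 259, 274, [2,3,1,0,2,1,3]),
  (225, 260, 250, [2,1,0,2,3,1,2]),
  (194, 260, 252, [2,1,0,2,3,1,2]),
  (231, 260, 255, [2,1,0,2,3,1,2]),
  (233, 260, 259, [2,1,0,2,3,1,2]),
  (293, 260, 261, [2,1,0,2,3,1,2]),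
  (124, 260, 269, [2,1,0,2,3,1,2]),
  (171, 261, 243, [0,2,3,2,1,0,2]),
  (210, 261, 248, [0,2,3,2,1,0,2]),
  (182, 261, 252, [0,2,3,2,1,0,2]),
  (235, 261, 260, [0,2,3,2,1,0,2]),
  (156, 261, 268, [0,2,3,2,1,0,2]),
  (280, 261, 273, [0,2,3,2,1,0,2]),
  (178, 262, 243, [1,2,3,2,1,0,2]),
  (209, 262, 248, [1,2,3,2,1,0,2]),
  (183, 262, 252, [1,2,3,2,1,0,2]),
  (242, 262, 260, [1,2,3,2,1,0,2]),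
  (161, 262, 268, [1,2,3,2,1,0,2]),
  (279, 262, 273, [1,2,3,2,1,0,2]),
  (158, 263, 243, [3,2,3,0,2,3,1,2]),
  (85, 263, 248, [3,2,3,0,2,3,1,2]),
  (140, 263, 252, [3,2,3,0,2,3,1,2]),
  (118, 263, 260, [3,2,3,0,2,3,1,2]),
  (173, 263, 268, [3,2,3,0,2,3,1,2]),
  (291, 263, 273, [3,2,3,0,2,3,1,2]),
  (159, 264, 243, [1,0,3,2,3,0,2,3,1,2]),
  (88, 264, 248, [1,0,3,2,3,0,2,3,1,2]),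
  (145, 264, 252, [1,0,3,2,3,0,2,3,1,2]),
  (117, 264, 260, [1,0,3,2,3,0,2,3,1,2]),
  (176, 264, 268, [1,0,3,2,3,0,2,3,1,2]),
  (292, 264, 273, [1,0,3,2,3,0,2,3,1,2]),
  (197, 265, 244, [1,0,3,2,1,3]),
  (110, 265, 247, [1,0,3,2,1,3]),
  (107, 265, 251, [1,0,3,2,1,3]),
  (135, 265, 259, [1,0,3,2,1,3]),
  (103, 265, 267, [1,0,3,2,1,3]),
  (277, 265, 274, [1,0,3,2,1,3]),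
  (198, 266, 244, [3,2,1,3]),
  (109, 266, 247, [3,2,1,3]),
  (108, 266, 251, [3,2,1,3]),
  (136, 266, 259, [3,2,1,3]),
  (104, 266, 267, [3,2,1,3]),
  (278, 266, 274, [3,2,1,3]),
  (214, 267, 243, [2,3,1,3,1,2]),
  (211, 267, 245, [2,3,1,3,1,2]),
  (130, 267, 249, [2,3,1,3,1,2]),
  (305, 267, 250, [2,3,1,3,1,2]),
  (188, 267, 261, [2,3,1,3,1,2]),
  (220, 267, 263, [2,3,1,3,1,2]),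
  (213, 268, 243, [1,0,2,3,1,3,1,2]),
  (212, 268, 245, [1,0,2,3,1,3,1,2]),
  (129, 268, 249, [1,0,2,3,1,3,1,2]),
  (306, 268, 250, [1,0,2,3,1,3,1,2]),
  (187, 268, 261, [1,0,2,3,1,3,1,2]),
  (219, 268, 263, [1,0,2,3,1,3,1,2]),
  (224, 269, 244, [3,2,3,2]),
  (229, 269, 254, [3,2,3,2]),
  (191, 269, 261, [3,2,3,2]),
  (284, 269, 269, [3,2,3,2]),
  (227, 269, 270, [3,2,3,2]),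
  (125, 269, 271, [3,2,3,2]),
  (192, 270, 246, [1,2,3,2,3]),
  (223, 270, 247, [1,2,3,2,3]),
  (283, 270, 248, [1,2,3,2,3]),
  (228, 270, 256, [1,2,3,2,3]),
  (126, 270, 263, [1,2,3,2,3]),
  (230, 270, 273, [1,2,3,2,3]),
  (139, 271, 243, [3,2,3,2,0,3,1,0,2]),
  (238, 271, 248, [3,2,3,2,0,3,1,0,2]),
  (204, 271, 252, [3,2,3,2,0,3,1,0,2]),
  (155, 271, 260, [3,2,3,2,0,3,1,0,2]),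
  (148, 271, 268, [3,2,3,2,0,3,1,0,2]),
  (285, 271, 273, [3,2,3,2,0,3,1,0,2]),
  (286, 272, 244, [3,1,3,2,0,3,1,2]),
  (162, 272, 249, [3,1,3,2,0,3,1,2]),
  (146, 272, 257, [3,1,3,2,0,3,1,2]),
  (239, 272, 265, [3,1,3,2,0,3,1,2]),
  (153, 272, 269, [3,1,3,2,0,3,1,2]),
  (203, 272, 274, [3,1,3,2,0,3,1,2]),
  (300, 273, 243, [0,3,1,0,2]),
  (205, 273, 250, [0,3,1,0,2]),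
  (168, 273, 258, [0,3,1,0,2]),
  (175, 273, 266, [0,3,1,0,2]),
  (144, 273, 270, [0,3,1,0,2]),
  (241, 273, 273, [0,3,1,0,2]),
  (174, 274, 243, [2,1,0,3]),
  (206, 274, 248, [2,1,0,3]),
  (141, 274, 252, [2,1,0,3]),
  (236, 274, 260, [2,1,0,3]),
  (165, 274, 268, [2,1,0,3]),
  (299, 274, 273, [2,1,0,3]),
  (312, 282, 250, [0,2,1,3,1,2]),
  (311, 282, 258, [0,2,1,3,1,2]),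
  (314, 282, 266, [0,2,1,3,1,2]),
  (308, 282, 270, [0,2,1,3,1,2]),
  (2, 282, 273, [0,2,1,3,1,2]),
  (1, 119, 248, [1,0,2,1,3,0,2]),
  (309, 151, 251, [2,0,3]),
  (310, 184, 273, [3,1,3,0,2,3,1,2]),
  (313, 89, 254, [2,3,2,1,3,2]),
  (307, 160, 247, [3,2,3,2,1,3,0,2])]

/-- Suborbit 4. -/
def suborb4 : List (ℕ × List ℕ) := [(275, []),
  (276, [1,0]),
  (277, [3,2,0,3,2,1]),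
  (278, [1,3,2,0,3,2,1,0]),
  (279, [3,2,0,3,2,1,3,2,0,3,2,1,0]),
  (280, [3,2,0,3,2,2,3,0,2,3,1,2,3,0,2,3,2,3,0,2,3,3,0,1,2,1,3,1,0,2,3,2,0,3,2,1]),
  (281, [2,3,0,2,3,1,2,3,0,2,3,2,3,0,2,3,3,0,1,2,1,3,1,0,2,1,3,2,0,3,2]),
  (282, [2,3,0,2,3,1,2,3,0,2,3,2,3,0,2,3,3,0,1,2,1,3,1,0,2,2,3,0,2,3,1,2,3,0,2,3,2,3,0,2,3,3,0,1,2,1,3,1,0,2,3,2,0,3,2]),
  (283, [3,2,0,3,2,1,3,2,0,3,2]),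
  (284, [2,3,0,2,3,1,2,3,0,2,3,2,3,0,2,3,3,0,1,2,1,3,1,0,2,3,2,0,3,2]),
  (285, [2,3,0,2,3,1,2,3,0,2,3,2,3,0,2,3,3,0,1,2,1,3,1,0,2,1]),
  (286, [3,2,0,3,2]),
  (287, [0,1,2,3,0,2,3,2,3,0,2,3,2,3,0,2,3,1,3,1,2,3,2,1,0,3,1,2,3,2,3,2,0,3,2]),
  (288, [1,0,1,2,3,0,2,3,2,3,0,2,3,2,3,0,2,3,1,3,1,2,3,2,1,0,3,1,2,3,2,3,2,0,3,2,0]),
  (289, [3,2,0,3,2,3,2,0,3,2]),
  (290, [2,3,0,2,3,1,2,3,0,2,3,2,3,0,2,3,3,0,1,2,1,3,1,0,2,3,2,0,3,2,1,0]),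
  (291, [2,3,0,2,3,1,2,3,0,2,3,2,3,0,2,3,3,0,1,2,1,3,1,0,2,3,2,0,3,2,1]),
  (292, [3,2,0,3,2,3,2,0,3,2,0]),
  (293, [1,0,1,2,3,0,2,3,2,3,0,2,3,2,3,0,2,3,1,3,1,2,3,2,1,0,3,1,2,3,2,3,2,0,3,2]),
  (294, [0,1,2,3,0,2,3,2,3,0,2,3,2,3,0,2,3,1,3,1,2,3,2,1,0,3,1,2,3,2,3,2,0,3,2,0]),
  (295, [3,2,0,3,2,0]),
  (296, [1,3,2,0,3,2]),
  (297, [2,3,0,2,3,1,2,3,0,2,3,2,3,0,2,3,3,0,1,2,1,3,1,0,2,3,2,0,3,2,0]),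
  (298, [3,2,0,3,2,2,3,0,2,3,1,2,3,0,2,3,2,3,0,2,3,3,0,1,2,1,3,1,0,2,1]),
  (299, [0,1,2,3,0,2,3,2,3,0,2,3,2,3,0,2,3,1,3,1,2,3,2,1,0,3,1,2,3,2,3,2,0,3,2,1]),
  (300, [2,3,0,2,3,1,2,3,0,2,3,2,3,0,2,3,3,0,1,2,1,3,1,0,2,2,3,0,2,3,1,2,3,0,2,3,2,3,0,2,3,3,0,1,2,1,3,1,0,2,1]),
  (301, [0,1,2,3,0,2,3,2,3,0,2,3,2,3,0,2,3,1,3,1,2,3,2,1,0,3,1,2,3,2,3,2,0,3,2,1,3,2,0,3,2]),
  (302, [3,2,0,3,2,1,3,2,0,3,2,1]),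
  (303, [1,3,2,0,3,2,1]),
  (304, [3,2,0,3,2,1,0]),
  (305, [1]),
  (306, [0])]

/-- Connectivity of orbital 4. -/
def orbital4 : List (ℕ × ℕ × ℕ × List ℕ) := [(275, 0, 275, []),
  (276, 0, 276, []),
  (277, 0, 277, []),
  (278, 0, 278, []),
  (279, 0, 279, []),
  (280, 0, 280, []),
  (281, 0, 281, []),
  (282, 0, 282, []),
  (283, 0, 283, []),
  (284, 0, 284, []),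
  (285, 0, 285, []),
  (286, 0, 286, []),
  (287, 0, 287, []),
  (288, 0, 288, []),
  (289, 0, 289, []),
  (290, 0, 290, []),
  (291, 0, 291, []),
  (292, 0, 292, []),
  (293, 0, 293, []),
  (294, 0, 294, []),
  (295, 0, 295, []),
  (296, 0, 296, []),
  (297, 0, 297, []),
  (298, 0, 298, []),
  (299, 0, 299, []),
  (300, 0, 300, []),
  (301, 0, 301, []),
  (302, 0, 302, []),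
  (303, 0, 303, []),
  (304, 0, 304, []),
  (305, 0, 305, []),
  (306, 0, 306, []),
  (56, 275, 275, [2,3,2,0,3,1,0,2]),
  (175, 275, 276, [2,3,2,0,3,1,0,2]),
  (39, 275, 277, [2,3,2,0,3,1,0,2]),
  (13, 275, 279, [2,3,2,0,3,1,0,2]),
  (51, 275, 280, [2,3,2,0,3,1,0,2]),
  (25, 275, 281, [2,3,2,0,3,1,0,2]),
  (60, 275, 282, [2,3,2,0,3,1,0,2]),
  (49, 275, 283, [2,3,2,0,3,1,0,2]),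
  (12, 275, 285, [2,3,2,0,3,1,0,2]),
  (19, 275, 286, [2,3,2,0,3,1,0,2]),
  (32, 275, 287, [2,3,2,0,3,1,0,2]),
  (180, 275, 288, [2,3,2,0,3,1,0,2]),
  (83, 275, 289, [2,3,2,0,3,1,0,2]),
  (268, 275, 290, [2,3,2,0,3,1,0,2]),
  (47, 275, 294, [2,3,2,0,3,1,0,2]),
  (63, 275, 295, [2,3,2,0,3,1,0,2]),
  (75, 275, 296, [2,3,2,0,3,1,0,2]),
  (155, 275, 297, [2,3,2,0,3,1,0,2]),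
  (80, 275, 298, [2,3,2,0,3,1,0,2]),
  (7, 275, 299, [2,3,2,0,3,1,0,2]),
  (72, 275, 300, [2,3,2,0,3,1,0,2]),
  (82, 275, 301, [2,3,2,0,3,1,0,2]),
  (23, 275, 302, [2,3,2,0,3,1,0,2]),
  (130, 275, 303, [2,3,2,0,3,1,0,2]),
  (11, 275, 304, [2,3,2,0,3,1,0,2]),
  (41, 275, 306, [2,3,2,0,3,1,0,2]),
  (20, 276, 275, [2,0,3,2,1,0,2]),
  (185, 276, 276, [2,0,3,2,1,0,2]),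
  (52, 276, 277, [2,0,3,2,1,0,2]),
  (76, 276, 279, [2,0,3,2,1,0,2]),
  (31, 276, 280, [2,0,3,2,1,0,2]),
  (10, 276, 281, [2,0,3,2,1,0,2]),
  (26, 276, 282, [2,0,3,2,1,0,2]),
  (55, 276, 283, [2,0,3,2,1,0,2]),
  (79, 276, 285, [2,0,3,2,1,0,2]),
  (8, 276, 286, [2,0,3,2,1,0,2]),
  (14, 276, 287, [2,0,3,2,1,0,2]),
  (129, 276, 288, [2,0,3,2,1,0,2]),
  (174, 276, 289, [2,0,3,2,1,0,2]),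
  (267, 276, 290, [2,0,3,2,1,0,2]),
  (59, 276, 294, [2,0,3,2,1,0,2]),
  (24, 276, 295, [2,0,3,2,1,0,2]),
  (50, 276, 296, [2,0,3,2,1,0,2]),
  (90, 276, 297, [2,0,3,2,1,0,2]),
  (42, 276, 298, [2,0,3,2,1,0,2]),
  (71, 276, 299, [2,0,3,2,1,0,2]),
  (40, 276, 300, [2,0,3,2,1,0,2]),
  (48, 276, 301, [2,0,3,2,1,0,2]),
  (9, 276, 302, [2,0,3,2,1,0,2]),
  (162, 276, 303, [2,0,3,2,1,0,2]),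
  (81, 276, 304, [2,0,3,2,1,0,2]),
  (64, 276, 306, [2,0,3,2,1,0,2]),
  (88, 277, 277, [0,3,2,3,2,1,0,2]),
  (33, 277, 282, [0,3,2,3,2,1,0,2]),
  (168, 277, 283, [0,3,2,3,2,1,0,2]),
  (27, 277, 284, [0,3,2,3,2,1,0,2]),
  (67, 277, 285, [0,3,2,3,2,1,0,2]),
  (127, 277, 291, [0,3,2,3,2,1,0,2]),
  (252, 277, 292, [0,3,2,3,2,1,0,2]),
  (44, 277, 293, [0,3,2,3,2,1,0,2]),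
  (153, 277, 294, [0,3,2,3,2,1,0,2]),
  (65, 277, 295, [0,3,2,3,2,1,0,2]),
  (36, 277, 299, [0,3,2,3,2,1,0,2]),
  (58, 277, 301, [0,3,2,3,2,1,0,2]),
  (74, 277, 302, [0,3,2,3,2,1,0,2]),
  (182, 277, 306, [0,3,2,3,2,1,0,2]),
  (43, 278, 275, [3,2,3,1,3,0,2]),
  (28, 278, 280, [3,2,3,1,3,0,2]),
  (148, 278, 281, [3,2,3,1,3,0,2]),
  (251, 278, 282, [3,2,3,1,3,0,2]),
  (73, 278, 285, [3,2,3,1,3,0,2]),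
  (35, 278, 288, [3,2,3,1,3,0,2]),
  (66, 278, 292, [3,2,3,1,3,0,2]),
  (34, 278, 293, [3,2,3,1,3,0,2]),
  (165, 278, 294, [3,2,3,1,3,0,2]),
  (57, 278, 297, [3,2,3,1,3,0,2]),
  (85, 278, 298, [3,2,3,1,3,0,2]),
  (183, 278, 303, [3,2,3,1,3,0,2]),
  (68, 278, 304, [3,2,3,1,3,0,2]),
  (128, 278, 305, [3,2,3,1,3,0,2]),
  (3, 279, 275, [1,2,3,1,3,2]),
  (104, 279, 277, [1,2,3,1,3,2]),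
  (210, 279, 279, [1,2,3,1,3,2]),
  (255, 279, 280, [1,2,3,1,3,2]),
  (53, 279, 282, [1,2,3,1,3,2]),
  (5, 279, 283, [1,2,3,1,3,2]),
  (92, 279, 287, [1,2,3,1,3,2]),
  (38, 279, 290, [1,2,3,1,3,2]),
  (6, 279, 293, [1,2,3,1,3,2]),
  (29, 279, 296, [1,2,3,1,3,2]),
  (95, 279, 297, [1,2,3,1,3,2]),
  (17, 279, 303, [1,2,3,1,3,2]),
  (187, 279, 305, [1,2,3,1,3,2]),
  (46, 279, 306, [1,2,3,1,3,2]),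
  (103, 280, 277, [0,2,3,1,3,2]),
  (209, 280, 279, [0,2,3,1,3,2]),
  (256, 280, 280, [0,2,3,1,3,2]),
  (54, 280, 282, [0,2,3,1,3,2]),
  (91, 280, 287, [0,2,3,1,3,2]),
  (37, 280, 290, [0,2,3,1,3,2]),
  (30, 280, 296, [0,2,3,1,3,2]),
  (96, 280, 297, [0,2,3,1,3,2]),
  (188, 280, 305, [0,2,3,1,3,2]),
  (45, 280, 306, [0,2,3,1,3,2]),
  (213, 281, 275, [3,1,2,1,3]),
  (218, 281, 277, [3,1,2,1,3]),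
  (61, 281, 279, [3,1,2,1,3]),
  (134, 281, 284, [3,1,2,1,3]),
  (78, 281, 285, [3,1,2,1,3]),
  (225, 281, 288, [3,1,2,1,3]),
  (22, 281, 289, [3,1,2,1,3]),
  (18, 281, 298, [3,1,2,1,3]),
  (119, 281, 299, [3,1,2,1,3]),
  (273, 281, 300, [3,1,2,1,3]),
  (16, 281, 305, [3,1,2,1,3]),
  (120, 282, 281, [0,2,1,3,1,2]),
  (274, 282, 282, [0,2,1,3,1,2]),
  (21, 282, 291, [0,2,1,3,1,2]),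
  (226, 282, 294, [0,2,1,3,1,2]),
  (77, 282, 295, [0,2,1,3,1,2]),
  (133, 282, 298, [0,2,1,3,1,2]),
  (62, 282, 301, [0,2,1,3,1,2]),
  (217, 282, 303, [0,2,1,3,1,2]),
  (214, 282, 305, [0,2,1,3,1,2]),
  (69, 283, 279, [1,3,2]),
  (200, 283, 280, [1,3,2]),
  (159, 283, 281, [1,3,2]),
  (236, 283, 283, [1,3,2]),
  (147, 283, 285, [1,3,2]),
  (179, 283, 290, [1,3,2]),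
  (247, 283, 297, [1,3,2]),
  (248, 284, 284, [2,3]),
  (70, 284, 288, [2,3]),
  (241, 284, 291, [2,3]),
  (158, 284, 296, [2,3]),
  (154, 284, 298, [2,3]),
  (199, 284, 300, [2,3]),
  (186, 284, 301, [2,3]),
  (113, 285, 283, [2,3,2,1,3]),
  (4, 285, 287, [2,3,2,1,3]),
  (203, 285, 288, [2,3,2,1,3]),
  (246, 285, 295, [2,3,2,1,3]),
  (101, 285, 296, [2,3,2,1,3]),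
  (193, 285, 304, [2,3,2,1,3]),
  (109, 285, 305, [2,3,2,1,3]),
  (204, 286, 284, [3,1,2,3,2]),
  (110, 286, 287, [3,1,2,3,2]),
  (194, 286, 295, [3,1,2,3,2]),
  (245, 286, 296, [3,1,2,3,2]),
  (114, 286, 303, [3,1,2,3,2]),
  (102, 286, 306, [3,1,2,3,2]),
  (156, 287, 281, [2,3,0,2,3,2,1,3,1,2]),
  (259, 287, 282, [2,3,0,2,3,2,1,3,1,2]),
  (124, 287, 294, [2,3,0,2,3,2,1,3,1,2]),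
  (87, 287, 298, [2,3,0,2,3,2,1,3,1,2]),
  (141, 287, 303, [2,3,0,2,3,2,1,3,1,2]),
  (149, 287, 305, [2,3,0,2,3,2,1,3,1,2]),
  (86, 288, 278, [3,1,2,1,0,3,2,1,3]),
  (144, 288, 284, [3,1,2,1,0,3,2,1,3]),
  (260, 288, 291, [3,1,2,1,0,3,2,1,3]),
  (161, 288, 292, [3,1,2,1,0,3,2,1,3]),
  (152, 288, 293, [3,1,2,1,0,3,2,1,3]),
  (123, 288, 305, [3,1,2,1,0,3,2,1,3]),
  (190, 289, 275, [2,1,3,2,3,2]),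
  (207, 289, 287, [2,1,3,2,3,2]),
  (15, 289, 288, [2,1,3,2,3,2]),
  (264, 289, 289, [2,1,3,2,3,2]),
  (97, 289, 290, [2,1,3,2,3,2]),
  (106, 289, 298, [2,1,3,2,3,2]),
  (93, 289, 304, [2,1,3,2,3,2]),
  (105, 290, 277, [1,2,3,2,3,1,2]),
  (208, 290, 283, [1,2,3,2,3,1,2]),
  (94, 290, 291, [1,2,3,2,3,1,2]),
  (263, 290, 292, [1,2,3,2,3,1,2]),
  (189, 290, 294, [1,2,3,2,3,1,2]),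
  (98, 290, 306, [1,2,3,2,3,1,2]),
  (231, 291, 275, [2,1,0,2,3,0,2]),
  (227, 291, 280, [2,1,0,2,3,0,2]),
  (117, 291, 282, [2,1,0,2,3,0,2]),
  (220, 291, 291, [2,1,0,2,3,0,2]),
  (136, 291, 295, [2,1,0,2,3,0,2]),
  (254, 291, 305, [2,1,0,2,3,0,2]),
  (219, 292, 277, [2,3,2,3,1,2]),
  (118, 292, 283, [2,3,2,3,1,2]),
  (232, 292, 291, [2,3,2,3,1,2]),
  (253, 292, 292, [2,3,2,3,1,2]),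
  (135, 292, 294, [2,3,2,3,1,2]),
  (228, 292, 306, [2,3,2,3,1,2]),
  (173, 293, 279, [3,1,3,2,3,1,2,3,2]),
  (202, 293, 282, [3,1,3,2,3,1,2,3,2]),
  (181, 293, 284, [3,1,3,2,3,1,2,3,2]),
  (239, 293, 286, [3,1,3,2,3,1,2,3,2]),
  (164, 293, 289, [3,1,3,2,3,1,2,3,2]),
  (257, 293, 298, [3,1,3,2,3,1,2,3,2]),
  (169, 294, 281, [2,3,2,3,0,2,1,3,0,2]),
  (258, 294, 282, [2,3,2,3,0,2,1,3,0,2]),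
  (201, 294, 294, [2,3,2,3,0,2,1,3,0,2]),
  (238, 294, 298, [2,3,2,3,0,2,1,3,0,2]),
  (184, 294, 303, [2,3,2,3,0,2,1,3,0,2]),
  (176, 294, 305, [2,3,2,3,0,2,1,3,0,2]),
  (121, 295, 284, [0,3,1,2,3,2]),
  (215, 295, 287, [0,3,1,2,3,2]),
  (131, 295, 295, [0,3,1,2,3,2]),
  (272, 295, 296, [0,3,1,2,3,2]),
  (211, 295, 303, [0,3,1,2,3,2]),
  (223, 295, 306, [0,3,1,2,3,2]),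
  (122, 296, 284, [1,3,1,2,3,2]),
  (216, 296, 287, [1,3,1,2,3,2]),
  (132, 296, 295, [1,3,1,2,3,2]),
  (271, 296, 296, [1,3,1,2,3,2]),
  (212, 296, 303, [1,3,1,2,3,2]),
  (224, 296, 306, [1,3,1,2,3,2]),
  (126, 297, 280, [3,2]),
  (167, 297, 281, [3,2]),
  (84, 297, 283, [3,2]),
  (171, 297, 285, [3,2]),
  (139, 297, 290, [3,2]),
  (269, 297, 297, [3,2]),
  (270, 298, 284, [1,2,3]),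
  (89, 298, 291, [1,2,3]),
  (166, 298, 296, [1,2,3]),
  (178, 298, 298, [1,2,3]),
  (125, 298, 300, [1,2,3]),
  (146, 298, 301, [1,2,3]),
  (205, 299, 281, [2,1,3,1,2]),
  (243, 299, 282, [2,1,3,1,2]),
  (99, 299, 294, [2,1,3,1,2]),
  (192, 299, 298, [2,1,3,1,2]),
  (108, 299, 303, [2,1,3,1,2]),
  (111, 299, 305, [2,1,3,1,2]),
  (112, 300, 275, [0,3,1,2,1,3]),
  (107, 300, 277, [0,3,1,2,1,3]),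
  (191, 300, 284, [0,3,1,2,1,3]),
  (100, 300, 288, [0,3,1,2,1,3]),
  (206, 300, 299, [0,3,1,2,1,3]),
  (244, 300, 300, [0,3,1,2,1,3]),
  (222, 301, 277, [2,3,1,3,2]),
  (116, 301, 279, [2,3,1,3,2]),
  (261, 301, 280, [2,3,1,3,2]),
  (234, 301, 287, [2,3,1,3,2]),
  (229, 301, 297, [2,3,1,3,2]),
  (137, 301, 305, [2,3,1,3,2]),
  (221, 302, 277, [1,0,2,3,1,3,2]),
  (115, 302, 279, [1,0,2,3,1,3,2]),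
  (262, 302, 280, [1,0,2,3,1,3,2]),
  (233, 302, 287, [1,0,2,3,1,3,2]),
  (230, 302, 297, [1,0,2,3,1,3,2]),
  (138, 302, 305, [1,0,2,3,1,3,2]),
  (177, 303, 281, [0,3,2,3,1,3,0,2]),
  (266, 303, 282, [0,3,2,3,1,3,0,2]),
  (160, 303, 294, [0,3,2,3,1,3,0,2]),
  (240, 303, 298, [0,3,2,3,1,3,0,2]),
  (142, 303, 303, [0,3,2,3,1,3,0,2]),
  (197, 303, 305, [0,3,2,3,1,3,0,2]),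
  (237, 304, 277, [3,2,3,2,1,0,2]),
  (157, 304, 283, [3,2,3,2,1,0,2]),
  (198, 304, 291, [3,2,3,2,1,0,2]),
  (265, 304, 292, [3,2,3,2,1,0,2]),
  (172, 304, 294, [3,2,3,2,1,0,2]),
  (143, 304, 306, [3,2,3,2,1,0,2]),
  (163, 305, 277, [3,0,2,0,3,1,2]),
  (235, 305, 283, [3,0,2,0,3,1,2]),
  (151, 305, 291, [3,0,2,0,3,1,2]),
  (250, 305, 292, [3,0,2,0,3,1,2]),
  (196, 305, 294, [3,0,2,0,3,1,2]),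
  (140, 305, 306, [3,0,2,0,3,1,2]),
  (145, 306, 276, [1,2,0,3,2,1,0,2]),
  (195, 306, 288, [1,2,0,3,2,1,0,2]),
  (150, 306, 289, [1,2,0,3,2,1,0,2]),
  (249, 306, 290, [1,2,0,3,2,1,0,2]),
  (242, 306, 297, [1,2,0,3,2,1,0,2]),
  (170, 306, 303, [1,2,0,3,2,1,0,2]),
  (309, 175, 277, [1,2,0,3]),
  (314, 180, 294, [1,3,2,3,1,3,2,3,2]),
  (311, 83, 275, [0,2]),
  (2, 268, 275, [1,0,2,3,1,3,1,2]),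
  (310, 268, 280, [1,0,2,3,1,3,1,2]),
  (312, 268, 282, [1,0,2,3,1,3,1,2]),
  (307, 268, 291, [1,0,2,3,1,3,1,2]),
  (313, 268, 295, [1,0,2,3,1,3,1,2]),
  (308, 155, 293, [3,2,3,1,2,3,2,3]),
  (1, 130, 301, [0,2,3,1,3,0,2])]

end Cfsg.Agent.HJ
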