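import Cfsg.Agent.Lib.HallJanko.Lines

/-! Checks for the base `0, 83, 93, 1`. -/

set_option autoImplicit false

namespace Cfsg.Agent.HJ

open V8

theorem words1_check : certOK words1 [0] 83 = true := by decide +kernel

theorem words2_check : certOK words2 [0, 83] 93 = true := by decide +kernel

theorem words_card : (words1.map Prod.fst).toFinset.card = 160 ∧
    (words2.map Prod.fst).toFinset.card = 12 := by decide +kernel

theorem level2_check : allIdx (fun x =>
    !(decide (k2 0 x = k2 0 83)) || decide (x ∈ words1.map Prod.fst)) = true := by decide +kernel

theorem level3_check : allIdx (fun x =>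
    !(decide (k2 0 x = k2 0 93) && decide (k2 83 x = k2 83 93) && decide (k3 0 83 x = k3 0 83 93)) ||
      decide (x ∈ words2.map Prod.fst)) = true := by decide +kernel

theorem level4_check : allIdx (fun x =>
    !(decide (k2 0 x = k2 0 1) && decide (k2 83 x = k2 83 1) && decide (k2 93 x = k2 93 1) &&
        decide (k3 0 93 x = k3 0 93 1) && decide (k3 83 93 x = k3 83 93 1)) ||
      decide (x = 1)) = true := by decide +kernel

end Cfsg.Agent.HJ
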