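import Cfsg.Agent.Lib.HallJanko.Group
import Cfsg.Agent.Lib.HallJanko.OrderChecks

/-!
# The order of the group on the lines
-/

set_option autoImplicit false

namespace Cfsg.Agent.HJ

open Quaternion Cfsg.Spor V8

theorem mem_P (k : Fin 4) : gperm k ∈ P := Subgroup.subset_closure ⟨k, rfl⟩

theorem wP_mem : ∀ w : List (Fin 4), wP w ∈ P
  | [] => one_mem _
  | k :: w => mul_mem (mem_P k) (wP_mem w)

theorem exists_lift {g : Equiv.Perm (Fin 315)} (hg : g ∈ P) : ∃ t : twoJ2, phi t = g := by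
  rw [← phi_range] at hg
  exact hg

theorem phi_mem (t : twoJ2) : phi t ∈ P := phi_range ▸ ⟨t, rfl⟩

theorem transitive (x y : Fin 315) : ∃ g ∈ P, g x = y := by
  obtain ⟨v, hv⟩ := exists_word x
  obtain ⟨w, hw⟩ := exists_word y
  refine ⟨wP w * (wP v)⁻¹, mul_mem (wP_mem w) (inv_mem (wP_mem v)), ?_⟩
  rw [Equiv.Perm.mul_apply, ← hv, perm_inv_self, hw]

theorem invV (i : Fin 315) : InV (rep i) := (rep_ok i.2).1

theorem k2_real (i j : Fin 315) : normSq (qip (rv i) (rv j)) = toR (k2 i j).1 (k2 i j).2 := by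
  obtain ⟨e, h⟩ := qip_toV (invV i) (invV j)
  rw [rv, rv, e, normSq_toH h]; rfl

theorem k3_real (i j k : Fin 315) :
    (qip (rv i) (rv j) * qip (rv j) (rv k) * qip (rv k) (rv i)).re = toR (k3 i j k).1 (k3 i j k).2 := by
  obtain ⟨e1, h1⟩ := qip_toV (invV i) (invV j)
  obtain ⟨e2, h2⟩ := qip_toV (invV j) (invV k)
  obtain ⟨e3, h3⟩ := qip_toV (invV k) (invV i)
  obtain ⟨m1, i1⟩ := toH_mul h1 h2
  obtain ⟨m2, -⟩ := toH_mul i1 h3
  simp only [rv]
  rw [e1, e2, e3, ← m1, ← m2]
  rfl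

theorem re_mul_comm (a b : ℍ[ℝ]) : (a * b).re = (b * a).re := by
  simp [Quaternion.re_mul]; ring

theorem re_conj_unit {u : ℍ[ℝ]} (hu : normSq u = 1) (a : ℍ[ℝ]) : (u * a * star u).re = a.re := by
  rw [re_mul_comm, ← mul_assoc, Quaternion.star_mul_self, hu, Quaternion.coe_one, one_mul]

theorem qip_moved (t : twoJ2) (i j : Fin 315) :
    ∃ u v : ℍ[ℝ], normSq u = 1 ∧ normSq v = 1 ∧
      ((t : Equiv.Perm icoLeech) (lv i) : HV) = u • rv (phi t i) ∧
      ((t : Equiv.Perm icoLeech) (lv j) : HV) = v • rv (phi t j) := by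
  obtain ⟨u, -, nu, e⟩ := carries_phi t i
  obtain ⟨v, -, nv, e'⟩ := carries_phi t j
  exact ⟨u, v, nu, nv, e, e'⟩

theorem k2_inv {g : Equiv.Perm (Fin 315)} (hg : g ∈ P) (i j : Fin 315) :
    k2 (g i) (g j) = k2 i j := by
  obtain ⟨t, rfl⟩ := exists_lift hg
  obtain ⟨u, v, nu, nv, e, e'⟩ := qip_moved t i j
  have h := (twoJ2_le_linIso t.2).2 (lv i) (lv j)
  rw [e, e', qip_smul_left, qip_smul_right] at h
  have h' := congrArg normSq h
  rw [map_mul, map_mul, Quaternion.normSq_star, nu, nv, one_mul, mul_one, k2_real,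
    show ((lv i : HV)) = rv i from rfl, show ((lv j : HV)) = rv j from rfl, k2_real] at h'
  exact Prod.ext (toR_inj h').1 (toR_inj h').2

theorem k3_inv {g : Equiv.Perm (Fin 315)} (hg : g ∈ P) (i j k : Fin 315) :
    k3 (g i) (g j) (g k) = k3 i j k := by
  obtain ⟨t, rfl⟩ := exists_lift hg
  obtain ⟨u, -, nu, e⟩ := carries_phi t i
  obtain ⟨v, -, nv, e'⟩ := carries_phi t j
  obtain ⟨w, -, nw, e''⟩ := carries_phi t k
  have hl := (twoJ2_le_linIso t.2).2
  have a1 := hl (lv i) (lv j)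
  have a2 := hl (lv j) (lv k)
  have a3 := hl (lv k) (lv i)
  rw [e, e', qip_smul_left, qip_smul_right] at a1
  rw [e', e'', qip_smul_left, qip_smul_right] at a2
  rw [e'', e, qip_smul_left, qip_smul_right] at a3
  have h := k3_real i j k
  rw [show rv i = (lv i : HV) from rfl, show rv j = (lv j : HV) from rfl,
    show rv k = (lv k : HV) from rfl, ← a1, ← a2, ← a3] at h
  have cv : star v * v = 1 := by rw [Quaternion.star_mul_self, nv, Quaternion.coe_one]
  have cw : star w * w = 1 := by rw [Quaternion.star_mul_self, nw, Quaternion.coe_one]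
  have : ∀ A B C : ℍ[ℝ], u * (A * star v) * (v * (B * star w)) * (w * (C * star u)) =
      u * (A * B * C) * star u := fun A B C => by
    simp only [mul_assoc]
    rw [← mul_assoc (star v) v, cv, one_mul, ← mul_assoc (star w) w, cw, one_mul]
  rw [this, re_conj_unit nu, k3_real] at h
  exact Prod.ext (toR_inj h).1 (toR_inj h).2

/-- The reflection of line `i` as a permutation of the lines. -/
noncomputable def sigma (i : Fin 315) : Equiv.Perm (Fin 315) := phi ⟨R i, R_mem i⟩

theorem sigma_mem (i : Fin 315) : sigma i ∈ P := phi_mem _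

theorem sigma_gi (k : Fin 4) : sigma (gi k) = gperm k := phi_GT k

theorem sigma_zero : sigma 0 = gperm 0 := sigma_gi 0

theorem conj_sigma {g : Equiv.Perm (Fin 315)} (hg : g ∈ P) (i : Fin 315) :
    g * sigma i * g⁻¹ = sigma (g i) := by
  obtain ⟨t, rfl⟩ := exists_lift hg
  rw [sigma, ← map_inv, ← map_mul, ← map_mul]
  exact congrArg phi (Subtype.ext (conj_R t i))

theorem center_trivial {g : Equiv.Perm (Fin 315)} (hg : g ∈ P)
    (hc : ∀ h ∈ P, h * g = g * h) (h0 : g 0 = 0) : g = 1 := by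
  refine Equiv.ext fun x => ?_
  obtain ⟨h, hh, rfl⟩ := transitive 0 x
  have := Equiv.Perm.ext_iff.1 (hc h hh) 0
  rw [Equiv.Perm.mul_apply, Equiv.Perm.mul_apply, h0] at this
  exact this.symm

theorem eq_one_of_fixed {g : Equiv.Perm (Fin 315)} (hg : g ∈ P) (h : ∀ k, g (gi k) = gi k) :
    g = 1 := by
  refine center_trivial hg ?_ (h 0)
  intro a ha
  induction ha using Subgroup.closure_induction with
  | mem x hx =>
      obtain ⟨k, rfl⟩ := hx
      have := conj_sigma hg (gi k)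
      rw [h k, sigma_gi, mul_inv_eq_iff_eq_mul] at this
      exact this.symm
  | one => simp
  | mul x y _ _ hx hy => rw [mul_assoc, hy, ← mul_assoc, hx, mul_assoc]
  | inv x _ hx =>
      rw [inv_mul_eq_iff_eq_mul, ← mul_assoc, hx, mul_assoc, mul_inv_cancel, mul_one]

theorem card_orbit_chain {α : Type*} [Finite α] (H : Subgroup (Equiv.Perm α)) (a : α) (O : Finset α)
    (h1 : ∀ g ∈ H, g a ∈ O) (h2 : ∀ x ∈ O, ∃ g ∈ H, g a = x) :
    Nat.card H = O.card * Nat.card (H ⊓ MulAction.stabilizer (Equiv.Perm α) a : Subgroup (Equiv.Perm α)) := by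
  have ho : MulAction.orbit H a = ↑O := by
    ext x
    constructor
    · rintro ⟨⟨g, hg⟩, rfl⟩; exact h1 g hg
    · intro hx; obtain ⟨g, hg, rfl⟩ := h2 x hx; exact ⟨⟨g, hg⟩, rfl⟩
  have e : Nat.card (MulAction.stabilizer H a) =
      Nat.card (H ⊓ MulAction.stabilizer (Equiv.Perm α) a : Subgroup (Equiv.Perm α)) :=
    Nat.card_congr
      { toFun := fun g => ⟨g.1.1, g.1.2, g.2⟩
        invFun := fun g => ⟨⟨g.1, g.2.1⟩, g.2.2⟩
        left_inv := fun _ => rfl
        right_inv := fun _ => rfl }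
  rw [← e, ← Subgroup.index_mul_card (MulAction.stabilizer H a), MulAction.index_stabilizer, ho,
    Set.ncard_coe_finset]

/-- The stabiliser of line 0. -/
def P1 : Subgroup (Equiv.Perm (Fin 315)) := P ⊓ MulAction.stabilizer _ (0 : Fin 315)

/-- The stabiliser of lines 0 and 83. -/
def P2 : Subgroup (Equiv.Perm (Fin 315)) := P1 ⊓ MulAction.stabilizer _ (83 : Fin 315)

/-- The orbit of line 83 under the stabiliser of line 0. -/
def O1 : Finset (Fin 315) := Finset.univ.filter fun x => (x : ℕ) ∈ words1.map Prod.fst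

/-- The orbit of line 93 under the stabiliser of lines 0 and 83. -/
def O2 : Finset (Fin 315) := Finset.univ.filter fun x => (x : ℕ) ∈ words2.map Prod.fst

theorem O_card : O1.card = 160 ∧ O2.card = 12 := by decide +kernel

theorem card_P1_eq : Nat.card P1 = 160 * Nat.card P2 := by
  refine Eq.trans (card_orbit_chain P1 83 O1 (fun g hg => ?_) fun x hx => ?_) ?_
  rotate_right
  · rw [O_card.1, P2]
  · have h := allIdx_spec level2_check (g 83).2
    have e := k2_inv hg.1 0 83
    rw [show g 0 = 0 from hg.2] at e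
    simp only [Fin.val_zero] at e
    rw [show ((83 : Fin 315) : ℕ) = 83 from rfl] at e
    simp only [e, decide_true, Bool.not_true, Bool.false_or, decide_eq_true_eq] at h
    simpa [O1] using h
  · obtain ⟨w, hw, hf⟩ := cert_spec (root := 83) words1_check (by simpa [O1] using hx)
    exact ⟨wP w, ⟨wP_mem w, hf 0 (by simp)⟩, hw⟩

theorem card_P2_eq : Nat.card P2 = 12 := by
  have h3 : ∀ g ∈ P2 ⊓ MulAction.stabilizer (Equiv.Perm (Fin 315)) (93 : Fin 315), g = 1 := by
    rintro g ⟨⟨⟨hg, h0⟩, h83⟩, h93⟩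
    have e0 : g 0 = 0 := h0
    have e83 : g 83 = 83 := h83
    have e93 : g 93 = 93 := h93
    have h := allIdx_spec level4_check (g 1).2
    have a1 := k2_inv hg 0 1
    have a2 := k2_inv hg 83 1
    have a3 := k2_inv hg 93 1
    have a4 := k3_inv hg 0 93 1
    have a5 := k3_inv hg 83 93 1
    rw [e0] at a1; rw [e83] at a2; rw [e93] at a3; rw [e0, e93] at a4; rw [e83, e93] at a5
    have v0 : ((0 : Fin 315) : ℕ) = 0 := rfl
    have v1 : ((1 : Fin 315) : ℕ) = 1 := rfl
    have v83 : ((83 : Fin 315) : ℕ) = 83 := rfl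
    have v93 : ((93 : Fin 315) : ℕ) = 93 := rfl
    simp only [v0, v1, v83, v93] at a1 a2 a3 a4 a5
    simp only [a1, a2, a3, a4, a5, decide_true, Bool.and_true, Bool.not_true, Bool.false_or,
      decide_eq_true_eq] at h
    refine eq_one_of_fixed hg fun k => ?_
    fin_cases k
    · exact e0
    · exact Fin.ext h
    · exact e83
    · exact e93
  have hone : Nat.card (P2 ⊓ MulAction.stabilizer (Equiv.Perm (Fin 315)) (93 : Fin 315) :
      Subgroup (Equiv.Perm (Fin 315))) = 1 :=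
    Nat.card_eq_one_iff_unique.2 ⟨⟨fun a b => Subtype.ext ((h3 _ a.2).trans (h3 _ b.2).symm)⟩, ⟨1⟩⟩
  rw [card_orbit_chain P2 93 O2 (fun g hg => ?_) (fun x hx => ?_), hone, mul_one, O_card.2]
  · obtain ⟨⟨hP, h0⟩, h83⟩ := hg
    have e0 : g 0 = 0 := h0
    have e83 : g 83 = 83 := h83
    have h := allIdx_spec level3_check (g 93).2
    have a1 := k2_inv hP 0 93
    have a2 := k2_inv hP 83 93
    have a3 := k3_inv hP 0 83 93
    rw [e0] at a1; rw [e83] at a2; rw [e0, e83] at a3
    have v0 : ((0 : Fin 315) : ℕ) = 0 := rfl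
    have v83 : ((83 : Fin 315) : ℕ) = 83 := rfl
    have v93 : ((93 : Fin 315) : ℕ) = 93 := rfl
    simp only [v0, v83, v93] at a1 a2 a3
    simp only [a1, a2, a3, decide_true, Bool.and_true, Bool.not_true, Bool.false_or,
      decide_eq_true_eq] at h
    simpa [O2] using h
  · obtain ⟨w, hw, hf⟩ := cert_spec (root := 93) words2_check (by simpa [O2] using hx)
    exact ⟨wP w, ⟨⟨wP_mem w, hf 0 (by simp)⟩, hf 83 (by simp)⟩, hw⟩

theorem card_P1 : Nat.card P1 = 1920 := by rw [card_P1_eq, card_P2_eq]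

theorem card_P : Nat.card P = 604800 := by
  rw [card_orbit_chain P 0 Finset.univ (fun _ _ => Finset.mem_univ _) (fun x _ => transitive 0 x)]
  rw [Finset.card_univ, Fintype.card_fin, ← P1, card_P1]

end Cfsg.Agent.HJ
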