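import Cfsg.Agent.Lib.HallJanko.HundredPack

/-!
The outer automorphism group of the Hall–Janko group has order 2.
-/

set_option autoImplicit false
set_option maxRecDepth 20000
set_option maxHeartbeats 1000000

namespace Cfsg.Agent.HJ

open Cfsg Cfsg.Agent.Mathieu

theorem card_out_congr {A B : Type*} [Group A] [Group B] (e : A ≃* B) :
    Nat.card (Out A) = Nat.card (Out B) := by
  refine Nat.card_congr (QuotientGroup.congr (Inn A) (Inn B) (MulAut.congr e) ?_).toEquiv
  ext φ
  constructor
  · rintro ⟨_, ⟨a, rfl⟩, rfl⟩
    exact ⟨e a, MulEquiv.ext fun b => by simp [MulAut.congr]⟩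
  · rintro ⟨b, rfl⟩
    exact ⟨MulAut.conj (e.symm b), ⟨_, rfl⟩, MulEquiv.ext fun c => by simp [MulAut.congr]⟩

theorem rigid100_mem : [rigid100.x, rigid100.y, rigid100.t].all (known100.contains ·) = true := by
  decide +kernel

theorem rigid100_basic : rigid100.basicOK 100 gens100 = true := by decide +kernel

theorem rigid100_cent : rigid100.centOK 100 levels100 = true := by decide +kernel

theorem rigid100_img : rigid100.imgOK 100 levels100 = true := by decide +kernel

theorem outer100_check : (permOK 100 outer100 && permOK 100 outerInv100 &&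
    isId 100 (packMul 100 outer100 outerInv100) &&
    (List.range 4).all fun k => known100.contains (outerConj100.getD k 0) &&
      samePack 100 (packMulS 100 (packMulS 100 outer100 (gens100.getD k 0)) outerInv100)
        (outerConj100.getD k 0)) = true := by decide +kernel

theorem outerX100 :
    samePack 100 (packMulS 100 (packMulS 100 outer100 rigid100.x) outerInv100) rigid100.x = true := by
  decide +kernel

theorem outerT100_check :
    samePack 100 (packMulS 100 (packMulS 100 outer100 rigid100.t) outerInv100) outerT100 = true := by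
  decide +kernel

theorem outer100_no_inner : ((solutions 100 rigid100.x rigid100.x levels100).all fun g =>
    !samePack 100 (packMulS 100 g rigid100.t) (packMulS 100 outerT100 g)) = true := by
  decide +kernel

theorem card_out_Q100 : Nat.card (Out Q100) = 2 := by
  have hc := outer100_check
  simp only [Bool.and_eq_true, List.all_eq_true, List.mem_range] at hc
  obtain ⟨⟨⟨hd, hdi⟩, hinv⟩, hgen⟩ := hc
  obtain ⟨δ, hδ⟩ := exists_rep (e := enc100) hd
  obtain ⟨τ, hτ⟩ := exists_rep (e := enc100) hdi
  have hδi : Rep enc100 δ⁻¹ outerInv100 :=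
    eq_inv_of_mul_eq_one_right ((rep_packMul hδ hτ).eq_one hinv) ▸ hτ
  have hmap : ∀ k : Fin 4, δ * hperm k * δ⁻¹ ∈ Q100 := fun k => by
    obtain ⟨hk1, hk2⟩ := hgen k k.2
    obtain ⟨σ, hσ, hr⟩ := known100_mem hk1
    rw [packMulS_eq, packMulS_eq] at hk2
    rwa [((rep_packMul (rep_packMul hδ (rep_hperm k)) hδi).of_same hk2).unique hr]
  have hnorm : Q100.map (MulAut.conj δ).toMonoidHom = Q100 := by
    refine Subgroup.eq_of_le_of_card_ge ?_
      (by rw [Subgroup.card_map_of_injective (MulAut.conj δ).injective])
    have hrange : Q100 = Subgroup.closure (Set.range hperm) := exists_hund.choose_spec.2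
    rw [Subgroup.map_le_iff_le_comap]
    refine hrange.le.trans ((Subgroup.closure_le _).2 ?_)
    rintro _ ⟨k, rfl⟩
    exact hmap k
  exact outer_card_eq_two stab100 genGroup_eq rigid100 (by norm_num [rigid100])
    (by rw [card_Q100]; norm_num [rigid100])
    (fun l hl => known100_mem (List.all_eq_true.1 rigid100_mem l hl))
    rigid100_basic rigid100_cent rigid100_img rfl hδ hδi hnorm outerX100 outerT100_check
    outer100_no_inner

theorem card_out_J2 : Nat.card (Out Spor.J2) = 2 := by
  rw [card_out_congr isoJ2, card_out_Q100]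

end Cfsg.Agent.HJ
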