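import Cfsg.Prelude.Def_Spor_J2

/-!
# Integer arithmetic in the icosian ring

`V8` holds eight integers `(a₀, b₀, …, a₃, b₃)` and stands for the quaternion with coordinates `(aₖ + bₖ√5)/4`.
-/

set_option autoImplicit false

namespace Cfsg.Agent.HJ

open Quaternion Cfsg.Spor

/-- Coordinates of a quaternion over `ℤ[√5]/4`. -/
structure V8 where
  a0 : ℤ
  b0 : ℤ
  a1 : ℤ
  b1 : ℤ
  a2 : ℤ
  b2 : ℤ
  a3 : ℤ
  b3 : ℤ
deriving DecidableEq

namespace V8

/-- Addition. -/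
def add (x y : V8) : V8 :=
  ⟨x.a0 + y.a0, x.b0 + y.b0, x.a1 + y.a1, x.b1 + y.b1, x.a2 + y.a2, x.b2 + y.b2, x.a3 + y.a3, x.b3 + y.b3⟩

/-- Integer multiples. -/
def smul (k : ℤ) (x : V8) : V8 :=
  ⟨k * x.a0, k * x.b0, k * x.a1, k * x.b1, k * x.a2, k * x.b2, k * x.a3, k * x.b3⟩

/-- Subtraction. -/
def sub (x y : V8) : V8 :=
  ⟨x.a0 - y.a0, x.b0 - y.b0, x.a1 - y.a1, x.b1 - y.b1, x.a2 - y.a2, x.b2 - y.b2, x.a3 - y.a3, x.b3 - y.b3⟩

/-- Zero. -/
def zero : V8 := ⟨0, 0, 0, 0, 0, 0, 0, 0⟩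

/-- One. -/
def one : V8 := ⟨4, 0, 0, 0, 0, 0, 0, 0⟩

/-- The generator `i`. -/
def vi : V8 := ⟨0, 0, 4, 0, 0, 0, 0, 0⟩

/-- The generator `½(1 + σi + τk)`. -/
def vg : V8 := ⟨2, 0, 1, -1, 0, 0, 1, 1⟩

/-- The icosian `h`. -/
def vh : V8 := ⟨0, -2, 2, 0, 2, 0, 2, 0⟩

/-- Conjugation. -/
def conj (x : V8) : V8 := ⟨x.a0, x.b0, -x.a1, -x.b1, -x.a2, -x.b2, -x.a3, -x.b3⟩

/-- Four times the product. -/
def mulP (x y : V8) : V8 :=
  ⟨x.a0 * y.a0 + 5 * (x.b0 * y.b0) - (x.a1 * y.a1 + 5 * (x.b1 * y.b1))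
      - (x.a2 * y.a2 + 5 * (x.b2 * y.b2)) - (x.a3 * y.a3 + 5 * (x.b3 * y.b3)),
   x.a0 * y.b0 + x.b0 * y.a0 - (x.a1 * y.b1 + x.b1 * y.a1)
      - (x.a2 * y.b2 + x.b2 * y.a2) - (x.a3 * y.b3 + x.b3 * y.a3),
   x.a0 * y.a1 + 5 * (x.b0 * y.b1) + (x.a1 * y.a0 + 5 * (x.b1 * y.b0))
      + (x.a2 * y.a3 + 5 * (x.b2 * y.b3)) - (x.a3 * y.a2 + 5 * (x.b3 * y.b2)),
   x.a0 * y.b1 + x.b0 * y.a1 + (x.a1 * y.b0 + x.b1 * y.a0)
      + (x.a2 * y.b3 + x.b2 * y.a3) - (x.a3 * y.b2 + x.b3 * y.a2),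
   x.a0 * y.a2 + 5 * (x.b0 * y.b2) - (x.a1 * y.a3 + 5 * (x.b1 * y.b3))
      + (x.a2 * y.a0 + 5 * (x.b2 * y.b0)) + (x.a3 * y.a1 + 5 * (x.b3 * y.b1)),
   x.a0 * y.b2 + x.b0 * y.a2 - (x.a1 * y.b3 + x.b1 * y.a3)
      + (x.a2 * y.b0 + x.b2 * y.a0) + (x.a3 * y.b1 + x.b3 * y.a1),
   x.a0 * y.a3 + 5 * (x.b0 * y.b3) + (x.a1 * y.a2 + 5 * (x.b1 * y.b2))
      - (x.a2 * y.a1 + 5 * (x.b2 * y.b1)) + (x.a3 * y.a0 + 5 * (x.b3 * y.b0)),
   x.a0 * y.b3 + x.b0 * y.a3 + (x.a1 * y.b2 + x.b1 * y.a2)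
      - (x.a2 * y.b1 + x.b2 * y.a1) + (x.a3 * y.b0 + x.b3 * y.a0)⟩

/-- Exact division. -/
def divBy (k : ℤ) (x : V8) : V8 :=
  ⟨x.a0 / k, x.b0 / k, x.a1 / k, x.b1 / k, x.a2 / k, x.b2 / k, x.a3 / k, x.b3 / k⟩

/-- The product, for icosians. -/
def mul (x y : V8) : V8 := divBy 4 (mulP x y)

/-- Weight: `4 Σ (aₖ² + 5bₖ²)` in quarter units. -/
def wt (x : V8) : ℤ :=
  x.a0 * x.a0 + 5 * (x.b0 * x.b0) + (x.a1 * x.a1 + 5 * (x.b1 * x.b1))
    + (x.a2 * x.a2 + 5 * (x.b2 * x.b2)) + (x.a3 * x.a3 + 5 * (x.b3 * x.b3))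

/-- The norm, as a pair standing for `(m + n√5)/4`. -/
def nrm (x : V8) : ℤ × ℤ := ((mul x (conj x)).a0, (mul x (conj x)).b0)

/-- The triangular coordinates with respect to the basis of the ring. -/
def fromC (c : V8) : V8 :=
  ⟨c.a0, c.a0 + 2 * c.b0, c.a1, c.a1 + 2 * c.b1, c.a0 + c.b0 + c.b1 + 2 * c.a2,
    3 * c.a0 + c.b0 + 2 * c.a1 + 3 * c.b1 + 2 * c.a2 + 4 * c.b2,
    c.b0 + c.a1 + c.b1 + 2 * c.a3,
    2 * c.a0 + 3 * c.b0 + 3 * c.a1 + c.b1 + 2 * c.a3 + 4 * c.b3⟩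

/-- Solve the triangular system. -/
def coords (v : V8) : V8 :=
  let c0 := v.a0
  let c1 := (v.b0 - c0) / 2
  let c2 := v.a1
  let c3 := (v.b1 - c2) / 2
  let c4 := (v.a2 - (c0 + c1 + c3)) / 2
  let c5 := (v.b2 - (3 * c0 + c1 + 2 * c2 + 3 * c3 + 2 * c4)) / 4
  let c6 := (v.a3 - (c1 + c2 + c3)) / 2
  let c7 := (v.b3 - (2 * c0 + 3 * c1 + 3 * c2 + c3 + 2 * c6)) / 4
  ⟨c0, c1, c2, c3, c4, c5, c6, c7⟩

/-- The test for membership of the icosian ring. -/
def inI (v : V8) : Bool := decide (fromC (coords v) = v)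

/-- The test for membership of the left ideal generated by an element of norm two. -/
def inIdeal (q v : V8) : Bool :=
  decide (smul 2 (divBy 2 (mul v (conj q))) = mul v (conj q)) && inI (divBy 2 (mul v (conj q)))

theorem coords_fromC (c : V8) : coords (fromC c) = c := by
  obtain ⟨c0, c1, c2, c3, c4, c5, c6, c7⟩ := c
  simp only [coords, fromC, V8.mk.injEq]
  refine ⟨?_, ?_, ?_, ?_, ?_, ?_, ?_, ?_⟩ <;> first | trivial | omega

theorem inI_fromC (c : V8) : inI (fromC c) = true := by simp [inI, coords_fromC]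

theorem exists_of_inI {v : V8} (h : inI v = true) : ∃ c, v = fromC c :=
  ⟨coords v, (of_decide_eq_true h).symm⟩

end V8

open V8

/-- The basis of the icosian ring. -/
def basis : List V8 := [⟨1, 1, 0, 0, 1, 3, 0, 2⟩,
  ⟨0, 2, 0, 0, 1, 1, 1, 3⟩,
  ⟨0, 0, 1, 1, 0, 2, 1, 3⟩,
  ⟨0, 0, 0, 2, 1, 3, 1, 1⟩,
  ⟨0, 0, 0, 0, 2, 2, 0, 0⟩,
  ⟨0, 0, 0, 0, 0, 4, 0, 0⟩,
  ⟨0, 0, 0, 0, 0, 0, 2, 2⟩,
  ⟨0, 0, 0, 0, 0, 0, 0, 4⟩]

/-- Words in the two generators. -/
def bWords : List (List Bool) := [[true,true,false,true], [true,false], [true], [false,false,false,true,false], [false,true,true,false,true], [false], [true,false,true,true], [false,true,true,false]]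

/-- Coefficients of the basis. -/
def bCoef : List (List ℤ) := [[0, 2, 0, 0, 1, -1, -1, 1], [-1, 2, 1, -1, 0, -1, 0, 1], [0, 1, 0, -1, 1, 0, -1, 1], [1, 1, -1, 0, 1, 0, -1, 1], [1, 0, 0, 0, 0, 0, -1, 0], [1, 2, -1, 1, 2, -1, -1, 0], [0, 0, 1, -1, 0, 0, 0, 0], [-1, 0, 1, -2, 0, 0, -1, 1]]

/-- The value of a pair. -/
noncomputable def toR (a b : ℤ) : ℝ := ((a : ℝ) + (b : ℝ) * Real.sqrt 5) / 4

/-- The quaternion of a coordinate vector. -/
noncomputable def toH (v : V8) : ℍ[ℝ] := ⟨toR v.a0 v.b0, toR v.a1 v.b1, toR v.a2 v.b2, toR v.a3 v.b3⟩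

@[simp] theorem toH_re (v : V8) : (toH v).re = toR v.a0 v.b0 := rfl
@[simp] theorem toH_imI (v : V8) : (toH v).imI = toR v.a1 v.b1 := rfl
@[simp] theorem toH_imJ (v : V8) : (toH v).imJ = toR v.a2 v.b2 := rfl
@[simp] theorem toH_imK (v : V8) : (toH v).imK = toR v.a3 v.b3 := rfl

theorem sqrt5_sq : Real.sqrt 5 ^ 2 = 5 := Real.sq_sqrt (by norm_num)

theorem toR_inj {a b c d : ℤ} (h : toR a b = toR c d) : a = c ∧ b = d := by
  have hirr : Irrational (Real.sqrt 5) := by exact_mod_cast Nat.Prime.irrational_sqrt (p := 5) (by norm_num)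
  have h1 : ((b - d : ℤ) : ℝ) * Real.sqrt 5 = ((c - a : ℤ) : ℝ) := by
    unfold toR at h; push_cast; linarith
  by_cases hbd : b = d
  · subst hbd
    refine ⟨?_, rfl⟩
    have : (a : ℝ) = c := by unfold toR at h; linarith
    exact_mod_cast this
  · exact absurd h1 (((irrational_intCast_mul_iff).2 ⟨sub_ne_zero.2 hbd, hirr⟩).ne_int _)

theorem toH_injective : Function.Injective toH := by
  intro x y h
  obtain ⟨h0, h0'⟩ := toR_inj (a := x.a0) (b := x.b0) (c := y.a0) (d := y.b0)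
    (by simpa using congrArg (fun q : ℍ[ℝ] => q.re) h)
  obtain ⟨h1, h1'⟩ := toR_inj (a := x.a1) (b := x.b1) (c := y.a1) (d := y.b1)
    (by simpa using congrArg (fun q : ℍ[ℝ] => q.imI) h)
  obtain ⟨h2, h2'⟩ := toR_inj (a := x.a2) (b := x.b2) (c := y.a2) (d := y.b2)
    (by simpa using congrArg (fun q : ℍ[ℝ] => q.imJ) h)
  obtain ⟨h3, h3'⟩ := toR_inj (a := x.a3) (b := x.b3) (c := y.a3) (d := y.b3)
    (by simpa using congrArg (fun q : ℍ[ℝ] => q.imK) h)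
  cases x; cases y; simp_all

theorem toH_add (x y : V8) : toH (add x y) = toH x + toH y := by
  ext <;> simp [toR, add] <;> ring

theorem toH_sub (x y : V8) : toH (sub x y) = toH x - toH y := by
  ext <;> simp [toR, sub] <;> ring

theorem toH_smul (k : ℤ) (x : V8) : toH (smul k x) = (k : ℤ) • toH x := by
  ext <;> simp [toR, smul] <;> ring

theorem toH_zero : toH zero = 0 := by ext <;> simp [toR, zero]

theorem toH_one : toH one = 1 := by ext <;> simp [toR, one]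

theorem toH_conj (x : V8) : toH (conj x) = star (toH x) := by
  ext <;> simp [toR, conj] <;> ring

theorem toH_mulP (x y : V8) : toH x * toH y = (4 : ℝ)⁻¹ • toH (mulP x y) := by
  ext <;> simp [toR, mulP] <;> ring_nf <;> simp only [sqrt5_sq] <;> ring

theorem toH_vi : toH vi = qI := by ext <;> simp [toR, vi, qI]

theorem toH_vg : toH vg = ⟨1 / 2, sig / 2, 0, tau / 2⟩ := by
  ext <;> simp [toR, vg, sig, tau] <;> ring

theorem toH_vh : toH vh = icoH := by ext <;> simp [toR, vh, icoH] <;> ring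

/-- The ℤ-span of the basis. -/
def spanI : AddSubgroup ℍ[ℝ] := AddSubgroup.closure (toH '' {v | v ∈ basis})

theorem toH_fromC_mem (c : V8) : toH (fromC c) ∈ spanI := by
  have hb : ∀ v ∈ basis, toH v ∈ spanI := fun v hv => AddSubgroup.subset_closure ⟨v, hv, rfl⟩
  obtain ⟨c0, c1, c2, c3, c4, c5, c6, c7⟩ := c
  have e : toH (fromC ⟨c0, c1, c2, c3, c4, c5, c6, c7⟩) =
      c0 • toH ⟨1, 1, 0, 0, 1, 3, 0, 2⟩ + c1 • toH ⟨0, 2, 0, 0, 1, 1, 1, 3⟩ +
      c2 • toH ⟨0, 0, 1, 1, 0, 2, 1, 3⟩ + c3 • toH ⟨0, 0, 0, 2, 1, 3, 1, 1⟩ +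
      c4 • toH ⟨0, 0, 0, 0, 2, 2, 0, 0⟩ + c5 • toH ⟨0, 0, 0, 0, 0, 4, 0, 0⟩ +
      c6 • toH ⟨0, 0, 0, 0, 0, 0, 2, 2⟩ + c7 • toH ⟨0, 0, 0, 0, 0, 0, 0, 4⟩ := by
    simp only [← toH_smul, ← toH_add]
    congr 1
    simp only [fromC, smul, add, V8.mk.injEq]
    omega
  rw [e]
  repeat' refine add_mem ?_ ?_
  all_goals exact zsmul_mem (hb _ (by decide)) _

theorem toH_mem_spanI {v : V8} (h : inI v = true) : toH v ∈ spanI := by
  obtain ⟨c, rfl⟩ := exists_of_inI h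
  exact toH_fromC_mem c

theorem exists_of_mem_spanI {q : ℍ[ℝ]} (h : q ∈ spanI) : ∃ v, inI v = true ∧ toH v = q := by
  suffices ∃ c, toH (fromC c) = q by
    obtain ⟨c, hc⟩ := this
    exact ⟨_, inI_fromC c, hc⟩
  induction h using AddSubgroup.closure_induction with
  | mem x hx =>
      obtain ⟨v, hv, rfl⟩ := hx
      have : ∀ v ∈ basis, inI v = true := by decide +kernel
      obtain ⟨c, rfl⟩ := exists_of_inI (this v hv)
      exact ⟨c, rfl⟩
  | zero => exact ⟨zero, by rw [show fromC zero = zero from rfl, toH_zero]⟩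
  | add x y _ _ hx hy =>
      obtain ⟨c, rfl⟩ := hx
      obtain ⟨d, rfl⟩ := hy
      refine ⟨add c d, ?_⟩
      rw [← toH_add]; congr 1
      simp only [fromC, add, V8.mk.injEq]
      refine ⟨?_, ?_, ?_, ?_, ?_, ?_, ?_, ?_⟩ <;> first | trivial | omega
  | neg x _ hx =>
      obtain ⟨c, rfl⟩ := hx
      refine ⟨smul (-1) c, ?_⟩
      rw [show -toH (fromC c) = (-1 : ℤ) • toH (fromC c) by simp, ← toH_smul]; congr 1
      simp only [fromC, smul, V8.mk.injEq]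
      refine ⟨?_, ?_, ?_, ?_, ?_, ?_, ?_, ?_⟩ <;> first | trivial | omega

theorem basis_mul_check : ∀ x ∈ basis, ∀ y ∈ basis,
    smul 4 (mul x y) = mulP x y ∧ inI (mul x y) = true := by decide +kernel

theorem toH_quarter {x : V8} (z : V8) (h : smul 4 z = x) : (4 : ℝ)⁻¹ • toH x = toH z := by
  subst h
  ext <;> simp [toR, smul] <;> ring

theorem mul_mem_spanI {p q : ℍ[ℝ]} (hp : p ∈ spanI) (hq : q ∈ spanI) : p * q ∈ spanI := by
  induction hp, hq using AddSubgroup.closure_induction₂ with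
  | mem x y hx hy =>
      obtain ⟨v, hv, rfl⟩ := hx
      obtain ⟨w, hw, rfl⟩ := hy
      obtain ⟨h4, hI⟩ := basis_mul_check v hv w hw
      rw [toH_mulP, toH_quarter _ h4]
      exact toH_mem_spanI hI
  | zero_left x hx => simp
  | zero_right x hx => simp
  | add_left x y z _ _ _ h1 h2 => rw [add_mul]; exact add_mem h1 h2
  | add_right y z x _ _ _ h1 h2 => rw [mul_add]; exact add_mem h1 h2
  | neg_left x y _ _ h => rw [neg_mul]; exact neg_mem h
  | neg_right x y _ _ h => rw [mul_neg]; exact neg_mem h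

/-- The span of the basis as a subring. -/
def spanRing : Subring ℍ[ℝ] :=
  { spanI with
    one_mem' := toH_one ▸ toH_mem_spanI (by decide +kernel)
    mul_mem' := mul_mem_spanI }

/-- Evaluate a word in the generators. -/
def evw : List Bool → V8
  | [] => one
  | b :: w => mul (bif b then vg else vi) (evw w)

theorem toH_mul {x y : V8} (hx : inI x = true) (hy : inI y = true) :
    toH (mul x y) = toH x * toH y ∧ inI (mul x y) = true := by
  obtain ⟨z, hz, e⟩ := exists_of_mem_spanI (mul_mem_spanI (toH_mem_spanI hx) (toH_mem_spanI hy))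
  have h4 : smul 4 z = mulP x y := by
    refine toH_injective ?_
    rw [toH_mulP] at e
    rw [toH_smul, e]
    module
  have : mul x y = z := by
    rw [mul, ← h4]
    cases z
    simp [divBy, smul]
  rw [this]
  exact ⟨e, hz⟩

theorem evw_ok : ∀ w : List Bool, inI (evw w) = true ∧ toH (evw w) ∈ icosians
  | [] => ⟨by decide +kernel, by rw [evw, toH_one]; exact one_mem _⟩
  | b :: w => by
    obtain ⟨h1, h2⟩ := evw_ok w
    have hb : inI (bif b then vg else vi) = true ∧ toH (bif b then vg else vi) ∈ icosians := by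
      cases b
      · exact ⟨(by decide +kernel : inI vi = true), toH_vi ▸ Subring.subset_closure (Or.inl rfl)⟩
      · exact ⟨(by decide +kernel : inI vg = true), toH_vg ▸ Subring.subset_closure (Or.inr rfl)⟩
    obtain ⟨e, hm⟩ := toH_mul hb.1 h1
    exact ⟨hm, by rw [evw, e]; exact mul_mem hb.2 h2⟩

/-- An integer combination. -/
def comb : List ℤ → List V8 → V8
  | k :: ks, v :: vs => add (smul k v) (comb ks vs)
  | _, _ => zero

theorem basis_eq : basis = bCoef.map (fun ks => comb ks (bWords.map evw)) := by decide +kernel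

theorem comb_mem : ∀ (ks : List ℤ) (ws : List (List Bool)), toH (comb ks (ws.map evw)) ∈ icosians
  | [], _ => by simp [comb, toH_zero]
  | _ :: _, [] => by simp [comb, toH_zero]
  | k :: ks, w :: ws => by
    rw [List.map_cons, comb, toH_add, toH_smul]
    exact add_mem (zsmul_mem (evw_ok w).2 k) (comb_mem ks ws)

theorem mem_icosians {q : ℍ[ℝ]} : q ∈ icosians ↔ ∃ v, inI v = true ∧ toH v = q := by
  constructor
  · intro h
    refine exists_of_mem_spanI ?_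
    have : icosians ≤ spanRing := by
      refine Subring.closure_le.2 ?_
      rintro x (rfl | rfl)
      · exact toH_vi ▸ toH_mem_spanI (by decide +kernel)
      · exact toH_vg ▸ toH_mem_spanI (by decide +kernel)
    exact this h
  · rintro ⟨v, hv, rfl⟩
    have : spanI ≤ icosians.toAddSubgroup := by
      refine (AddSubgroup.closure_le _).2 ?_
      rintro x ⟨b, hb, rfl⟩
      rw [Set.mem_ofPred_eq, basis_eq, List.mem_map] at hb
      obtain ⟨ks, -, rfl⟩ := hb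
      exact comb_mem _ _
    exact this (toH_mem_spanI hv)

theorem toH_mem {v : V8} (h : inI v = true) : toH v ∈ icosians := mem_icosians.2 ⟨v, h, rfl⟩

theorem toH_mem_iff {v : V8} : toH v ∈ icosians ↔ inI v = true := by
  refine ⟨fun h => ?_, toH_mem⟩
  obtain ⟨w, hw, e⟩ := mem_icosians.1 h
  rwa [← toH_injective e]

theorem star_mem_icosians {q : ℍ[ℝ]} (h : q ∈ icosians) : star q ∈ icosians := by
  obtain ⟨v, hv, rfl⟩ := mem_icosians.1 h
  rw [← toH_conj]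
  refine toH_mem ?_
  obtain ⟨⟨c0, c1, c2, c3, c4, c5, c6, c7⟩, rfl⟩ := exists_of_inI hv
  simp only [inI, decide_eq_true_eq, conj, fromC, coords, V8.mk.injEq]
  refine ⟨?_, ?_, ?_, ?_, ?_, ?_, ?_, ?_⟩ <;> first | trivial | omega

theorem inI_conj {v : V8} (h : inI v = true) : inI (conj v) = true :=
  toH_mem_iff.1 (toH_conj v ▸ star_mem_icosians (toH_mem h))

theorem inI_add {x y : V8} (hx : inI x = true) (hy : inI y = true) : inI (add x y) = true :=
  toH_mem_iff.1 (toH_add x y ▸ add_mem (toH_mem hx) (toH_mem hy))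

theorem inI_sub {x y : V8} (hx : inI x = true) (hy : inI y = true) : inI (sub x y) = true :=
  toH_mem_iff.1 (toH_sub x y ▸ sub_mem (toH_mem hx) (toH_mem hy))

end Cfsg.Agent.HJ
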