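import Cfsg.Agent.Lib.HallJanko.SmallChecks

/-!
# Minimal vectors of the icosian Leech lattice
-/

set_option autoImplicit false

namespace Cfsg.Agent.HJ

open Quaternion Cfsg.Spor V8

theorem cands_length : cands.length = 37800 := by
  have h1 : candFull.length = 34560 := by
    rw [← count_full]
    simp [candFull, List.length_flatMap, Function.comp_def]
  have h2 : candPair.length = 960 := by
    rw [← count_pair]
    simp [candPair, List.length_flatMap, Function.comp_def]
  have h3 : singles.length = 120 := by decide +kernel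
  simp only [cands, List.length_append, List.length_map, h1, h2, h3]

theorem short_spec {v : V8} (h : inI v = true) (hw : wt v ≤ 32) (hv : v ≠ zero) :
    (nrm v = (4, 0) ∨ nrm v = (8, 0) ∨ nrm v = (6, 2) ∨ nrm v = (6, -2)) ∧
    v ∈ itemsAt (look buckets (code (res1 v))) (nrm v).1 (nrm v).2 (res2 v) ∧
    (nrm v = (4, 0) → mul v vh ∈ look pairBuckets (code (res2 (mul v vh)))) ∧
    (nrm v = (8, 0) → res2 (mul v vh) = zero → mul v vh ∈ singles) := by
  have := enumAll_spec short_check h hw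
  simp only [shortTest, Bool.or_eq_true, Bool.and_eq_true, decide_eq_true_eq, hv, false_or,
    List.any_eq_true, Bool.not_eq_true', decide_eq_false_iff_not, or_assoc] at this
  obtain ⟨⟨⟨h1, g, hg, ⟨⟨e1, e2⟩, e3⟩, hm⟩, h3⟩, h4⟩ := this
  refine ⟨h1, List.mem_flatMap.2 ⟨g, List.mem_filter.2 ⟨hg, by simp [e1, e2, e3]⟩, hm⟩,
    fun e => h3.resolve_left (fun k => k e), fun e e' => ?_⟩
  rcases h4 with k | k | k
  · exact absurd e k
  · exact absurd e' k
  · exact k

theorem norm_nonneg {v : V8} (h : inI v = true) : 0 ≤ (nrm v).1 := by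
  have := wt_eq h
  simp only [wt] at this
  nlinarith [mul_self_nonneg v.a0, mul_self_nonneg v.b0, mul_self_nonneg v.a1, mul_self_nonneg v.b1,
    mul_self_nonneg v.a2, mul_self_nonneg v.b2, mul_self_nonneg v.a3, mul_self_nonneg v.b3]

theorem nrm_zero : nrm zero = (0, 0) := by decide +kernel

theorem norm_four_le {v : V8} (h : inI v = true) (hv : v ≠ zero) : 4 ≤ (nrm v).1 := by
  by_cases hw : wt v ≤ 32
  · rcases (short_spec h hw hv).1 with e | e | e | e <;> rw [e] <;> norm_num
  · have := wt_eq h; omega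

theorem res_of_ideal {q a b : V8} (hq : inI q = true) (ha : inI a = true) (hb : inI b = true)
    (h : toH a - toH b ∈ leftIdeal (toH q)) (hn : toH q * star (toH q) = 2) :
    par8 (coords (mul a (conj q))) = par8 (coords (mul b (conj q))) := by
  obtain ⟨u, hu, e⟩ := h
  obtain ⟨w, hw, rfl⟩ := mem_icosians.1 hu
  have e2 : toH a * star (toH q) = toH b * star (toH q) + (2 : ℤ) • toH w := by
    have : (toH a - toH b) * star (toH q) = toH w * 2 := by rw [e, mul_assoc, hn]
    rw [sub_mul, two_comm] at this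
    rw [zsmul_eq_mul, sub_eq_iff_eq_add.1 this]
    simp [add_comm]
  rw [← toH_conj, ← (toH_mul ha (inI_conj hq)).1, ← (toH_mul hb (inI_conj hq)).1, ← toH_smul,
    ← toH_add] at e2
  have e3 := toH_injective e2
  obtain ⟨c, hc⟩ := exists_of_inI (toH_mul hb (inI_conj hq)).2
  obtain ⟨d, hd⟩ := exists_of_inI hw
  have e4 : mul a (conj q) = fromC (add c (smul 2 d)) := by
    rw [e3, hc, hd]
    simp only [add, smul, fromC, V8.mk.injEq]
    refine ⟨?_, ?_, ?_, ?_, ?_, ?_, ?_, ?_⟩ <;> first | trivial | omega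
  rw [e4, hc, coords_fromC, coords_fromC]
  simp only [par8, add, smul, V8.mk.injEq]
  refine ⟨?_, ?_, ?_, ?_, ?_, ?_, ?_, ?_⟩ <;> first | trivial | omega

theorem res1_eq {a b : V8} (ha : inI a = true) (hb : inI b = true)
    (h : toH a - toH b ∈ leftIdeal icoH) : res1 a = res1 b :=
  res_of_ideal (q := vh) (by decide +kernel) ha hb (by rw [toH_vh]; exact h)
    (by rw [toH_vh]; exact icoH_mul_star)

theorem res2_eq {a b : V8} (ha : inI a = true) (hb : inI b = true)
    (h : toH a - toH b ∈ leftIdeal (star icoH)) : res2 a = res2 b := by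
  have hc : conj (conj vh) = vh := by decide +kernel
  have := res_of_ideal (q := conj vh) (by decide +kernel) ha hb (by rw [toH_conj, toH_vh]; exact h)
    (by rw [toH_conj, toH_vh, star_star]; exact star_mul_icoH)
  rwa [hc] at this

theorem res2_add {a b : V8} (ha : inI a = true) (hb : inI b = true) :
    res2 (add a b) = par8 (add (res2 a) (res2 b)) := by
  have hh : inI vh = true := by decide +kernel
  have e : mul (add a b) vh = add (mul a vh) (mul b vh) := by
    refine toH_injective ?_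
    rw [(toH_mul (inI_add ha hb) hh).1, toH_add, toH_add, (toH_mul ha hh).1, (toH_mul hb hh).1, add_mul]
  obtain ⟨c, hc⟩ := exists_of_inI (toH_mul ha hh).2
  obtain ⟨d, hd⟩ := exists_of_inI (toH_mul hb hh).2
  have e4 : mul (add a b) vh = fromC (add c d) := by
    rw [e, hc, hd]
    simp only [add, fromC, V8.mk.injEq]
    refine ⟨?_, ?_, ?_, ?_, ?_, ?_, ?_, ?_⟩ <;> first | trivial | omega
  simp only [res2, e4, hc, hd, coords_fromC]
  simp only [par8, add, V8.mk.injEq]
  refine ⟨?_, ?_, ?_, ?_, ?_, ?_, ?_, ?_⟩ <;> first | trivial | omega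

theorem res2_neg {a : V8} (ha : inI a = true) : res2 (smul (-1) a) = res2 a := by
  refine res2_eq (toH_mem_iff.1 (toH_smul (-1) a ▸ zsmul_mem (toH_mem ha) _)) ha ?_
  refine ⟨-(toH a) * icoH, mul_mem (neg_mem (toH_mem ha)) icoH_mem, ?_⟩
  rw [mul_assoc, icoH_mul_star, toH_smul, two_comm, two_mul]
  simp [sub_eq_add_neg]

theorem full_mem {a b c : V8} (ha : inI a = true) (hb : inI b = true) (hc : inI c = true)
    (za : a ≠ zero) (zb : b ≠ zero) (zc : c ≠ zero)
    (h1 : toH a - toH b ∈ leftIdeal icoH) (h2 : toH b - toH c ∈ leftIdeal icoH)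
    (h3 : toH a + toH b + toH c ∈ leftIdeal (star icoH))
    (hn : (nrm a).1 + (nrm b).1 + (nrm c).1 = 16) (hn' : (nrm a).2 + (nrm b).2 + (nrm c).2 = 0) :
    ⟨a, b, c⟩ ∈ candFull := by
  have la := norm_four_le ha za
  have lb := norm_four_le hb zb
  have lc := norm_four_le hc zc
  obtain ⟨-, ma, -⟩ := short_spec ha (by have := wt_eq ha; omega) za
  obtain ⟨-, mb, -⟩ := short_spec hb (by have := wt_eq hb; omega) zb
  obtain ⟨-, mc, -⟩ := short_spec hc (by have := wt_eq hc; omega) zc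
  rw [← res1_eq ha hb h1] at mb
  rw [← res1_eq hb hc h2, ← res1_eq ha hb h1] at mc
  obtain ⟨ga, hga, hxa⟩ := List.mem_flatMap.1 ma
  obtain ⟨gb, hgb, hxb⟩ := List.mem_flatMap.1 mb
  simp only [List.mem_filter, Bool.and_eq_true, decide_eq_true_eq] at hga hgb
  obtain ⟨hga, ⟨a0, a1⟩, ap⟩ := hga
  obtain ⟨hgb, ⟨b0, b1⟩, bp⟩ := hgb
  have hbk : (code (res1 a), look buckets (code (res1 a))) ∈ buckets := look_mem hga
  refine List.mem_flatMap.2 ⟨_, hbk, List.mem_flatMap.2 ⟨ga, hga, List.mem_flatMap.2 ⟨gb, hgb,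
    List.mem_flatMap.2 ⟨a, hxa, List.mem_flatMap.2 ⟨b, hxb, List.mem_map.2 ⟨c, ?_, rfl⟩⟩⟩⟩⟩⟩
  have hp : par8 (add (res2 a) (res2 b)) = res2 c := by
    rw [← res2_add ha hb, ← res2_neg hc]
    refine res2_eq (inI_add ha hb) (toH_mem_iff.1 (toH_smul (-1) c ▸ zsmul_mem (toH_mem hc) _)) ?_
    rw [toH_smul, toH_add]
    simpa using h3
  rw [thirdOf, a0, a1, b0, b1, ap, bp, hp, show 16 - (nrm a).1 - (nrm b).1 = (nrm c).1 by omega,
    show -(nrm a).2 - (nrm b).2 = (nrm c).2 by omega]
  exact mc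

theorem eq_mul_h {a : V8} (h : toH a ∈ leftIdeal icoH) :
    ∃ p, inI p = true ∧ mul p vh = a ∧ (nrm a).1 = 2 * (nrm p).1 ∧ (nrm a).2 = 2 * (nrm p).2 := by
  obtain ⟨u, hu, e⟩ := h
  obtain ⟨p, hp, rfl⟩ := mem_icosians.1 hu
  have hh : inI vh = true := by decide +kernel
  obtain ⟨e1, hI⟩ := toH_mul hp hh
  have hm : mul p vh = a := toH_injective (by rw [e1, toH_vh, e])
  subst hm
  have := normSq_toH hI
  rw [e1, map_mul, normSq_toH hp, toH_vh, normSq_icoH] at this
  have h2 : toR (nrm (mul p vh)).1 (nrm (mul p vh)).2 = toR (2 * (nrm p).1) (2 * (nrm p).2) := by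
    rw [← this]; simp [toR]; ring
  exact ⟨p, hp, rfl, (toR_inj h2).1, (toR_inj h2).2⟩

theorem pair_mem {a b : V8} (ha : inI a = true) (hb : inI b = true)
    (h1 : toH a ∈ leftIdeal icoH) (h2 : toH b ∈ leftIdeal icoH)
    (h3 : toH a + toH b ∈ leftIdeal (star icoH))
    (hn : (nrm a).1 + (nrm b).1 = 16) (hn' : (nrm a).2 + (nrm b).2 = 0) :
    (b = zero ∧ a ∈ singles) ∨ (a = zero ∧ b ∈ singles) ∨ (a, b) ∈ candPair := by
  obtain ⟨p, hp, ep, p1, p2⟩ := eq_mul_h h1
  obtain ⟨q, hq, eq', q1, q2⟩ := eq_mul_h h2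
  have hp0 := norm_nonneg hp
  have hq0 := norm_nonneg hq
  have hs : res2 a = res2 b := by
    rw [← res2_neg hb]
    refine res2_eq ha (toH_mem_iff.1 (toH_smul (-1) b ▸ zsmul_mem (toH_mem hb) _)) ?_
    rw [toH_smul]
    simpa using h3
  have hz : res2 zero = zero := by decide +kernel
  have hzm : mul zero vh = zero := by decide +kernel
  rcases eq_or_ne q zero with rfl | zq
  · rw [hzm] at eq'
    subst eq'
    rw [hz] at hs
    rw [nrm_zero] at hn hn' q1 q2
    have e1 : nrm p = (8, 0) := Prod.ext (by simp at hn ⊢; omega) (by simp at hn' ⊢; omega)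
    have zp : p ≠ zero := fun e => by rw [e, nrm_zero] at e1; exact absurd e1 (by decide)
    have := (short_spec hp (by have := wt_eq hp; rw [e1] at this; simp at this; omega) zp).2.2.2 e1
    rw [ep] at this
    exact Or.inl ⟨rfl, this hs⟩
  rcases eq_or_ne p zero with rfl | zp
  · rw [hzm] at ep
    subst ep
    rw [hz] at hs
    rw [nrm_zero] at hn hn' p1 p2
    have e1 : nrm q = (8, 0) := Prod.ext (by simp at hn ⊢; omega) (by simp at hn' ⊢; omega)
    have := (short_spec hq (by have := wt_eq hq; rw [e1] at this; simp at this; omega) zq).2.2.2 e1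
    rw [eq'] at this
    exact Or.inr (Or.inl ⟨rfl, this hs.symm⟩)
  have lp := norm_four_le hp zp
  have lq := norm_four_le hq zq
  obtain ⟨cp, -, kp, -⟩ := short_spec hp (by have := wt_eq hp; omega) zp
  obtain ⟨-, -, kq, -⟩ := short_spec hq (by have := wt_eq hq; omega) zq
  have e1 : nrm p = (4, 0) := by
    rcases cp with e | e | e | e
    · exact e
    all_goals (rw [e] at p1; simp at p1; omega)
  have e2 : nrm q = (4, 0) := Prod.ext (by simp [e1] at p1 ⊢; omega) (by simp [e1] at p2 ⊢; omega)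
  have ma := kp e1
  have mb := kq e2
  rw [ep] at ma
  rw [eq', ← hs] at mb
  exact Or.inr (Or.inr (List.mem_flatMap.2 ⟨_, look_mem ma,
    List.mem_flatMap.2 ⟨a, ma, List.mem_map.2 ⟨b, mb, rfl⟩⟩⟩))

theorem toV_injective : Function.Injective toV := by
  intro u v h
  have h0 := toH_injective (congrFun h 0)
  have h1 := toH_injective (congrFun h 1)
  have h2 := toH_injective (congrFun h 2)
  cases u; cases v; simp_all

/-- Every minimal vector is among the candidates. -/
theorem good_mem_cands {r : HV} (h : Good r) : ∃ v ∈ cands, toV v = r := by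
  obtain ⟨⟨hI, h1, h2, h3⟩, h4⟩ := h
  obtain ⟨a, ha, ea⟩ := mem_icosians.1 (hI 0)
  obtain ⟨b, hb, eb⟩ := mem_icosians.1 (hI 1)
  obtain ⟨c, hc, ec⟩ := mem_icosians.1 (hI 2)
  refine ⟨⟨a, b, c⟩, ?_, ?_⟩
  swap
  · funext t; fin_cases t <;> simp [toV, ea, eb, ec]
  rw [← ea, ← eb] at h1
  rw [← eb, ← ec] at h2
  rw [← ea, ← eb, ← ec] at h3
  rw [qip, Fin.sum_univ_three, ← ea, ← eb, ← ec] at h4
  simp only [Quaternion.self_mul_star, normSq_toH ha, normSq_toH hb, normSq_toH hc] at h4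
  have h4' := congrArg (fun q : ℍ[ℝ] => q.re) h4
  simp only [Quaternion.re_add, Quaternion.re_coe] at h4'
  have hs : toR ((nrm a).1 + (nrm b).1 + (nrm c).1) ((nrm a).2 + (nrm b).2 + (nrm c).2) = toR 16 0 := by
    have e4 : (4 : ℍ[ℝ]).re = 4 := by rw [four_real]; rfl
    rw [e4] at h4'
    simp [toR] at h4' ⊢
    linarith
  obtain ⟨hn, hn'⟩ := toR_inj hs
  simp only [cands, List.mem_append, List.mem_map, V3.mk.injEq]
  have hsub : ∀ {u v : ℍ[ℝ]}, u - v ∈ leftIdeal icoH → v ∈ leftIdeal icoH → u ∈ leftIdeal icoH :=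
    fun {u v} p q => by simpa using leftIdeal_add p q
  have hneg : ∀ {v : ℍ[ℝ]}, -v ∈ leftIdeal icoH → v ∈ leftIdeal icoH := fun {v} p => by
    simpa using leftIdeal_mul (neg_mem (one_mem icosians)) p
  rcases eq_or_ne c zero with rfl | zc
  · have yb : toH b ∈ leftIdeal icoH := by simpa [toH_zero] using h2
    rw [nrm_zero] at hn hn'
    rw [toH_zero, add_zero] at h3
    rcases pair_mem ha hb (hsub h1 yb) yb h3 (by simpa using hn) (by simpa using hn')
      with ⟨e, m⟩ | ⟨e, m⟩ | m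
    · exact Or.inl (Or.inl (Or.inr ⟨a, m, rfl, e.symm, rfl⟩))
    · exact Or.inl (Or.inr ⟨b, m, e.symm, rfl, rfl⟩)
    · exact Or.inl (Or.inl (Or.inl (Or.inl (Or.inl (Or.inr ⟨(a, b), m, rfl, rfl, rfl⟩)))))
  rcases eq_or_ne b zero with rfl | zb
  · have xa : toH a ∈ leftIdeal icoH := by simpa [toH_zero] using h1
    have xc : toH c ∈ leftIdeal icoH := hneg (by simpa [toH_zero] using h2)
    rw [nrm_zero] at hn hn'
    rw [toH_zero, add_zero] at h3
    rcases pair_mem ha hc xa xc h3 (by simpa using hn) (by simpa using hn')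
      with ⟨e, m⟩ | ⟨e, m⟩ | m
    · exact absurd e zc
    · exact Or.inr ⟨c, m, e.symm, rfl, rfl⟩
    · exact Or.inl (Or.inl (Or.inl (Or.inl (Or.inr ⟨(a, c), m, rfl, rfl, rfl⟩))))
  rcases eq_or_ne a zero with rfl | za
  · have xb : toH b ∈ leftIdeal icoH := hneg (by simpa [toH_zero] using h1)
    have xb' : -toH b ∈ leftIdeal icoH := by simpa using leftIdeal_mul (neg_mem (one_mem icosians)) xb
    have xc : toH c ∈ leftIdeal icoH := hneg (hsub (v := -toH b) (by rwa [neg_sub_neg]) xb')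
    rw [nrm_zero] at hn hn'
    rw [toH_zero, zero_add] at h3
    rcases pair_mem hb hc xb xc h3 (by simpa using hn) (by simpa using hn')
      with ⟨e, m⟩ | ⟨e, m⟩ | m
    · exact absurd e zc
    · exact absurd e zb
    · exact Or.inl (Or.inl (Or.inl (Or.inr ⟨(b, c), m, rfl, rfl, rfl⟩)))
  exact Or.inl (Or.inl (Or.inl (Or.inl (Or.inl (Or.inl
    (full_mem ha hb hc za zb zc h1 h2 h3 hn hn'))))))

theorem minimal_finite_card : {r : HV | Good r}.Finite ∧ {r : HV | Good r}.ncard ≤ 37800 := by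
  classical
  have hsub : {r : HV | Good r} ⊆ ↑(cands.map toV).toFinset := by
    intro r hr
    obtain ⟨v, hv, e⟩ := good_mem_cands hr
    simpa using ⟨v, hv, e⟩
  refine ⟨(Finset.finite_toSet _).subset hsub, (Set.ncard_le_ncard hsub (Finset.finite_toSet _)).trans ?_⟩
  rw [Set.ncard_coe_finset, ← cands_length]
  exact (List.toFinset_card_le _).trans (List.length_map _).le

end Cfsg.Agent.HJ
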