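import Cfsg.Agent.Lib.HallJanko.SmallDefs

/-! Kernel checks on short icosians. -/

set_option autoImplicit false

namespace Cfsg.Agent.HJ

open V8

theorem count_full : (buckets.map fun k => (k.2.map fun a => (k.2.map fun b =>
    a.items.length * (b.items.length * (thirdOf k.2 a b).length)).sum).sum).sum = 34560 := by
  decide +kernel

theorem count_pair : (pairBuckets.map fun b => b.2.length * b.2.length).sum = 960 := by
  decide +kernel

theorem short_check : enumAll shortTest = true := by decide +kernel

end Cfsg.Agent.HJ
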