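import Cfsg.Agent.Lib.HallJanko.Ring

/-! Short icosians sorted by residues. -/

set_option autoImplicit false

namespace Cfsg.Agent.HJ

/-- Short icosians with the same norm and residues. -/
structure Grp where
  n0 : ℤ
  n1 : ℤ
  par : V8
  items : List V8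

/-- Bucket 0. -/
def bk0 : List Grp := [
  ⟨8,0,⟨0,1,0,1,1,0,0,0⟩,[⟨-2,0,-2,0,-2,0,0,2⟩, ⟨-2,0,0,2,2,0,2,0⟩, ⟨-2,0,2,0,0,-2,-2,0⟩, ⟨0,-2,-2,0,2,0,-2,0⟩, ⟨0,2,2,0,-2,0,2,0⟩, ⟨2,0,-2,0,0,2,2,0⟩, ⟨2,0,0,-2,-2,0,-2,0⟩, ⟨2,0,2,0,2,0,0,-2⟩]⟩,
  ⟨8,0,⟨1,1,1,1,0,1,0,0⟩,[⟨-3,-1,1,-1,1,-1,1,-1⟩, ⟨-1,1,-3,-1,1,-1,-1,1⟩, ⟨-1,1,-1,1,-3,-1,1,-1⟩, ⟨-1,1,1,-1,-1,1,-3,-1⟩, ⟨1,-1,-1,1,1,-1,3,1⟩, ⟨1,-1,1,-1,3,1,-1,1⟩, ⟨1,-1,3,1,-1,1,1,-1⟩, ⟨3,1,-1,1,-1,1,-1,1⟩]⟩,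
  ⟨8,0,⟨1,0,1,0,1,1,0,0⟩,[⟨-3,1,1,1,1,1,-1,-1⟩, ⟨-1,-1,-3,1,-1,-1,-1,-1⟩, ⟨-1,-1,-1,-1,1,1,3,-1⟩, ⟨-1,-1,1,1,-3,1,1,1⟩, ⟨1,1,-1,-1,3,-1,-1,-1⟩, ⟨1,1,1,1,-1,-1,-3,1⟩, ⟨1,1,3,-1,1,1,1,1⟩, ⟨3,-1,-1,-1,-1,-1,1,1⟩]⟩,
  ⟨8,0,⟨0,1,0,1,0,0,1,0⟩,[⟨-2,0,-2,0,0,2,-2,0⟩, ⟨-2,0,0,-2,-2,0,2,0⟩, ⟨-2,0,2,0,2,0,0,2⟩, ⟨0,-2,2,0,-2,0,-2,0⟩, ⟨0,2,-2,0,2,0,2,0⟩, ⟨2,0,-2,0,-2,0,0,-2⟩, ⟨2,0,0,2,2,0,-2,0⟩, ⟨2,0,2,0,0,-2,2,0⟩]⟩,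
  ⟨8,0,⟨0,0,0,0,1,0,1,0⟩,[⟨-4,0,0,0,0,0,-4,0⟩, ⟨-4,0,0,0,0,0,4,0⟩, ⟨0,0,-4,0,-4,0,0,0⟩, ⟨0,0,-4,0,4,0,0,0⟩, ⟨0,0,4,0,-4,0,0,0⟩, ⟨0,0,4,0,4,0,0,0⟩, ⟨4,0,0,0,0,0,-4,0⟩, ⟨4,0,0,0,0,0,4,0⟩]⟩,
  ⟨8,0,⟨1,0,1,0,0,1,1,0⟩,[⟨-3,1,1,1,-1,-1,1,1⟩, ⟨-1,-1,-3,1,1,1,1,1⟩, ⟨-1,-1,-1,-1,-1,-1,-3,1⟩, ⟨-1,-1,1,1,3,-1,-1,-1⟩, ⟨1,1,-1,-1,-3,1,1,1⟩, ⟨1,1,1,1,1,1,3,-1⟩, ⟨1,1,3,-1,-1,-1,-1,-1⟩, ⟨3,-1,-1,-1,1,1,-1,-1⟩]⟩,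
  ⟨8,0,⟨1,1,1,1,1,1,1,0⟩,[⟨-3,-1,-1,1,1,-1,-1,1⟩, ⟨-1,1,-1,1,-1,1,3,1⟩, ⟨-1,1,1,-1,-3,-1,-1,1⟩, ⟨-1,1,3,1,1,-1,1,-1⟩, ⟨1,-1,-3,-1,-1,1,-1,1⟩, ⟨1,-1,-1,1,3,1,1,-1⟩, ⟨1,-1,1,-1,1,-1,-3,-1⟩, ⟨3,1,1,-1,-1,1,1,-1⟩]⟩,
  ⟨8,0,⟨1,1,1,1,0,0,0,1⟩,[⟨-3,-1,-1,1,-1,1,1,-1⟩, ⟨-1,1,-1,1,1,-1,-3,-1⟩, ⟨-1,1,1,-1,3,1,1,-1⟩, ⟨-1,1,3,1,-1,1,-1,1⟩, ⟨1,-1,-3,-1,1,-1,1,-1⟩, ⟨1,-1,-1,1,-3,-1,-1,1⟩, ⟨1,-1,1,-1,-1,1,3,1⟩, ⟨3,1,1,-1,1,-1,-1,1⟩]⟩,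
  ⟨8,0,⟨1,0,1,0,1,0,0,1⟩,[⟨-3,1,-1,-1,1,1,1,1⟩, ⟨-1,-1,-1,-1,-3,1,-1,-1⟩, ⟨-1,-1,1,1,1,1,-3,1⟩, ⟨-1,-1,3,-1,-1,-1,1,1⟩, ⟨1,1,-3,1,1,1,-1,-1⟩, ⟨1,1,-1,-1,-1,-1,3,-1⟩, ⟨1,1,1,1,3,-1,1,1⟩, ⟨3,-1,1,1,-1,-1,-1,-1⟩]⟩,
  ⟨8,0,⟨0,0,0,0,0,1,0,1⟩,[⟨-4,0,-4,0,0,0,0,0⟩, ⟨-4,0,4,0,0,0,0,0⟩, ⟨0,0,0,0,-4,0,-4,0⟩, ⟨0,0,0,0,-4,0,4,0⟩, ⟨0,0,0,0,4,0,-4,0⟩, ⟨0,0,0,0,4,0,4,0⟩, ⟨4,0,-4,0,0,0,0,0⟩, ⟨4,0,4,0,0,0,0,0⟩]⟩,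
  ⟨8,0,⟨0,1,0,1,1,1,0,1⟩,[⟨-2,0,-2,0,2,0,0,-2⟩, ⟨-2,0,0,2,-2,0,-2,0⟩, ⟨-2,0,2,0,0,2,2,0⟩, ⟨0,-2,-2,0,-2,0,2,0⟩, ⟨0,2,2,0,2,0,-2,0⟩, ⟨2,0,-2,0,0,-2,-2,0⟩, ⟨2,0,0,-2,2,0,2,0⟩, ⟨2,0,2,0,-2,0,0,2⟩]⟩,
  ⟨8,0,⟨1,0,1,0,0,0,1,1⟩,[⟨-3,1,-1,-1,-1,-1,-1,-1⟩, ⟨-1,-1,-1,-1,3,-1,1,1⟩, ⟨-1,-1,1,1,-1,-1,3,-1⟩, ⟨-1,-1,3,-1,1,1,-1,-1⟩, ⟨1,1,-3,1,-1,-1,1,1⟩, ⟨1,1,-1,-1,1,1,-3,1⟩, ⟨1,1,1,1,-3,1,-1,-1⟩, ⟨3,-1,1,1,1,1,1,1⟩]⟩,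
  ⟨8,0,⟨1,1,1,1,1,0,1,1⟩,[⟨-3,-1,1,-1,-1,1,-1,1⟩, ⟨-1,1,-3,-1,-1,1,1,-1⟩, ⟨-1,1,-1,1,3,1,-1,1⟩, ⟨-1,1,1,-1,1,-1,3,1⟩, ⟨1,-1,-1,1,-1,1,-3,-1⟩, ⟨1,-1,1,-1,-3,-1,1,-1⟩, ⟨1,-1,3,1,1,-1,-1,1⟩, ⟨3,1,-1,1,1,-1,1,-1⟩]⟩,
  ⟨8,0,⟨0,1,0,1,0,1,1,1⟩,[⟨-2,0,-2,0,0,-2,2,0⟩, ⟨-2,0,0,-2,2,0,-2,0⟩, ⟨-2,0,2,0,-2,0,0,-2⟩, ⟨0,-2,2,0,2,0,2,0⟩, ⟨0,2,-2,0,-2,0,-2,0⟩, ⟨2,0,-2,0,2,0,0,2⟩, ⟨2,0,0,2,-2,0,2,0⟩, ⟨2,0,2,0,0,2,-2,0⟩]⟩,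
  ⟨8,0,⟨0,0,0,0,1,1,1,1⟩,[⟨-4,0,0,0,-4,0,0,0⟩, ⟨-4,0,0,0,4,0,0,0⟩, ⟨0,0,-4,0,0,0,-4,0⟩, ⟨0,0,-4,0,0,0,4,0⟩, ⟨0,0,4,0,0,0,-4,0⟩, ⟨0,0,4,0,0,0,4,0⟩, ⟨4,0,0,0,-4,0,0,0⟩, ⟨4,0,0,0,4,0,0,0⟩]⟩]

/-- Bucket 1. -/
def bk1 : List Grp := [
  ⟨6,-2,⟨0,1,0,1,1,0,0,0⟩,[⟨-2,0,-3,1,-1,1,0,0⟩, ⟨2,0,3,-1,1,-1,0,0⟩]⟩,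
  ⟨6,-2,⟨1,0,1,0,1,1,0,0⟩,[⟨-3,1,2,0,0,0,-1,1⟩, ⟨3,-1,-2,0,0,0,1,-1⟩]⟩,
  ⟨6,-2,⟨1,1,1,1,1,0,1,1⟩,[⟨-1,1,0,0,2,0,3,-1⟩, ⟨1,-1,0,0,-2,0,-3,1⟩]⟩,
  ⟨6,-2,⟨0,0,0,0,1,1,1,1⟩,[⟨0,0,-1,1,3,-1,-2,0⟩, ⟨0,0,1,-1,-3,1,2,0⟩]⟩,
  ⟨4,0,⟨0,0,0,0,1,0,1,0⟩,[⟨0,0,-1,1,-1,-1,2,0⟩, ⟨0,0,1,-1,1,1,-2,0⟩]⟩,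
  ⟨4,0,⟨1,1,1,1,1,1,1,0⟩,[⟨-1,1,0,0,-2,0,-1,-1⟩, ⟨1,-1,0,0,2,0,1,1⟩]⟩,
  ⟨4,0,⟨1,0,1,0,1,0,0,1⟩,[⟨-1,-1,2,0,0,0,1,-1⟩, ⟨1,1,-2,0,0,0,-1,1⟩]⟩,
  ⟨4,0,⟨0,1,0,1,1,1,0,1⟩,[⟨-2,0,-1,-1,1,-1,0,0⟩, ⟨2,0,1,1,-1,1,0,0⟩]⟩,
  ⟨8,0,⟨0,0,0,0,0,0,0,0⟩,[⟨-4,0,-1,1,-1,-1,-2,0⟩, ⟨-4,0,1,-1,1,1,2,0⟩, ⟨0,0,-3,-1,-3,1,-2,0⟩, ⟨0,0,-1,1,1,1,0,-2⟩, ⟨0,0,1,-1,-1,-1,0,2⟩, ⟨0,0,3,1,3,-1,2,0⟩, ⟨4,0,-1,1,-1,-1,-2,0⟩, ⟨4,0,1,-1,1,1,2,0⟩]⟩,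
  ⟨8,0,⟨1,1,1,1,0,1,0,0⟩,[⟨-3,-1,0,0,2,0,-3,1⟩, ⟨-1,1,-4,0,2,0,-1,-1⟩, ⟨-1,1,0,0,0,2,1,1⟩, ⟨-1,1,4,0,2,0,-1,-1⟩, ⟨1,-1,-4,0,-2,0,1,1⟩, ⟨1,-1,0,0,0,-2,-1,-1⟩, ⟨1,-1,4,0,-2,0,1,1⟩, ⟨3,1,0,0,-2,0,3,-1⟩]⟩,
  ⟨8,0,⟨1,0,1,0,0,0,1,1⟩,[⟨-3,1,-2,0,0,0,3,1⟩, ⟨-1,-1,-2,0,-4,0,1,-1⟩, ⟨-1,-1,-2,0,4,0,1,-1⟩, ⟨-1,-1,0,2,0,0,-1,1⟩, ⟨1,1,0,-2,0,0,1,-1⟩, ⟨1,1,2,0,-4,0,-1,1⟩, ⟨1,1,2,0,4,0,-1,1⟩, ⟨3,-1,2,0,0,0,-3,-1⟩]⟩,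
  ⟨8,0,⟨0,1,0,1,0,1,1,1⟩,[⟨-2,0,1,1,-1,1,-4,0⟩, ⟨-2,0,1,1,-1,1,4,0⟩, ⟨-2,0,3,-1,-3,-1,0,0⟩, ⟨0,-2,-1,-1,-1,1,0,0⟩, ⟨0,2,1,1,1,-1,0,0⟩, ⟨2,0,-3,1,3,1,0,0⟩, ⟨2,0,-1,-1,1,-1,-4,0⟩, ⟨2,0,-1,-1,1,-1,4,0⟩]⟩,
  ⟨6,2,⟨0,1,0,1,0,0,1,0⟩,[⟨-2,0,1,1,3,1,0,0⟩, ⟨2,0,-1,-1,-3,-1,0,0⟩]⟩,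
  ⟨6,2,⟨1,0,1,0,0,1,1,0⟩,[⟨-1,-1,-2,0,0,0,-3,-1⟩, ⟨1,1,2,0,0,0,3,1⟩]⟩,
  ⟨6,2,⟨1,1,1,1,0,0,0,1⟩,[⟨-3,-1,0,0,-2,0,1,1⟩, ⟨3,1,0,0,2,0,-1,-1⟩]⟩,
  ⟨6,2,⟨0,0,0,0,0,1,0,1⟩,[⟨0,0,-3,-1,1,1,2,0⟩, ⟨0,0,3,1,-1,-1,-2,0⟩]⟩]

/-- Bucket 2. -/
def bk2 : List Grp := [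
  ⟨6,-2,⟨1,0,1,0,1,1,0,0⟩,[⟨0,0,-3,1,-2,0,-1,1⟩, ⟨0,0,3,-1,2,0,1,-1⟩]⟩,
  ⟨6,-2,⟨1,1,1,1,1,1,1,0⟩,[⟨-2,0,-1,1,0,0,3,-1⟩, ⟨2,0,1,-1,0,0,-3,1⟩]⟩,
  ⟨6,-2,⟨0,0,0,0,0,1,0,1⟩,[⟨-3,1,0,0,1,-1,-2,0⟩, ⟨3,-1,0,0,-1,1,2,0⟩]⟩,
  ⟨6,-2,⟨0,1,0,1,0,1,1,1⟩,[⟨-1,1,2,0,-3,1,0,0⟩, ⟨1,-1,-2,0,3,-1,0,0⟩]⟩,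
  ⟨4,0,⟨1,1,1,1,0,1,0,0⟩,[⟨-2,0,1,-1,0,0,1,1⟩, ⟨2,0,-1,1,0,0,-1,-1⟩]⟩,
  ⟨4,0,⟨1,0,1,0,0,1,1,0⟩,[⟨0,0,-1,-1,-2,0,1,-1⟩, ⟨0,0,1,1,2,0,-1,1⟩]⟩,
  ⟨4,0,⟨0,1,0,1,1,1,0,1⟩,[⟨-1,1,-2,0,1,1,0,0⟩, ⟨1,-1,2,0,-1,-1,0,0⟩]⟩,
  ⟨4,0,⟨0,0,0,0,1,1,1,1⟩,[⟨-1,-1,0,0,-1,1,-2,0⟩, ⟨1,1,0,0,1,-1,2,0⟩]⟩,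
  ⟨8,0,⟨0,0,0,0,0,0,0,0⟩,[⟨-3,1,0,0,-3,-1,2,0⟩, ⟨-1,-1,-4,0,-1,1,2,0⟩, ⟨-1,-1,0,0,1,-1,0,-2⟩, ⟨-1,-1,4,0,-1,1,2,0⟩, ⟨1,1,-4,0,1,-1,-2,0⟩, ⟨1,1,0,0,-1,1,0,2⟩, ⟨1,1,4,0,1,-1,-2,0⟩, ⟨3,-1,0,0,3,1,-2,0⟩]⟩,
  ⟨8,0,⟨0,1,0,1,0,0,1,0⟩,[⟨-3,-1,2,0,3,-1,0,0⟩, ⟨-1,1,0,2,-1,-1,0,0⟩, ⟨-1,1,2,0,1,1,-4,0⟩, ⟨-1,1,2,0,1,1,4,0⟩, ⟨1,-1,-2,0,-1,-1,-4,0⟩, ⟨1,-1,-2,0,-1,-1,4,0⟩, ⟨1,-1,0,-2,1,1,0,0⟩, ⟨3,1,-2,0,-3,1,0,0⟩]⟩,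
  ⟨8,0,⟨1,0,1,0,1,0,0,1⟩,[⟨-4,0,-1,-1,2,0,1,-1⟩, ⟨-4,0,1,1,-2,0,-1,1⟩, ⟨0,0,-3,1,2,0,3,1⟩, ⟨0,0,-1,-1,0,-2,-1,1⟩, ⟨0,0,1,1,0,2,1,-1⟩, ⟨0,0,3,-1,-2,0,-3,-1⟩, ⟨4,0,-1,-1,2,0,1,-1⟩, ⟨4,0,1,1,-2,0,-1,1⟩]⟩,
  ⟨8,0,⟨1,1,1,1,1,0,1,1⟩,[⟨-2,0,-3,-1,0,0,-3,1⟩, ⟨-2,0,-1,1,-4,0,-1,-1⟩, ⟨-2,0,-1,1,4,0,-1,-1⟩, ⟨0,-2,-1,1,0,0,1,1⟩, ⟨0,2,1,-1,0,0,-1,-1⟩, ⟨2,0,1,-1,-4,0,1,1⟩, ⟨2,0,1,-1,4,0,1,1⟩, ⟨2,0,3,1,0,0,3,-1⟩]⟩,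
  ⟨6,2,⟨0,1,0,1,1,0,0,0⟩,[⟨-3,-1,-2,0,-1,-1,0,0⟩, ⟨3,1,2,0,1,1,0,0⟩]⟩,
  ⟨6,2,⟨0,0,0,0,1,0,1,0⟩,[⟨-1,-1,0,0,3,1,2,0⟩, ⟨1,1,0,0,-3,-1,-2,0⟩]⟩,
  ⟨6,2,⟨1,1,1,1,0,0,0,1⟩,[⟨-2,0,3,1,0,0,-1,-1⟩, ⟨2,0,-3,-1,0,0,1,1⟩]⟩,
  ⟨6,2,⟨1,0,1,0,0,0,1,1⟩,[⟨0,0,-1,-1,2,0,-3,-1⟩, ⟨0,0,1,1,-2,0,3,1⟩]⟩]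

/-- Bucket 3. -/
def bk3 : List Grp := [
  ⟨6,-2,⟨0,0,0,0,1,0,1,0⟩,[⟨-3,1,1,-1,-2,0,0,0⟩, ⟨3,-1,-1,1,2,0,0,0⟩]⟩,
  ⟨6,-2,⟨1,0,1,0,0,1,1,0⟩,[⟨0,0,-2,0,-1,1,-3,1⟩, ⟨0,0,2,0,1,-1,3,-1⟩]⟩,
  ⟨6,-2,⟨1,1,1,1,1,0,1,1⟩,[⟨-2,0,0,0,3,-1,-1,1⟩, ⟨2,0,0,0,-3,1,1,-1⟩]⟩,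
  ⟨6,-2,⟨0,1,0,1,0,1,1,1⟩,[⟨-1,1,-3,1,0,0,2,0⟩, ⟨1,-1,3,-1,0,0,-2,0⟩]⟩,
  ⟨4,0,⟨0,1,0,1,1,0,0,0⟩,[⟨-1,1,1,1,0,0,-2,0⟩, ⟨1,-1,-1,-1,0,0,2,0⟩]⟩,
  ⟨4,0,⟨1,1,1,1,0,1,0,0⟩,[⟨-2,0,0,0,1,1,1,-1⟩, ⟨2,0,0,0,-1,-1,-1,1⟩]⟩,
  ⟨4,0,⟨1,0,1,0,1,0,0,1⟩,[⟨0,0,-2,0,1,-1,-1,-1⟩, ⟨0,0,2,0,-1,1,1,1⟩]⟩,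
  ⟨4,0,⟨0,0,0,0,0,1,0,1⟩,[⟨-1,-1,-1,1,-2,0,0,0⟩, ⟨1,1,1,-1,2,0,0,0⟩]⟩,
  ⟨8,0,⟨0,0,0,0,0,0,0,0⟩,[⟨-3,1,-3,-1,2,0,0,0⟩, ⟨-1,-1,-1,1,2,0,-4,0⟩, ⟨-1,-1,-1,1,2,0,4,0⟩, ⟨-1,-1,1,-1,0,-2,0,0⟩, ⟨1,1,-1,1,0,2,0,0⟩, ⟨1,1,1,-1,-2,0,-4,0⟩, ⟨1,1,1,-1,-2,0,4,0⟩, ⟨3,-1,3,1,-2,0,0,0⟩]⟩,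
  ⟨8,0,⟨1,0,1,0,1,1,0,0⟩,[⟨-4,0,-2,0,-1,1,1,1⟩, ⟨-4,0,2,0,1,-1,-1,-1⟩, ⟨0,0,-2,0,-3,-1,3,-1⟩, ⟨0,0,0,-2,-1,1,-1,-1⟩, ⟨0,0,0,2,1,-1,1,1⟩, ⟨0,0,2,0,3,1,-3,1⟩, ⟨4,0,-2,0,-1,1,1,1⟩, ⟨4,0,2,0,1,-1,-1,-1⟩]⟩,
  ⟨8,0,⟨1,1,1,1,0,0,0,1⟩,[⟨-2,0,-4,0,-1,-1,-1,1⟩, ⟨-2,0,0,0,-3,1,-3,-1⟩, ⟨-2,0,4,0,-1,-1,-1,1⟩, ⟨0,-2,0,0,1,1,-1,1⟩, ⟨0,2,0,0,-1,-1,1,-1⟩, ⟨2,0,-4,0,1,1,1,-1⟩, ⟨2,0,0,0,3,-1,3,1⟩, ⟨2,0,4,0,1,1,1,-1⟩]⟩,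
  ⟨8,0,⟨0,1,0,1,1,1,0,1⟩,[⟨-3,-1,3,-1,0,0,2,0⟩, ⟨-1,1,-1,-1,0,0,0,2⟩, ⟨-1,1,1,1,-4,0,2,0⟩, ⟨-1,1,1,1,4,0,2,0⟩, ⟨1,-1,-1,-1,-4,0,-2,0⟩, ⟨1,-1,-1,-1,4,0,-2,0⟩, ⟨1,-1,1,1,0,0,0,-2⟩, ⟨3,1,-3,1,0,0,-2,0⟩]⟩,
  ⟨6,2,⟨0,1,0,1,0,0,1,0⟩,[⟨-3,-1,-1,-1,0,0,-2,0⟩, ⟨3,1,1,1,0,0,2,0⟩]⟩,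
  ⟨6,2,⟨1,1,1,1,1,1,1,0⟩,[⟨-2,0,0,0,-1,-1,3,1⟩, ⟨2,0,0,0,1,1,-3,-1⟩]⟩,
  ⟨6,2,⟨1,0,1,0,0,0,1,1⟩,[⟨0,0,-2,0,3,1,1,1⟩, ⟨0,0,2,0,-3,-1,-1,-1⟩]⟩,
  ⟨6,2,⟨0,0,0,0,1,1,1,1⟩,[⟨-1,-1,3,1,2,0,0,0⟩, ⟨1,1,-3,-1,-2,0,0,0⟩]⟩]

/-- Bucket 4. -/
def bk4 : List Grp := [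
  ⟨6,-2,⟨1,1,1,1,0,1,0,0⟩,[⟨0,0,-2,0,1,-1,3,-1⟩, ⟨0,0,2,0,-1,1,-3,1⟩]⟩,
  ⟨6,-2,⟨1,0,1,0,1,1,0,0⟩,[⟨-2,0,0,0,-3,1,1,-1⟩, ⟨2,0,0,0,3,-1,-1,1⟩]⟩,
  ⟨6,-2,⟨0,1,0,1,0,0,1,0⟩,[⟨-3,1,1,-1,2,0,0,0⟩, ⟨3,-1,-1,1,-2,0,0,0⟩]⟩,
  ⟨6,-2,⟨0,0,0,0,1,0,1,0⟩,[⟨-1,1,-3,1,0,0,-2,0⟩, ⟨1,-1,3,-1,0,0,2,0⟩]⟩,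
  ⟨4,0,⟨0,0,0,0,0,1,0,1⟩,[⟨-1,1,1,1,0,0,2,0⟩, ⟨1,-1,-1,-1,0,0,-2,0⟩]⟩,
  ⟨4,0,⟨0,1,0,1,1,1,0,1⟩,[⟨-1,-1,-1,1,2,0,0,0⟩, ⟨1,1,1,-1,-2,0,0,0⟩]⟩,
  ⟨4,0,⟨1,0,1,0,0,0,1,1⟩,[⟨-2,0,0,0,-1,-1,-1,1⟩, ⟨2,0,0,0,1,1,1,-1⟩]⟩,
  ⟨4,0,⟨1,1,1,1,1,0,1,1⟩,[⟨0,0,-2,0,-1,1,1,1⟩, ⟨0,0,2,0,1,-1,-1,-1⟩]⟩,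
  ⟨8,0,⟨0,0,0,0,0,0,0,0⟩,[⟨-3,-1,3,-1,0,0,-2,0⟩, ⟨-1,1,-1,-1,0,0,0,-2⟩, ⟨-1,1,1,1,-4,0,-2,0⟩, ⟨-1,1,1,1,4,0,-2,0⟩, ⟨1,-1,-1,-1,-4,0,2,0⟩, ⟨1,-1,-1,-1,4,0,2,0⟩, ⟨1,-1,1,1,0,0,0,2⟩, ⟨3,1,-3,1,0,0,2,0⟩]⟩,
  ⟨8,0,⟨0,1,0,1,1,0,0,0⟩,[⟨-3,1,-3,-1,-2,0,0,0⟩, ⟨-1,-1,-1,1,-2,0,-4,0⟩, ⟨-1,-1,-1,1,-2,0,4,0⟩, ⟨-1,-1,1,-1,0,2,0,0⟩, ⟨1,1,-1,1,0,-2,0,0⟩, ⟨1,1,1,-1,2,0,-4,0⟩, ⟨1,1,1,-1,2,0,4,0⟩, ⟨3,-1,3,1,2,0,0,0⟩]⟩,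
  ⟨8,0,⟨1,0,1,0,0,1,1,0⟩,[⟨-2,0,-4,0,1,1,1,-1⟩, ⟨-2,0,0,0,3,-1,3,1⟩, ⟨-2,0,4,0,1,1,1,-1⟩, ⟨0,-2,0,0,-1,-1,1,-1⟩, ⟨0,2,0,0,1,1,-1,1⟩, ⟨2,0,-4,0,-1,-1,-1,1⟩, ⟨2,0,0,0,-3,1,-3,-1⟩, ⟨2,0,4,0,-1,-1,-1,1⟩]⟩,
  ⟨8,0,⟨1,1,1,1,1,1,1,0⟩,[⟨-4,0,-2,0,1,-1,-1,-1⟩, ⟨-4,0,2,0,-1,1,1,1⟩, ⟨0,0,-2,0,3,1,-3,1⟩, ⟨0,0,0,-2,1,-1,1,1⟩, ⟨0,0,0,2,-1,1,-1,-1⟩, ⟨0,0,2,0,-3,-1,3,-1⟩, ⟨4,0,-2,0,1,-1,-1,-1⟩, ⟨4,0,2,0,-1,1,1,1⟩]⟩,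
  ⟨6,2,⟨1,1,1,1,0,0,0,1⟩,[⟨0,0,-2,0,-3,-1,-1,-1⟩, ⟨0,0,2,0,3,1,1,1⟩]⟩,
  ⟨6,2,⟨1,0,1,0,1,0,0,1⟩,[⟨-2,0,0,0,1,1,-3,-1⟩, ⟨2,0,0,0,-1,-1,3,1⟩]⟩,
  ⟨6,2,⟨0,1,0,1,0,1,1,1⟩,[⟨-1,-1,3,1,-2,0,0,0⟩, ⟨1,1,-3,-1,2,0,0,0⟩]⟩,
  ⟨6,2,⟨0,0,0,0,1,1,1,1⟩,[⟨-3,-1,-1,-1,0,0,2,0⟩, ⟨3,1,1,1,0,0,-2,0⟩]⟩]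

/-- Bucket 5. -/
def bk5 : List Grp := [
  ⟨6,-2,⟨0,1,0,1,1,0,0,0⟩,[⟨-3,1,0,0,1,-1,2,0⟩, ⟨3,-1,0,0,-1,1,-2,0⟩]⟩,
  ⟨6,-2,⟨1,1,1,1,0,1,0,0⟩,[⟨0,0,-3,1,2,0,-1,1⟩, ⟨0,0,3,-1,-2,0,1,-1⟩]⟩,
  ⟨6,-2,⟨1,0,1,0,1,0,0,1⟩,[⟨-2,0,1,-1,0,0,-3,1⟩, ⟨2,0,-1,1,0,0,3,-1⟩]⟩,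
  ⟨6,-2,⟨0,0,0,0,0,1,0,1⟩,[⟨-1,1,-2,0,-3,1,0,0⟩, ⟨1,-1,2,0,3,-1,0,0⟩]⟩,
  ⟨4,0,⟨0,1,0,1,0,0,1,0⟩,[⟨-1,-1,0,0,-1,1,2,0⟩, ⟨1,1,0,0,1,-1,-2,0⟩]⟩,
  ⟨4,0,⟨1,1,1,1,1,1,1,0⟩,[⟨0,0,-1,-1,2,0,1,-1⟩, ⟨0,0,1,1,-2,0,-1,1⟩]⟩,
  ⟨4,0,⟨1,0,1,0,0,0,1,1⟩,[⟨-2,0,-1,1,0,0,-1,-1⟩, ⟨2,0,1,-1,0,0,1,1⟩]⟩,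
  ⟨4,0,⟨0,0,0,0,1,1,1,1⟩,[⟨-1,1,2,0,1,1,0,0⟩, ⟨1,-1,-2,0,-1,-1,0,0⟩]⟩,
  ⟨8,0,⟨0,0,0,0,0,0,0,0⟩,[⟨-3,-1,-2,0,3,-1,0,0⟩, ⟨-1,1,-2,0,1,1,-4,0⟩, ⟨-1,1,-2,0,1,1,4,0⟩, ⟨-1,1,0,-2,-1,-1,0,0⟩, ⟨1,-1,0,2,1,1,0,0⟩, ⟨1,-1,2,0,-1,-1,-4,0⟩, ⟨1,-1,2,0,-1,-1,4,0⟩, ⟨3,1,2,0,-3,1,0,0⟩]⟩,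
  ⟨8,0,⟨1,0,1,0,1,1,0,0⟩,[⟨-2,0,1,-1,-4,0,1,1⟩, ⟨-2,0,1,-1,4,0,1,1⟩, ⟨-2,0,3,1,0,0,3,-1⟩, ⟨0,-2,1,-1,0,0,-1,-1⟩, ⟨0,2,-1,1,0,0,1,1⟩, ⟨2,0,-3,-1,0,0,-3,1⟩, ⟨2,0,-1,1,-4,0,-1,-1⟩, ⟨2,0,-1,1,4,0,-1,-1⟩]⟩,
  ⟨8,0,⟨1,1,1,1,0,0,0,1⟩,[⟨-4,0,-1,-1,-2,0,1,-1⟩, ⟨-4,0,1,1,2,0,-1,1⟩, ⟨0,0,-3,1,-2,0,3,1⟩, ⟨0,0,-1,-1,0,2,-1,1⟩, ⟨0,0,1,1,0,-2,1,-1⟩, ⟨0,0,3,-1,2,0,-3,-1⟩, ⟨4,0,-1,-1,-2,0,1,-1⟩, ⟨4,0,1,1,2,0,-1,1⟩]⟩,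
  ⟨8,0,⟨0,1,0,1,1,1,0,1⟩,[⟨-3,1,0,0,-3,-1,-2,0⟩, ⟨-1,-1,-4,0,-1,1,-2,0⟩, ⟨-1,-1,0,0,1,-1,0,2⟩, ⟨-1,-1,4,0,-1,1,-2,0⟩, ⟨1,1,-4,0,1,-1,2,0⟩, ⟨1,1,0,0,-1,1,0,-2⟩, ⟨1,1,4,0,1,-1,2,0⟩, ⟨3,-1,0,0,3,1,2,0⟩]⟩,
  ⟨6,2,⟨0,0,0,0,1,0,1,0⟩,[⟨-3,-1,2,0,-1,-1,0,0⟩, ⟨3,1,-2,0,1,1,0,0⟩]⟩,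
  ⟨6,2,⟨1,0,1,0,0,1,1,0⟩,[⟨-2,0,-3,-1,0,0,1,1⟩, ⟨2,0,3,1,0,0,-1,-1⟩]⟩,
  ⟨6,2,⟨1,1,1,1,1,0,1,1⟩,[⟨0,0,-1,-1,-2,0,-3,-1⟩, ⟨0,0,1,1,2,0,3,1⟩]⟩,
  ⟨6,2,⟨0,1,0,1,0,1,1,1⟩,[⟨-1,-1,0,0,3,1,-2,0⟩, ⟨1,1,0,0,-3,-1,2,0⟩]⟩]

/-- Bucket 6. -/
def bk6 : List Grp := [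
  ⟨6,-2,⟨0,1,0,1,0,0,1,0⟩,[⟨0,0,-1,1,3,-1,2,0⟩, ⟨0,0,1,-1,-3,1,-2,0⟩]⟩,
  ⟨6,-2,⟨1,1,1,1,1,1,1,0⟩,[⟨-3,1,-2,0,0,0,-1,1⟩, ⟨3,-1,2,0,0,0,1,-1⟩]⟩,
  ⟨6,-2,⟨1,0,1,0,0,0,1,1⟩,[⟨-1,1,0,0,-2,0,3,-1⟩, ⟨1,-1,0,0,2,0,-3,1⟩]⟩,
  ⟨6,-2,⟨0,0,0,0,1,1,1,1⟩,[⟨-2,0,3,-1,1,-1,0,0⟩, ⟨2,0,-3,1,-1,1,0,0⟩]⟩,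
  ⟨4,0,⟨0,0,0,0,1,0,1,0⟩,[⟨-2,0,1,1,-1,1,0,0⟩, ⟨2,0,-1,-1,1,-1,0,0⟩]⟩,
  ⟨4,0,⟨1,0,1,0,0,1,1,0⟩,[⟨-1,1,0,0,2,0,-1,-1⟩, ⟨1,-1,0,0,-2,0,1,1⟩]⟩,
  ⟨4,0,⟨1,1,1,1,1,0,1,1⟩,[⟨-1,-1,-2,0,0,0,1,-1⟩, ⟨1,1,2,0,0,0,-1,1⟩]⟩,
  ⟨4,0,⟨0,1,0,1,0,1,1,1⟩,[⟨0,0,-1,1,-1,-1,-2,0⟩, ⟨0,0,1,-1,1,1,2,0⟩]⟩,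
  ⟨8,0,⟨0,0,0,0,0,0,0,0⟩,[⟨-2,0,-3,1,3,1,0,0⟩, ⟨-2,0,-1,-1,1,-1,-4,0⟩, ⟨-2,0,-1,-1,1,-1,4,0⟩, ⟨0,-2,1,1,1,-1,0,0⟩, ⟨0,2,-1,-1,-1,1,0,0⟩, ⟨2,0,1,1,-1,1,-4,0⟩, ⟨2,0,1,1,-1,1,4,0⟩, ⟨2,0,3,-1,-3,-1,0,0⟩]⟩,
  ⟨8,0,⟨1,0,1,0,1,1,0,0⟩,[⟨-3,-1,0,0,-2,0,-3,1⟩, ⟨-1,1,-4,0,-2,0,-1,-1⟩, ⟨-1,1,0,0,0,-2,1,1⟩, ⟨-1,1,4,0,-2,0,-1,-1⟩, ⟨1,-1,-4,0,2,0,1,1⟩, ⟨1,-1,0,0,0,2,-1,-1⟩, ⟨1,-1,4,0,2,0,1,1⟩, ⟨3,1,0,0,2,0,3,-1⟩]⟩,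
  ⟨8,0,⟨1,1,1,1,0,0,0,1⟩,[⟨-3,1,2,0,0,0,3,1⟩, ⟨-1,-1,0,-2,0,0,-1,1⟩, ⟨-1,-1,2,0,-4,0,1,-1⟩, ⟨-1,-1,2,0,4,0,1,-1⟩, ⟨1,1,-2,0,-4,0,-1,1⟩, ⟨1,1,-2,0,4,0,-1,1⟩, ⟨1,1,0,2,0,0,1,-1⟩, ⟨3,-1,-2,0,0,0,-3,-1⟩]⟩,
  ⟨8,0,⟨0,1,0,1,1,1,0,1⟩,[⟨-4,0,-1,1,-1,-1,2,0⟩, ⟨-4,0,1,-1,1,1,-2,0⟩, ⟨0,0,-3,-1,-3,1,2,0⟩, ⟨0,0,-1,1,1,1,0,2⟩, ⟨0,0,1,-1,-1,-1,0,-2⟩, ⟨0,0,3,1,3,-1,-2,0⟩, ⟨4,0,-1,1,-1,-1,2,0⟩, ⟨4,0,1,-1,1,1,-2,0⟩]⟩,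
  ⟨6,2,⟨0,1,0,1,1,0,0,0⟩,[⟨0,0,-3,-1,1,1,-2,0⟩, ⟨0,0,3,1,-1,-1,2,0⟩]⟩,
  ⟨6,2,⟨1,1,1,1,0,1,0,0⟩,[⟨-1,-1,2,0,0,0,-3,-1⟩, ⟨1,1,-2,0,0,0,3,1⟩]⟩,
  ⟨6,2,⟨1,0,1,0,1,0,0,1⟩,[⟨-3,-1,0,0,2,0,1,1⟩, ⟨3,1,0,0,-2,0,-1,-1⟩]⟩,
  ⟨6,2,⟨0,0,0,0,0,1,0,1⟩,[⟨-2,0,-1,-1,-3,-1,0,0⟩, ⟨2,0,1,1,3,1,0,0⟩]⟩]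

/-- Bucket 7. -/
def bk7 : List Grp := [
  ⟨6,-2,⟨1,0,1,0,1,1,0,0⟩,[⟨-1,1,-1,1,1,-1,1,-1⟩, ⟨1,-1,1,-1,-1,1,-1,1⟩]⟩,
  ⟨6,-2,⟨1,0,1,0,0,1,1,0⟩,[⟨-1,1,1,-1,1,-1,-1,1⟩, ⟨1,-1,-1,1,-1,1,1,-1⟩]⟩,
  ⟨6,-2,⟨1,0,1,0,1,0,0,1⟩,[⟨-1,1,1,-1,-1,1,1,-1⟩, ⟨1,-1,-1,1,1,-1,-1,1⟩]⟩,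
  ⟨6,-2,⟨1,0,1,0,0,0,1,1⟩,[⟨-1,1,-1,1,-1,1,-1,1⟩, ⟨1,-1,1,-1,1,-1,1,-1⟩]⟩,
  ⟨4,0,⟨0,1,0,1,1,0,0,0⟩,[⟨0,0,0,0,-4,0,0,0⟩, ⟨0,0,0,0,4,0,0,0⟩]⟩,
  ⟨4,0,⟨0,1,0,1,0,0,1,0⟩,[⟨0,0,-4,0,0,0,0,0⟩, ⟨0,0,4,0,0,0,0,0⟩]⟩,
  ⟨4,0,⟨0,1,0,1,1,1,0,1⟩,[⟨0,0,0,0,0,0,-4,0⟩, ⟨0,0,0,0,0,0,4,0⟩]⟩,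
  ⟨4,0,⟨0,1,0,1,0,1,1,1⟩,[⟨-4,0,0,0,0,0,0,0⟩, ⟨4,0,0,0,0,0,0,0⟩]⟩,
  ⟨8,0,⟨0,0,0,0,0,0,0,0⟩,[⟨-2,0,-2,0,2,0,0,2⟩, ⟨-2,0,0,2,-2,0,2,0⟩, ⟨-2,0,2,0,0,2,-2,0⟩, ⟨0,-2,-2,0,-2,0,-2,0⟩, ⟨0,2,2,0,2,0,2,0⟩, ⟨2,0,-2,0,0,-2,2,0⟩, ⟨2,0,0,-2,2,0,-2,0⟩, ⟨2,0,2,0,-2,0,0,-2⟩]⟩,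
  ⟨8,0,⟨0,0,0,0,1,0,1,0⟩,[⟨-2,0,-2,0,0,-2,-2,0⟩, ⟨-2,0,0,-2,2,0,2,0⟩, ⟨-2,0,2,0,-2,0,0,2⟩, ⟨0,-2,2,0,2,0,-2,0⟩, ⟨0,2,-2,0,-2,0,2,0⟩, ⟨2,0,-2,0,2,0,0,-2⟩, ⟨2,0,0,2,-2,0,-2,0⟩, ⟨2,0,2,0,0,2,2,0⟩]⟩,
  ⟨8,0,⟨0,0,0,0,0,1,0,1⟩,[⟨-2,0,-2,0,-2,0,0,-2⟩, ⟨-2,0,0,2,2,0,-2,0⟩, ⟨-2,0,2,0,0,-2,2,0⟩, ⟨0,-2,-2,0,2,0,2,0⟩, ⟨0,2,2,0,-2,0,-2,0⟩, ⟨2,0,-2,0,0,2,-2,0⟩, ⟨2,0,0,-2,-2,0,2,0⟩, ⟨2,0,2,0,2,0,0,2⟩]⟩,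
  ⟨8,0,⟨0,0,0,0,1,1,1,1⟩,[⟨-2,0,-2,0,0,2,2,0⟩, ⟨-2,0,0,-2,-2,0,-2,0⟩, ⟨-2,0,2,0,2,0,0,-2⟩, ⟨0,-2,2,0,-2,0,2,0⟩, ⟨0,2,-2,0,2,0,-2,0⟩, ⟨2,0,-2,0,-2,0,0,2⟩, ⟨2,0,0,2,2,0,2,0⟩, ⟨2,0,2,0,0,-2,-2,0⟩]⟩,
  ⟨6,2,⟨1,1,1,1,0,1,0,0⟩,[⟨-1,-1,1,1,1,1,1,1⟩, ⟨1,1,-1,-1,-1,-1,-1,-1⟩]⟩,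
  ⟨6,2,⟨1,1,1,1,1,1,1,0⟩,[⟨-1,-1,1,1,-1,-1,-1,-1⟩, ⟨1,1,-1,-1,1,1,1,1⟩]⟩,
  ⟨6,2,⟨1,1,1,1,0,0,0,1⟩,[⟨-1,-1,-1,-1,1,1,-1,-1⟩, ⟨1,1,1,1,-1,-1,1,1⟩]⟩,
  ⟨6,2,⟨1,1,1,1,1,0,1,1⟩,[⟨-1,-1,-1,-1,-1,-1,1,1⟩, ⟨1,1,1,1,1,1,-1,-1⟩]⟩]

/-- Bucket 8. -/
def bk8 : List Grp := [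
  ⟨6,-2,⟨1,1,1,1,0,1,0,0⟩,[⟨0,0,-1,1,-3,1,2,0⟩, ⟨0,0,1,-1,3,-1,-2,0⟩]⟩,
  ⟨6,-2,⟨1,0,1,0,0,1,1,0⟩,[⟨-2,0,-3,1,1,-1,0,0⟩, ⟨2,0,3,-1,-1,1,0,0⟩]⟩,
  ⟨6,-2,⟨0,1,0,1,1,1,0,1⟩,[⟨-3,1,2,0,0,0,1,-1⟩, ⟨3,-1,-2,0,0,0,-1,1⟩]⟩,
  ⟨6,-2,⟨0,0,0,0,1,1,1,1⟩,[⟨-1,1,0,0,-2,0,-3,1⟩, ⟨1,-1,0,0,2,0,3,-1⟩]⟩,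
  ⟨4,0,⟨0,1,0,1,1,0,0,0⟩,[⟨-1,-1,2,0,0,0,-1,1⟩, ⟨1,1,-2,0,0,0,1,-1⟩]⟩,
  ⟨4,0,⟨0,0,0,0,1,0,1,0⟩,[⟨-1,1,0,0,2,0,1,1⟩, ⟨1,-1,0,0,-2,0,-1,-1⟩]⟩,
  ⟨4,0,⟨1,1,1,1,0,0,0,1⟩,[⟨0,0,-1,1,1,1,-2,0⟩, ⟨0,0,1,-1,-1,-1,2,0⟩]⟩,
  ⟨4,0,⟨1,0,1,0,0,0,1,1⟩,[⟨-2,0,-1,-1,-1,1,0,0⟩, ⟨2,0,1,1,1,-1,0,0⟩]⟩,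
  ⟨8,0,⟨0,0,0,0,0,0,0,0⟩,[⟨-3,-1,0,0,-2,0,3,-1⟩, ⟨-1,1,-4,0,-2,0,1,1⟩, ⟨-1,1,0,0,0,-2,-1,-1⟩, ⟨-1,1,4,0,-2,0,1,1⟩, ⟨1,-1,-4,0,2,0,-1,-1⟩, ⟨1,-1,0,0,0,2,1,1⟩, ⟨1,-1,4,0,2,0,-1,-1⟩, ⟨3,1,0,0,2,0,-3,1⟩]⟩,
  ⟨8,0,⟨0,1,0,1,0,0,1,0⟩,[⟨-3,1,-2,0,0,0,-3,-1⟩, ⟨-1,-1,-2,0,-4,0,-1,1⟩, ⟨-1,-1,-2,0,4,0,-1,1⟩, ⟨-1,-1,0,2,0,0,1,-1⟩, ⟨1,1,0,-2,0,0,-1,1⟩, ⟨1,1,2,0,-4,0,1,-1⟩, ⟨1,1,2,0,4,0,1,-1⟩, ⟨3,-1,2,0,0,0,3,1⟩]⟩,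
  ⟨8,0,⟨1,0,1,0,1,0,0,1⟩,[⟨-2,0,1,1,1,-1,-4,0⟩, ⟨-2,0,1,1,1,-1,4,0⟩, ⟨-2,0,3,-1,3,1,0,0⟩, ⟨0,-2,-1,-1,1,-1,0,0⟩, ⟨0,2,1,1,-1,1,0,0⟩, ⟨2,0,-3,1,-3,-1,0,0⟩, ⟨2,0,-1,-1,-1,1,-4,0⟩, ⟨2,0,-1,-1,-1,1,4,0⟩]⟩,
  ⟨8,0,⟨1,1,1,1,1,0,1,1⟩,[⟨-4,0,-1,1,1,1,2,0⟩, ⟨-4,0,1,-1,-1,-1,-2,0⟩, ⟨0,0,-3,-1,3,-1,2,0⟩, ⟨0,0,-1,1,-1,-1,0,2⟩, ⟨0,0,1,-1,1,1,0,-2⟩, ⟨0,0,3,1,-3,1,-2,0⟩, ⟨4,0,-1,1,1,1,2,0⟩, ⟨4,0,1,-1,-1,-1,-2,0⟩]⟩,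
  ⟨6,2,⟨1,0,1,0,1,1,0,0⟩,[⟨-2,0,1,1,-3,-1,0,0⟩, ⟨2,0,-1,-1,3,1,0,0⟩]⟩,
  ⟨6,2,⟨1,1,1,1,1,1,1,0⟩,[⟨0,0,-3,-1,-1,-1,-2,0⟩, ⟨0,0,3,1,1,1,2,0⟩]⟩,
  ⟨6,2,⟨0,0,0,0,0,1,0,1⟩,[⟨-3,-1,0,0,2,0,-1,-1⟩, ⟨3,1,0,0,-2,0,1,1⟩]⟩,
  ⟨6,2,⟨0,1,0,1,0,1,1,1⟩,[⟨-1,-1,-2,0,0,0,3,1⟩, ⟨1,1,2,0,0,0,-3,-1⟩]⟩]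

/-- Bucket 9. -/
def bk9 : List Grp := [
  ⟨6,-2,⟨1,1,1,1,0,1,0,0⟩,[⟨-2,2,0,0,0,0,0,0⟩, ⟨2,-2,0,0,0,0,0,0⟩]⟩,
  ⟨6,-2,⟨1,1,1,1,1,1,1,0⟩,[⟨0,0,0,0,-2,2,0,0⟩, ⟨0,0,0,0,2,-2,0,0⟩]⟩,
  ⟨6,-2,⟨1,1,1,1,0,0,0,1⟩,[⟨0,0,0,0,0,0,-2,2⟩, ⟨0,0,0,0,0,0,2,-2⟩]⟩,
  ⟨6,-2,⟨1,1,1,1,1,0,1,1⟩,[⟨0,0,-2,2,0,0,0,0⟩, ⟨0,0,2,-2,0,0,0,0⟩]⟩,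
  ⟨4,0,⟨1,0,1,0,1,1,0,0⟩,[⟨-2,0,-2,0,2,0,-2,0⟩, ⟨2,0,2,0,-2,0,2,0⟩]⟩,
  ⟨4,0,⟨1,0,1,0,0,1,1,0⟩,[⟨-2,0,2,0,-2,0,-2,0⟩, ⟨2,0,-2,0,2,0,2,0⟩]⟩,
  ⟨4,0,⟨1,0,1,0,1,0,0,1⟩,[⟨-2,0,-2,0,-2,0,2,0⟩, ⟨2,0,2,0,2,0,-2,0⟩]⟩,
  ⟨4,0,⟨1,0,1,0,0,0,1,1⟩,[⟨-2,0,2,0,2,0,2,0⟩, ⟨2,0,-2,0,-2,0,-2,0⟩]⟩,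
  ⟨8,0,⟨0,0,0,0,0,0,0,0⟩,[⟨-3,-1,-1,1,-1,1,-1,1⟩, ⟨-1,1,-1,1,1,-1,3,1⟩, ⟨-1,1,1,-1,3,1,-1,1⟩, ⟨-1,1,3,1,-1,1,1,-1⟩, ⟨1,-1,-3,-1,1,-1,-1,1⟩, ⟨1,-1,-1,1,-3,-1,1,-1⟩, ⟨1,-1,1,-1,-1,1,-3,-1⟩, ⟨3,1,1,-1,1,-1,1,-1⟩]⟩,
  ⟨8,0,⟨0,0,0,0,1,0,1,0⟩,[⟨-3,-1,1,-1,-1,1,1,-1⟩, ⟨-1,1,-3,-1,-1,1,-1,1⟩, ⟨-1,1,-1,1,3,1,1,-1⟩, ⟨-1,1,1,-1,1,-1,-3,-1⟩, ⟨1,-1,-1,1,-1,1,3,1⟩, ⟨1,-1,1,-1,-3,-1,-1,1⟩, ⟨1,-1,3,1,1,-1,1,-1⟩, ⟨3,1,-1,1,1,-1,-1,1⟩]⟩,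
  ⟨8,0,⟨0,0,0,0,0,1,0,1⟩,[⟨-3,-1,1,-1,1,-1,-1,1⟩, ⟨-1,1,-3,-1,1,-1,1,-1⟩, ⟨-1,1,-1,1,-3,-1,-1,1⟩, ⟨-1,1,1,-1,-1,1,3,1⟩, ⟨1,-1,-1,1,1,-1,-3,-1⟩, ⟨1,-1,1,-1,3,1,1,-1⟩, ⟨1,-1,3,1,-1,1,-1,1⟩, ⟨3,1,-1,1,-1,1,1,-1⟩]⟩,
  ⟨8,0,⟨0,0,0,0,1,1,1,1⟩,[⟨-3,-1,-1,1,1,-1,1,-1⟩, ⟨-1,1,-1,1,-1,1,-3,-1⟩, ⟨-1,1,1,-1,-3,-1,1,-1⟩, ⟨-1,1,3,1,1,-1,-1,1⟩, ⟨1,-1,-3,-1,-1,1,1,-1⟩, ⟨1,-1,-1,1,3,1,-1,1⟩, ⟨1,-1,1,-1,1,-1,3,1⟩, ⟨3,1,1,-1,-1,1,-1,1⟩]⟩,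
  ⟨6,2,⟨0,1,0,1,1,0,0,0⟩,[⟨-1,-1,1,1,1,1,-1,-1⟩, ⟨1,1,-1,-1,-1,-1,1,1⟩]⟩,
  ⟨6,2,⟨0,1,0,1,0,0,1,0⟩,[⟨-1,-1,1,1,-1,-1,1,1⟩, ⟨1,1,-1,-1,1,1,-1,-1⟩]⟩,
  ⟨6,2,⟨0,1,0,1,1,1,0,1⟩,[⟨-1,-1,-1,-1,1,1,1,1⟩, ⟨1,1,1,1,-1,-1,-1,-1⟩]⟩,
  ⟨6,2,⟨0,1,0,1,0,1,1,1⟩,[⟨-1,-1,-1,-1,-1,-1,-1,-1⟩, ⟨1,1,1,1,1,1,1,1⟩]⟩]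

/-- Bucket 10. -/
def bk10 : List Grp := [
  ⟨6,-2,⟨0,1,0,1,1,0,0,0⟩,[⟨0,0,-2,0,1,-1,-3,1⟩, ⟨0,0,2,0,-1,1,3,-1⟩]⟩,
  ⟨6,-2,⟨0,0,0,0,1,0,1,0⟩,[⟨-2,0,0,0,3,-1,1,-1⟩, ⟨2,0,0,0,-3,1,-1,1⟩]⟩,
  ⟨6,-2,⟨1,1,1,1,0,0,0,1⟩,[⟨-3,1,-1,1,-2,0,0,0⟩, ⟨3,-1,1,-1,2,0,0,0⟩]⟩,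
  ⟨6,-2,⟨1,0,1,0,0,0,1,1⟩,[⟨-1,1,3,-1,0,0,-2,0⟩, ⟨1,-1,-3,1,0,0,2,0⟩]⟩,
  ⟨4,0,⟨1,0,1,0,1,1,0,0⟩,[⟨-1,1,-1,-1,0,0,2,0⟩, ⟨1,-1,1,1,0,0,-2,0⟩]⟩,
  ⟨4,0,⟨1,1,1,1,1,1,1,0⟩,[⟨-1,-1,1,-1,-2,0,0,0⟩, ⟨1,1,-1,1,2,0,0,0⟩]⟩,
  ⟨4,0,⟨0,0,0,0,0,1,0,1⟩,[⟨-2,0,0,0,1,1,-1,1⟩, ⟨2,0,0,0,-1,-1,1,-1⟩]⟩,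
  ⟨4,0,⟨0,1,0,1,0,1,1,1⟩,[⟨0,0,-2,0,-1,1,-1,-1⟩, ⟨0,0,2,0,1,-1,1,1⟩]⟩,
  ⟨8,0,⟨0,0,0,0,0,0,0,0⟩,[⟨-2,0,-4,0,-1,-1,1,-1⟩, ⟨-2,0,0,0,-3,1,3,1⟩, ⟨-2,0,4,0,-1,-1,1,-1⟩, ⟨0,-2,0,0,1,1,1,-1⟩, ⟨0,2,0,0,-1,-1,-1,1⟩, ⟨2,0,-4,0,1,1,-1,1⟩, ⟨2,0,0,0,3,-1,-3,-1⟩, ⟨2,0,4,0,1,1,-1,1⟩]⟩,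
  ⟨8,0,⟨0,1,0,1,0,0,1,0⟩,[⟨-4,0,-2,0,1,-1,1,1⟩, ⟨-4,0,2,0,-1,1,-1,-1⟩, ⟨0,0,-2,0,3,1,3,-1⟩, ⟨0,0,0,-2,1,-1,-1,-1⟩, ⟨0,0,0,2,-1,1,1,1⟩, ⟨0,0,2,0,-3,-1,-3,1⟩, ⟨4,0,-2,0,1,-1,1,1⟩, ⟨4,0,2,0,-1,1,-1,-1⟩]⟩,
  ⟨8,0,⟨1,0,1,0,1,0,0,1⟩,[⟨-3,-1,-3,1,0,0,-2,0⟩, ⟨-1,1,-1,-1,-4,0,-2,0⟩, ⟨-1,1,-1,-1,4,0,-2,0⟩, ⟨-1,1,1,1,0,0,0,-2⟩, ⟨1,-1,-1,-1,0,0,0,2⟩, ⟨1,-1,1,1,-4,0,2,0⟩, ⟨1,-1,1,1,4,0,2,0⟩, ⟨3,1,3,-1,0,0,2,0⟩]⟩,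
  ⟨8,0,⟨1,1,1,1,1,0,1,1⟩,[⟨-3,1,3,1,2,0,0,0⟩, ⟨-1,-1,-1,1,0,-2,0,0⟩, ⟨-1,-1,1,-1,2,0,-4,0⟩, ⟨-1,-1,1,-1,2,0,4,0⟩, ⟨1,1,-1,1,-2,0,-4,0⟩, ⟨1,1,-1,1,-2,0,4,0⟩, ⟨1,1,1,-1,0,2,0,0⟩, ⟨3,-1,-3,-1,-2,0,0,0⟩]⟩,
  ⟨6,2,⟨1,1,1,1,0,1,0,0⟩,[⟨-1,-1,-3,-1,2,0,0,0⟩, ⟨1,1,3,1,-2,0,0,0⟩]⟩,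
  ⟨6,2,⟨1,0,1,0,0,1,1,0⟩,[⟨-3,-1,1,1,0,0,2,0⟩, ⟨3,1,-1,-1,0,0,-2,0⟩]⟩,
  ⟨6,2,⟨0,1,0,1,1,1,0,1⟩,[⟨0,0,-2,0,-3,-1,1,1⟩, ⟨0,0,2,0,3,1,-1,-1⟩]⟩,
  ⟨6,2,⟨0,0,0,0,1,1,1,1⟩,[⟨-2,0,0,0,-1,-1,-3,-1⟩, ⟨2,0,0,0,1,1,3,1⟩]⟩]

/-- Bucket 11. -/
def bk11 : List Grp := [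
  ⟨6,-2,⟨0,0,0,0,0,1,0,1⟩,[⟨-2,0,1,-1,0,0,3,-1⟩, ⟨2,0,-1,1,0,0,-3,1⟩]⟩,
  ⟨6,-2,⟨0,1,0,1,1,1,0,1⟩,[⟨0,0,-3,1,-2,0,1,-1⟩, ⟨0,0,3,-1,2,0,-1,1⟩]⟩,
  ⟨6,-2,⟨1,0,1,0,0,0,1,1⟩,[⟨-1,1,-2,0,3,-1,0,0⟩, ⟨1,-1,2,0,-3,1,0,0⟩]⟩,
  ⟨6,-2,⟨1,1,1,1,1,0,1,1⟩,[⟨-3,1,0,0,-1,1,-2,0⟩, ⟨3,-1,0,0,1,-1,2,0⟩]⟩,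
  ⟨4,0,⟨1,1,1,1,0,0,0,1⟩,[⟨-1,-1,0,0,1,-1,-2,0⟩, ⟨1,1,0,0,-1,1,2,0⟩]⟩,
  ⟨4,0,⟨1,0,1,0,1,0,0,1⟩,[⟨-1,1,2,0,-1,-1,0,0⟩, ⟨1,-1,-2,0,1,1,0,0⟩]⟩,
  ⟨4,0,⟨0,1,0,1,0,1,1,1⟩,[⟨0,0,-1,-1,-2,0,-1,1⟩, ⟨0,0,1,1,2,0,1,-1⟩]⟩,
  ⟨4,0,⟨0,0,0,0,1,1,1,1⟩,[⟨-2,0,-1,1,0,0,1,1⟩, ⟨2,0,1,-1,0,0,-1,-1⟩]⟩,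
  ⟨8,0,⟨0,0,0,0,0,0,0,0⟩,[⟨-2,0,1,-1,-4,0,-1,-1⟩, ⟨-2,0,1,-1,4,0,-1,-1⟩, ⟨-2,0,3,1,0,0,-3,1⟩, ⟨0,-2,1,-1,0,0,1,1⟩, ⟨0,2,-1,1,0,0,-1,-1⟩, ⟨2,0,-3,-1,0,0,3,-1⟩, ⟨2,0,-1,1,-4,0,1,1⟩, ⟨2,0,-1,1,4,0,1,1⟩]⟩,
  ⟨8,0,⟨0,1,0,1,1,0,0,0⟩,[⟨-4,0,-1,-1,2,0,-1,1⟩, ⟨-4,0,1,1,-2,0,1,-1⟩, ⟨0,0,-3,1,2,0,-3,-1⟩, ⟨0,0,-1,-1,0,-2,1,-1⟩, ⟨0,0,1,1,0,2,-1,1⟩, ⟨0,0,3,-1,-2,0,3,1⟩, ⟨4,0,-1,-1,2,0,-1,1⟩, ⟨4,0,1,1,-2,0,1,-1⟩]⟩,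
  ⟨8,0,⟨1,0,1,0,0,1,1,0⟩,[⟨-3,-1,-2,0,-3,1,0,0⟩, ⟨-1,1,-2,0,-1,-1,-4,0⟩, ⟨-1,1,-2,0,-1,-1,4,0⟩, ⟨-1,1,0,-2,1,1,0,0⟩, ⟨1,-1,0,2,-1,-1,0,0⟩, ⟨1,-1,2,0,1,1,-4,0⟩, ⟨1,-1,2,0,1,1,4,0⟩, ⟨3,1,2,0,3,-1,0,0⟩]⟩,
  ⟨8,0,⟨1,1,1,1,1,1,1,0⟩,[⟨-3,1,0,0,3,1,2,0⟩, ⟨-1,-1,-4,0,1,-1,2,0⟩, ⟨-1,-1,0,0,-1,1,0,-2⟩, ⟨-1,-1,4,0,1,-1,2,0⟩, ⟨1,1,-4,0,-1,1,-2,0⟩, ⟨1,1,0,0,1,-1,0,2⟩, ⟨1,1,4,0,-1,1,-2,0⟩, ⟨3,-1,0,0,-3,-1,-2,0⟩]⟩,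
  ⟨6,2,⟨1,1,1,1,0,1,0,0⟩,[⟨-1,-1,0,0,-3,-1,2,0⟩, ⟨1,1,0,0,3,1,-2,0⟩]⟩,
  ⟨6,2,⟨1,0,1,0,1,1,0,0⟩,[⟨-3,-1,2,0,1,1,0,0⟩, ⟨3,1,-2,0,-1,-1,0,0⟩]⟩,
  ⟨6,2,⟨0,1,0,1,0,0,1,0⟩,[⟨0,0,-1,-1,2,0,3,1⟩, ⟨0,0,1,1,-2,0,-3,-1⟩]⟩,
  ⟨6,2,⟨0,0,0,0,1,0,1,0⟩,[⟨-2,0,-3,-1,0,0,-1,-1⟩, ⟨2,0,3,1,0,0,1,1⟩]⟩]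

/-- Bucket 12. -/
def bk12 : List Grp := [
  ⟨6,-2,⟨0,1,0,1,0,0,1,0⟩,[⟨-2,0,-1,1,0,0,-3,1⟩, ⟨2,0,1,-1,0,0,3,-1⟩]⟩,
  ⟨6,-2,⟨1,0,1,0,0,1,1,0⟩,[⟨-3,1,0,0,-1,1,2,0⟩, ⟨3,-1,0,0,1,-1,-2,0⟩]⟩,
  ⟨6,-2,⟨1,1,1,1,0,0,0,1⟩,[⟨-1,1,2,0,3,-1,0,0⟩, ⟨1,-1,-2,0,-3,1,0,0⟩]⟩,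
  ⟨6,-2,⟨0,0,0,0,0,1,0,1⟩,[⟨0,0,-3,1,2,0,1,-1⟩, ⟨0,0,3,-1,-2,0,-1,1⟩]⟩,
  ⟨4,0,⟨0,1,0,1,1,0,0,0⟩,[⟨-2,0,1,-1,0,0,-1,-1⟩, ⟨2,0,-1,1,0,0,1,1⟩]⟩,
  ⟨4,0,⟨1,0,1,0,1,1,0,0⟩,[⟨-1,-1,0,0,1,-1,2,0⟩, ⟨1,1,0,0,-1,1,-2,0⟩]⟩,
  ⟨4,0,⟨1,1,1,1,1,0,1,1⟩,[⟨-1,1,-2,0,-1,-1,0,0⟩, ⟨1,-1,2,0,1,1,0,0⟩]⟩,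
  ⟨4,0,⟨0,0,0,0,1,1,1,1⟩,[⟨0,0,-1,-1,2,0,-1,1⟩, ⟨0,0,1,1,-2,0,1,-1⟩]⟩,
  ⟨8,0,⟨0,0,0,0,0,0,0,0⟩,[⟨-4,0,-1,-1,-2,0,-1,1⟩, ⟨-4,0,1,1,2,0,1,-1⟩, ⟨0,0,-3,1,-2,0,-3,-1⟩, ⟨0,0,-1,-1,0,2,1,-1⟩, ⟨0,0,1,1,0,-2,-1,1⟩, ⟨0,0,3,-1,2,0,3,1⟩, ⟨4,0,-1,-1,-2,0,-1,1⟩, ⟨4,0,1,1,2,0,1,-1⟩]⟩,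
  ⟨8,0,⟨1,1,1,1,0,1,0,0⟩,[⟨-3,-1,2,0,-3,1,0,0⟩, ⟨-1,1,0,2,1,1,0,0⟩, ⟨-1,1,2,0,-1,-1,-4,0⟩, ⟨-1,1,2,0,-1,-1,4,0⟩, ⟨1,-1,-2,0,1,1,-4,0⟩, ⟨1,-1,-2,0,1,1,4,0⟩, ⟨1,-1,0,-2,-1,-1,0,0⟩, ⟨3,1,-2,0,3,-1,0,0⟩]⟩,
  ⟨8,0,⟨1,0,1,0,0,0,1,1⟩,[⟨-3,1,0,0,3,1,-2,0⟩, ⟨-1,-1,-4,0,1,-1,-2,0⟩, ⟨-1,-1,0,0,-1,1,0,2⟩, ⟨-1,-1,4,0,1,-1,-2,0⟩, ⟨1,1,-4,0,-1,1,2,0⟩, ⟨1,1,0,0,1,-1,0,-2⟩, ⟨1,1,4,0,-1,1,2,0⟩, ⟨3,-1,0,0,-3,-1,2,0⟩]⟩,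
  ⟨8,0,⟨0,1,0,1,0,1,1,1⟩,[⟨-2,0,-3,-1,0,0,3,-1⟩, ⟨-2,0,-1,1,-4,0,1,1⟩, ⟨-2,0,-1,1,4,0,1,1⟩, ⟨0,-2,-1,1,0,0,-1,-1⟩, ⟨0,2,1,-1,0,0,1,1⟩, ⟨2,0,1,-1,-4,0,-1,-1⟩, ⟨2,0,1,-1,4,0,-1,-1⟩, ⟨2,0,3,1,0,0,-3,1⟩]⟩,
  ⟨6,2,⟨0,0,0,0,1,0,1,0⟩,[⟨0,0,-1,-1,-2,0,3,1⟩, ⟨0,0,1,1,2,0,-3,-1⟩]⟩,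
  ⟨6,2,⟨1,1,1,1,1,1,1,0⟩,[⟨-3,-1,-2,0,1,1,0,0⟩, ⟨3,1,2,0,-1,-1,0,0⟩]⟩,
  ⟨6,2,⟨1,0,1,0,1,0,0,1⟩,[⟨-1,-1,0,0,-3,-1,-2,0⟩, ⟨1,1,0,0,3,1,2,0⟩]⟩,
  ⟨6,2,⟨0,1,0,1,1,1,0,1⟩,[⟨-2,0,3,1,0,0,1,1⟩, ⟨2,0,-3,-1,0,0,-1,-1⟩]⟩]

/-- Bucket 13. -/
def bk13 : List Grp := [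
  ⟨6,-2,⟨0,0,0,0,1,0,1,0⟩,[⟨0,0,-2,0,-1,1,3,-1⟩, ⟨0,0,2,0,1,-1,-3,1⟩]⟩,
  ⟨6,-2,⟨1,1,1,1,1,1,1,0⟩,[⟨-1,1,3,-1,0,0,2,0⟩, ⟨1,-1,-3,1,0,0,-2,0⟩]⟩,
  ⟨6,-2,⟨1,0,1,0,1,0,0,1⟩,[⟨-3,1,-1,1,2,0,0,0⟩, ⟨3,-1,1,-1,-2,0,0,0⟩]⟩,
  ⟨6,-2,⟨0,1,0,1,1,1,0,1⟩,[⟨-2,0,0,0,-3,1,-1,1⟩, ⟨2,0,0,0,3,-1,1,-1⟩]⟩,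
  ⟨4,0,⟨0,1,0,1,0,0,1,0⟩,[⟨-2,0,0,0,-1,-1,1,-1⟩, ⟨2,0,0,0,1,1,-1,1⟩]⟩,
  ⟨4,0,⟨1,0,1,0,0,1,1,0⟩,[⟨-1,-1,1,-1,2,0,0,0⟩, ⟨1,1,-1,1,-2,0,0,0⟩]⟩,
  ⟨4,0,⟨1,1,1,1,0,0,0,1⟩,[⟨-1,1,-1,-1,0,0,-2,0⟩, ⟨1,-1,1,1,0,0,2,0⟩]⟩,
  ⟨4,0,⟨0,0,0,0,0,1,0,1⟩,[⟨0,0,-2,0,1,-1,1,1⟩, ⟨0,0,2,0,-1,1,-1,-1⟩]⟩,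
  ⟨8,0,⟨0,0,0,0,0,0,0,0⟩,[⟨-4,0,-2,0,-1,1,-1,-1⟩, ⟨-4,0,2,0,1,-1,1,1⟩, ⟨0,0,-2,0,-3,-1,-3,1⟩, ⟨0,0,0,-2,-1,1,1,1⟩, ⟨0,0,0,2,1,-1,-1,-1⟩, ⟨0,0,2,0,3,1,3,-1⟩, ⟨4,0,-2,0,-1,1,-1,-1⟩, ⟨4,0,2,0,1,-1,1,1⟩]⟩,
  ⟨8,0,⟨1,1,1,1,0,1,0,0⟩,[⟨-3,-1,-3,1,0,0,2,0⟩, ⟨-1,1,-1,-1,-4,0,2,0⟩, ⟨-1,1,-1,-1,4,0,2,0⟩, ⟨-1,1,1,1,0,0,0,2⟩, ⟨1,-1,-1,-1,0,0,0,-2⟩, ⟨1,-1,1,1,-4,0,-2,0⟩, ⟨1,-1,1,1,4,0,-2,0⟩, ⟨3,1,3,-1,0,0,-2,0⟩]⟩,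
  ⟨8,0,⟨1,0,1,0,0,0,1,1⟩,[⟨-3,1,3,1,-2,0,0,0⟩, ⟨-1,-1,-1,1,0,2,0,0⟩, ⟨-1,-1,1,-1,-2,0,-4,0⟩, ⟨-1,-1,1,-1,-2,0,4,0⟩, ⟨1,1,-1,1,2,0,-4,0⟩, ⟨1,1,-1,1,2,0,4,0⟩, ⟨1,1,1,-1,0,-2,0,0⟩, ⟨3,-1,-3,-1,2,0,0,0⟩]⟩,
  ⟨8,0,⟨0,1,0,1,0,1,1,1⟩,[⟨-2,0,-4,0,1,1,-1,1⟩, ⟨-2,0,0,0,3,-1,-3,-1⟩, ⟨-2,0,4,0,1,1,-1,1⟩, ⟨0,-2,0,0,-1,-1,-1,1⟩, ⟨0,2,0,0,1,1,1,-1⟩, ⟨2,0,-4,0,-1,-1,1,-1⟩, ⟨2,0,0,0,-3,1,3,1⟩, ⟨2,0,4,0,-1,-1,1,-1⟩]⟩,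
  ⟨6,2,⟨0,1,0,1,1,0,0,0⟩,[⟨-2,0,0,0,1,1,3,1⟩, ⟨2,0,0,0,-1,-1,-3,-1⟩]⟩,
  ⟨6,2,⟨1,0,1,0,1,1,0,0⟩,[⟨-1,-1,-3,-1,-2,0,0,0⟩, ⟨1,1,3,1,2,0,0,0⟩]⟩,
  ⟨6,2,⟨1,1,1,1,1,0,1,1⟩,[⟨-3,-1,1,1,0,0,-2,0⟩, ⟨3,1,-1,-1,0,0,2,0⟩]⟩,
  ⟨6,2,⟨0,0,0,0,1,1,1,1⟩,[⟨0,0,-2,0,3,1,-1,-1⟩, ⟨0,0,2,0,-3,-1,1,1⟩]⟩]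

/-- Bucket 14. -/
def bk14 : List Grp := [
  ⟨6,-2,⟨0,1,0,1,1,0,0,0⟩,[⟨-1,1,1,-1,-1,1,-1,1⟩, ⟨1,-1,-1,1,1,-1,1,-1⟩]⟩,
  ⟨6,-2,⟨0,1,0,1,0,0,1,0⟩,[⟨-1,1,-1,1,-1,1,1,-1⟩, ⟨1,-1,1,-1,1,-1,-1,1⟩]⟩,
  ⟨6,-2,⟨0,1,0,1,1,1,0,1⟩,[⟨-1,1,-1,1,1,-1,-1,1⟩, ⟨1,-1,1,-1,-1,1,1,-1⟩]⟩,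
  ⟨6,-2,⟨0,1,0,1,0,1,1,1⟩,[⟨-1,1,1,-1,1,-1,1,-1⟩, ⟨1,-1,-1,1,-1,1,-1,1⟩]⟩,
  ⟨4,0,⟨1,1,1,1,0,1,0,0⟩,[⟨-2,0,-2,0,-2,0,-2,0⟩, ⟨2,0,2,0,2,0,2,0⟩]⟩,
  ⟨4,0,⟨1,1,1,1,1,1,1,0⟩,[⟨-2,0,2,0,2,0,-2,0⟩, ⟨2,0,-2,0,-2,0,2,0⟩]⟩,
  ⟨4,0,⟨1,1,1,1,0,0,0,1⟩,[⟨-2,0,-2,0,2,0,2,0⟩, ⟨2,0,2,0,-2,0,-2,0⟩]⟩,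
  ⟨4,0,⟨1,1,1,1,1,0,1,1⟩,[⟨-2,0,2,0,-2,0,2,0⟩, ⟨2,0,-2,0,2,0,-2,0⟩]⟩,
  ⟨8,0,⟨0,0,0,0,0,0,0,0⟩,[⟨-3,1,1,1,1,1,1,1⟩, ⟨-1,-1,-3,1,-1,-1,1,1⟩, ⟨-1,-1,-1,-1,1,1,-3,1⟩, ⟨-1,-1,1,1,-3,1,-1,-1⟩, ⟨1,1,-1,-1,3,-1,1,1⟩, ⟨1,1,1,1,-1,-1,3,-1⟩, ⟨1,1,3,-1,1,1,-1,-1⟩, ⟨3,-1,-1,-1,-1,-1,-1,-1⟩]⟩,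
  ⟨8,0,⟨0,0,0,0,1,0,1,0⟩,[⟨-3,1,1,1,-1,-1,-1,-1⟩, ⟨-1,-1,-3,1,1,1,-1,-1⟩, ⟨-1,-1,-1,-1,-1,-1,3,-1⟩, ⟨-1,-1,1,1,3,-1,1,1⟩, ⟨1,1,-1,-1,-3,1,-1,-1⟩, ⟨1,1,1,1,1,1,-3,1⟩, ⟨1,1,3,-1,-1,-1,1,1⟩, ⟨3,-1,-1,-1,1,1,1,1⟩]⟩,
  ⟨8,0,⟨0,0,0,0,0,1,0,1⟩,[⟨-3,1,-1,-1,1,1,-1,-1⟩, ⟨-1,-1,-1,-1,-3,1,1,1⟩, ⟨-1,-1,1,1,1,1,3,-1⟩, ⟨-1,-1,3,-1,-1,-1,-1,-1⟩, ⟨1,1,-3,1,1,1,1,1⟩, ⟨1,1,-1,-1,-1,-1,-3,1⟩, ⟨1,1,1,1,3,-1,-1,-1⟩, ⟨3,-1,1,1,-1,-1,1,1⟩]⟩,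
  ⟨8,0,⟨0,0,0,0,1,1,1,1⟩,[⟨-3,1,-1,-1,-1,-1,1,1⟩, ⟨-1,-1,-1,-1,3,-1,-1,-1⟩, ⟨-1,-1,1,1,-1,-1,-3,1⟩, ⟨-1,-1,3,-1,1,1,1,1⟩, ⟨1,1,-3,1,-1,-1,-1,-1⟩, ⟨1,1,-1,-1,1,1,3,-1⟩, ⟨1,1,1,1,-3,1,1,1⟩, ⟨3,-1,1,1,1,1,-1,-1⟩]⟩,
  ⟨6,2,⟨1,0,1,0,1,1,0,0⟩,[⟨0,0,0,0,0,0,-2,-2⟩, ⟨0,0,0,0,0,0,2,2⟩]⟩,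
  ⟨6,2,⟨1,0,1,0,0,1,1,0⟩,[⟨0,0,0,0,-2,-2,0,0⟩, ⟨0,0,0,0,2,2,0,0⟩]⟩,
  ⟨6,2,⟨1,0,1,0,1,0,0,1⟩,[⟨0,0,-2,-2,0,0,0,0⟩, ⟨0,0,2,2,0,0,0,0⟩]⟩,
  ⟨6,2,⟨1,0,1,0,0,0,1,1⟩,[⟨-2,-2,0,0,0,0,0,0⟩, ⟨2,2,0,0,0,0,0,0⟩]⟩]

/-- Bucket 15. -/
def bk15 : List Grp := [
  ⟨6,-2,⟨1,1,1,1,0,0,0,1⟩,[⟨-2,0,3,-1,-1,1,0,0⟩, ⟨2,0,-3,1,1,-1,0,0⟩]⟩,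
  ⟨6,-2,⟨1,0,1,0,1,0,0,1⟩,[⟨0,0,-1,1,-3,1,-2,0⟩, ⟨0,0,1,-1,3,-1,2,0⟩]⟩,
  ⟨6,-2,⟨0,1,0,1,0,1,1,1⟩,[⟨-1,1,0,0,2,0,-3,1⟩, ⟨1,-1,0,0,-2,0,3,-1⟩]⟩,
  ⟨6,-2,⟨0,0,0,0,1,1,1,1⟩,[⟨-3,1,-2,0,0,0,1,-1⟩, ⟨3,-1,2,0,0,0,-1,1⟩]⟩,
  ⟨4,0,⟨1,1,1,1,0,1,0,0⟩,[⟨-2,0,1,1,1,-1,0,0⟩, ⟨2,0,-1,-1,-1,1,0,0⟩]⟩,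
  ⟨4,0,⟨1,0,1,0,1,1,0,0⟩,[⟨0,0,-1,1,1,1,2,0⟩, ⟨0,0,1,-1,-1,-1,-2,0⟩]⟩,
  ⟨4,0,⟨0,1,0,1,0,0,1,0⟩,[⟨-1,1,0,0,-2,0,1,1⟩, ⟨1,-1,0,0,2,0,-1,-1⟩]⟩,
  ⟨4,0,⟨0,0,0,0,1,0,1,0⟩,[⟨-1,-1,-2,0,0,0,-1,1⟩, ⟨1,1,2,0,0,0,1,-1⟩]⟩,
  ⟨8,0,⟨0,0,0,0,0,0,0,0⟩,[⟨-3,1,2,0,0,0,-3,-1⟩, ⟨-1,-1,0,-2,0,0,1,-1⟩, ⟨-1,-1,2,0,-4,0,-1,1⟩, ⟨-1,-1,2,0,4,0,-1,1⟩, ⟨1,1,-2,0,-4,0,1,-1⟩, ⟨1,1,-2,0,4,0,1,-1⟩, ⟨1,1,0,2,0,0,-1,1⟩, ⟨3,-1,-2,0,0,0,3,1⟩]⟩,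
  ⟨8,0,⟨0,1,0,1,1,0,0,0⟩,[⟨-3,-1,0,0,2,0,3,-1⟩, ⟨-1,1,-4,0,2,0,1,1⟩, ⟨-1,1,0,0,0,2,-1,-1⟩, ⟨-1,1,4,0,2,0,1,1⟩, ⟨1,-1,-4,0,-2,0,-1,-1⟩, ⟨1,-1,0,0,0,-2,1,1⟩, ⟨1,-1,4,0,-2,0,-1,-1⟩, ⟨3,1,0,0,-2,0,-3,1⟩]⟩,
  ⟨8,0,⟨1,0,1,0,0,1,1,0⟩,[⟨-4,0,-1,1,1,1,-2,0⟩, ⟨-4,0,1,-1,-1,-1,2,0⟩, ⟨0,0,-3,-1,3,-1,-2,0⟩, ⟨0,0,-1,1,-1,-1,0,-2⟩, ⟨0,0,1,-1,1,1,0,2⟩, ⟨0,0,3,1,-3,1,2,0⟩, ⟨4,0,-1,1,1,1,-2,0⟩, ⟨4,0,1,-1,-1,-1,2,0⟩]⟩,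
  ⟨8,0,⟨1,1,1,1,1,1,1,0⟩,[⟨-2,0,-3,1,-3,-1,0,0⟩, ⟨-2,0,-1,-1,-1,1,-4,0⟩, ⟨-2,0,-1,-1,-1,1,4,0⟩, ⟨0,-2,1,1,-1,1,0,0⟩, ⟨0,2,-1,-1,1,-1,0,0⟩, ⟨2,0,1,1,1,-1,-4,0⟩, ⟨2,0,1,1,1,-1,4,0⟩, ⟨2,0,3,-1,3,1,0,0⟩]⟩,
  ⟨6,2,⟨0,0,0,0,0,1,0,1⟩,[⟨-1,-1,2,0,0,0,3,1⟩, ⟨1,1,-2,0,0,0,-3,-1⟩]⟩,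
  ⟨6,2,⟨0,1,0,1,1,1,0,1⟩,[⟨-3,-1,0,0,-2,0,-1,-1⟩, ⟨3,1,0,0,2,0,1,1⟩]⟩,
  ⟨6,2,⟨1,0,1,0,0,0,1,1⟩,[⟨0,0,-3,-1,-1,-1,2,0⟩, ⟨0,0,3,1,1,1,-2,0⟩]⟩,
  ⟨6,2,⟨1,1,1,1,1,0,1,1⟩,[⟨-2,0,-1,-1,3,1,0,0⟩, ⟨2,0,1,1,-3,-1,0,0⟩]⟩]

/-- All buckets. -/
def buckets : List (ℤ × List Grp) := [(0, bk0), (12, bk1), (17, bk2), (29, bk3), (39, bk4), (43, bk5), (54, bk6), (58, bk7), (67, bk8), (79, bk9), (82, bk10), (94, bk11), (100, bk12), (104, bk13), (117, bk14), (121, bk15)]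

/-- Multiples of `h` of norm eight. -/
def pairBuckets : List (ℤ × List V8) := [
  (26, [⟨0,2,2,0,-2,0,2,0⟩, ⟨2,0,0,-2,-2,0,-2,0⟩, ⟨-2,0,-2,0,-2,0,0,2⟩, ⟨2,0,-2,0,0,2,2,0⟩, ⟨-2,0,2,0,0,-2,-2,0⟩, ⟨2,0,2,0,2,0,0,-2⟩, ⟨-2,0,0,2,2,0,2,0⟩, ⟨0,-2,-2,0,2,0,-2,0⟩]),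
  (47, [⟨3,1,-1,1,-1,1,-1,1⟩, ⟨-1,1,-1,1,-3,-1,1,-1⟩, ⟨-1,1,1,-1,-1,1,-3,-1⟩, ⟨-1,1,-3,-1,1,-1,-1,1⟩, ⟨1,-1,3,1,-1,1,1,-1⟩, ⟨1,-1,-1,1,1,-1,3,1⟩, ⟨1,-1,1,-1,3,1,-1,1⟩, ⟨-3,-1,1,-1,1,-1,1,-1⟩]),
  (53, [⟨1,1,1,1,-1,-1,-3,1⟩, ⟨1,1,-1,-1,3,-1,-1,-1⟩, ⟨-3,1,1,1,1,1,-1,-1⟩, ⟨-1,-1,-3,1,-1,-1,-1,-1⟩, ⟨1,1,3,-1,1,1,1,1⟩, ⟨3,-1,-1,-1,-1,-1,1,1⟩, ⟨-1,-1,1,1,-3,1,1,1⟩, ⟨-1,-1,-1,-1,1,1,3,-1⟩]),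
  (74, [⟨0,2,-2,0,2,0,2,0⟩, ⟨2,0,-2,0,-2,0,0,-2⟩, ⟨-2,0,-2,0,0,2,-2,0⟩, ⟨2,0,0,2,2,0,-2,0⟩, ⟨-2,0,0,-2,-2,0,2,0⟩, ⟨2,0,2,0,0,-2,2,0⟩, ⟨-2,0,2,0,2,0,0,2⟩, ⟨0,-2,2,0,-2,0,-2,0⟩]),
  (80, [⟨0,0,-4,0,-4,0,0,0⟩, ⟨4,0,0,0,0,0,-4,0⟩, ⟨-4,0,0,0,0,0,-4,0⟩, ⟨0,0,-4,0,4,0,0,0⟩, ⟨0,0,4,0,-4,0,0,0⟩, ⟨4,0,0,0,0,0,4,0⟩, ⟨-4,0,0,0,0,0,4,0⟩, ⟨0,0,4,0,4,0,0,0⟩]),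
  (101, [⟨1,1,-1,-1,-3,1,1,1⟩, ⟨1,1,3,-1,-1,-1,-1,-1⟩, ⟨-3,1,1,1,-1,-1,1,1⟩, ⟨1,1,1,1,1,1,3,-1⟩, ⟨-1,-1,-1,-1,-1,-1,-3,1⟩, ⟨3,-1,-1,-1,1,1,-1,-1⟩, ⟨-1,-1,-3,1,1,1,1,1⟩, ⟨-1,-1,1,1,3,-1,-1,-1⟩]),
  (127, [⟨-1,1,1,-1,-3,-1,-1,1⟩, ⟨3,1,1,-1,-1,1,1,-1⟩, ⟨-1,1,-1,1,-1,1,3,1⟩, ⟨-1,1,3,1,1,-1,1,-1⟩, ⟨1,-1,-3,-1,-1,1,-1,1⟩, ⟨1,-1,1,-1,1,-1,-3,-1⟩, ⟨-3,-1,-1,1,1,-1,-1,1⟩, ⟨1,-1,-1,1,3,1,1,-1⟩]),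
  (143, [⟨-1,1,-1,1,1,-1,-3,-1⟩, ⟨3,1,1,-1,1,-1,-1,1⟩, ⟨-1,1,3,1,-1,1,-1,1⟩, ⟨1,-1,-1,1,-3,-1,-1,1⟩, ⟨-1,1,1,-1,3,1,1,-1⟩, ⟨1,-1,-3,-1,1,-1,1,-1⟩, ⟨-3,-1,-1,1,-1,1,1,-1⟩, ⟨1,-1,1,-1,-1,1,3,1⟩]),
  (149, [⟨1,1,-3,1,1,1,-1,-1⟩, ⟨1,1,-1,-1,-1,-1,3,-1⟩, ⟨-3,1,-1,-1,1,1,1,1⟩, ⟨1,1,1,1,3,-1,1,1⟩, ⟨-1,-1,-1,-1,-3,1,-1,-1⟩, ⟨3,-1,1,1,-1,-1,-1,-1⟩, ⟨-1,-1,1,1,1,1,-3,1⟩, ⟨-1,-1,3,-1,-1,-1,1,1⟩]),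
  (160, [⟨0,0,0,0,-4,0,-4,0⟩, ⟨4,0,-4,0,0,0,0,0⟩, ⟨-4,0,-4,0,0,0,0,0⟩, ⟨0,0,0,0,4,0,-4,0⟩, ⟨0,0,0,0,-4,0,4,0⟩, ⟨4,0,4,0,0,0,0,0⟩, ⟨-4,0,4,0,0,0,0,0⟩, ⟨0,0,0,0,4,0,4,0⟩]),
  (186, [⟨0,2,2,0,2,0,-2,0⟩, ⟨2,0,-2,0,0,-2,-2,0⟩, ⟨-2,0,0,2,-2,0,-2,0⟩, ⟨2,0,2,0,-2,0,0,2⟩, ⟨-2,0,-2,0,2,0,0,-2⟩, ⟨2,0,0,-2,2,0,2,0⟩, ⟨-2,0,2,0,0,2,2,0⟩, ⟨0,-2,-2,0,-2,0,2,0⟩]),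
  (197, [⟨1,1,1,1,-3,1,-1,-1⟩, ⟨1,1,-3,1,-1,-1,1,1⟩, ⟨1,1,-1,-1,1,1,-3,1⟩, ⟨-3,1,-1,-1,-1,-1,-1,-1⟩, ⟨3,-1,1,1,1,1,1,1⟩, ⟨-1,-1,1,1,-1,-1,3,-1⟩, ⟨-1,-1,3,-1,1,1,-1,-1⟩, ⟨-1,-1,-1,-1,3,-1,1,1⟩]),
  (223, [⟨-1,1,-3,-1,-1,1,1,-1⟩, ⟨3,1,-1,1,1,-1,1,-1⟩, ⟨-1,1,-1,1,3,1,-1,1⟩, ⟨1,-1,-1,1,-1,1,-3,-1⟩, ⟨-1,1,1,-1,1,-1,3,1⟩, ⟨1,-1,1,-1,-3,-1,1,-1⟩, ⟨-3,-1,1,-1,-1,1,-1,1⟩, ⟨1,-1,3,1,1,-1,-1,1⟩]),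
  (234, [⟨0,2,-2,0,-2,0,-2,0⟩, ⟨2,0,0,2,-2,0,2,0⟩, ⟨2,0,2,0,0,2,-2,0⟩, ⟨2,0,-2,0,2,0,0,2⟩, ⟨-2,0,2,0,-2,0,0,-2⟩, ⟨-2,0,-2,0,0,-2,2,0⟩, ⟨-2,0,0,-2,2,0,-2,0⟩, ⟨0,-2,2,0,2,0,2,0⟩]),
  (240, [⟨0,0,-4,0,0,0,-4,0⟩, ⟨4,0,0,0,-4,0,0,0⟩, ⟨-4,0,0,0,-4,0,0,0⟩, ⟨0,0,4,0,0,0,-4,0⟩, ⟨0,0,-4,0,0,0,4,0⟩, ⟨4,0,0,0,4,0,0,0⟩, ⟨-4,0,0,0,4,0,0,0⟩, ⟨0,0,4,0,0,0,4,0⟩])]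

/-- Multiples of `h` of norm sixteen. -/
def singles : List V8 := [⟨2,2,-2,2,-4,0,0,0⟩,
  ⟨2,2,0,0,-2,2,-4,0⟩,
  ⟨2,2,-4,0,0,0,-2,2⟩,
  ⟨-2,2,0,0,-4,0,-2,-2⟩,
  ⟨-2,2,-4,0,-2,-2,0,0⟩,
  ⟨-2,2,-2,-2,0,0,-4,0⟩,
  ⟨2,2,0,0,2,-2,-4,0⟩,
  ⟨4,0,-4,0,-4,0,-4,0⟩,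
  ⟨2,2,-4,0,0,0,2,-2⟩,
  ⟨2,2,2,-2,-4,0,0,0⟩,
  ⟨-2,2,2,2,0,0,-4,0⟩,
  ⟨-2,2,-4,0,2,2,0,0⟩,
  ⟨-4,0,-4,0,-4,0,-4,0⟩,
  ⟨-2,2,0,0,-4,0,2,2⟩,
  ⟨2,2,-2,2,4,0,0,0⟩,
  ⟨0,0,-2,2,-2,-2,-4,0⟩,
  ⟨0,0,0,0,0,0,-8,0⟩,
  ⟨2,2,4,0,0,0,-2,2⟩,
  ⟨-2,2,0,0,4,0,-2,-2⟩,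
  ⟨0,0,-4,0,-2,2,-2,-2⟩,
  ⟨0,0,-8,0,0,0,0,0⟩,
  ⟨2,2,0,0,-2,2,4,0⟩,
  ⟨-2,2,4,0,-2,-2,0,0⟩,
  ⟨0,0,0,0,-8,0,0,0⟩,
  ⟨0,0,-2,-2,-4,0,-2,2⟩,
  ⟨-2,2,-2,-2,0,0,4,0⟩,
  ⟨4,0,-2,2,0,0,-2,-2⟩,
  ⟨4,0,-4,0,4,0,-4,0⟩,
  ⟨4,0,4,0,-4,0,-4,0⟩,
  ⟨4,0,0,0,-2,-2,-2,2⟩,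
  ⟨0,0,-4,0,2,-2,-2,-2⟩,
  ⟨2,2,4,0,0,0,2,-2⟩,
  ⟨2,2,0,0,2,-2,4,0⟩,
  ⟨2,2,2,-2,4,0,0,0⟩,
  ⟨4,0,-4,0,-4,0,4,0⟩,
  ⟨4,0,-2,-2,-2,2,0,0⟩,
  ⟨0,0,2,-2,-2,-2,-4,0⟩,
  ⟨0,0,-2,-2,-4,0,2,-2⟩,
  ⟨0,0,-2,2,2,2,-4,0⟩,
  ⟨0,0,2,2,-4,0,-2,2⟩,
  ⟨-4,0,-2,2,0,0,-2,-2⟩,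
  ⟨-2,2,2,2,0,0,4,0⟩,
  ⟨-4,0,-4,0,4,0,-4,0⟩,
  ⟨-2,2,4,0,2,2,0,0⟩,
  ⟨-2,2,0,0,4,0,2,2⟩,
  ⟨-4,0,4,0,-4,0,-4,0⟩,
  ⟨0,0,-4,0,-2,2,2,2⟩,
  ⟨-4,0,0,0,-2,-2,-2,2⟩,
  ⟨-4,0,-4,0,-4,0,4,0⟩,
  ⟨-4,0,-2,-2,-2,2,0,0⟩,
  ⟨8,0,0,0,0,0,0,0⟩,
  ⟨4,0,0,0,-2,-2,2,-2⟩,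
  ⟨4,0,2,-2,0,0,-2,-2⟩,
  ⟨4,0,-2,-2,2,-2,0,0⟩,
  ⟨4,0,2,2,-2,2,0,0⟩,
  ⟨4,0,-2,2,0,0,2,2⟩,
  ⟨4,0,0,0,2,2,-2,2⟩,
  ⟨0,0,2,2,-4,0,2,-2⟩,
  ⟨0,0,-2,2,-2,-2,4,0⟩,
  ⟨0,0,4,0,-2,2,-2,-2⟩,
  ⟨0,0,-4,0,2,-2,2,2⟩,
  ⟨0,0,2,-2,2,2,-4,0⟩,
  ⟨0,0,-2,-2,4,0,-2,2⟩,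
  ⟨-4,0,0,0,-2,-2,2,-2⟩,
  ⟨-4,0,2,-2,0,0,-2,-2⟩,
  ⟨-4,0,-2,-2,2,-2,0,0⟩,
  ⟨-4,0,2,2,-2,2,0,0⟩,
  ⟨-4,0,-2,2,0,0,2,2⟩,
  ⟨-4,0,0,0,2,2,-2,2⟩,
  ⟨-8,0,0,0,0,0,0,0⟩,
  ⟨4,0,2,2,2,-2,0,0⟩,
  ⟨4,0,4,0,4,0,-4,0⟩,
  ⟨4,0,0,0,2,2,2,-2⟩,
  ⟨0,0,4,0,2,-2,-2,-2⟩,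
  ⟨4,0,-4,0,4,0,4,0⟩,
  ⟨2,-2,0,0,-4,0,-2,-2⟩,
  ⟨2,-2,-4,0,-2,-2,0,0⟩,
  ⟨4,0,4,0,-4,0,4,0⟩,
  ⟨2,-2,-2,-2,0,0,-4,0⟩,
  ⟨4,0,2,-2,0,0,2,2⟩,
  ⟨0,0,-2,-2,4,0,2,-2⟩,
  ⟨0,0,2,-2,-2,-2,4,0⟩,
  ⟨0,0,2,2,4,0,-2,2⟩,
  ⟨0,0,-2,2,2,2,4,0⟩,
  ⟨-4,0,2,2,2,-2,0,0⟩,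
  ⟨-4,0,4,0,4,0,-4,0⟩,
  ⟨-2,-2,-2,2,-4,0,0,0⟩,
  ⟨-2,-2,0,0,-2,2,-4,0⟩,
  ⟨-2,-2,-4,0,0,0,-2,2⟩,
  ⟨0,0,4,0,-2,2,2,2⟩,
  ⟨-4,0,0,0,2,2,2,-2⟩,
  ⟨-4,0,-4,0,4,0,4,0⟩,
  ⟨-4,0,4,0,-4,0,4,0⟩,
  ⟨-4,0,2,-2,0,0,2,2⟩,
  ⟨2,-2,2,2,0,0,-4,0⟩,
  ⟨0,0,2,2,4,0,2,-2⟩,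
  ⟨0,0,0,0,8,0,0,0⟩,
  ⟨2,-2,-4,0,2,2,0,0⟩,
  ⟨-2,-2,0,0,2,-2,-4,0⟩,
  ⟨0,0,8,0,0,0,0,0⟩,
  ⟨0,0,4,0,2,-2,2,2⟩,
  ⟨2,-2,0,0,-4,0,2,2⟩,
  ⟨-2,-2,-4,0,0,0,2,-2⟩,
  ⟨0,0,0,0,0,0,8,0⟩,
  ⟨0,0,2,-2,2,2,4,0⟩,
  ⟨-2,-2,2,-2,-4,0,0,0⟩,
  ⟨2,-2,0,0,4,0,-2,-2⟩,
  ⟨4,0,4,0,4,0,4,0⟩,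
  ⟨2,-2,4,0,-2,-2,0,0⟩,
  ⟨2,-2,-2,-2,0,0,4,0⟩,
  ⟨-2,-2,-2,2,4,0,0,0⟩,
  ⟨-2,-2,4,0,0,0,-2,2⟩,
  ⟨-4,0,4,0,4,0,4,0⟩,
  ⟨-2,-2,0,0,-2,2,4,0⟩,
  ⟨2,-2,2,2,0,0,4,0⟩,
  ⟨2,-2,4,0,2,2,0,0⟩,
  ⟨2,-2,0,0,4,0,2,2⟩,
  ⟨-2,-2,4,0,0,0,2,-2⟩,
  ⟨-2,-2,0,0,2,-2,4,0⟩,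
  ⟨-2,-2,2,-2,4,0,0,0⟩]

end Cfsg.Agent.HJ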