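import Cfsg.Agent.Lib.HallJanko.SmallData
import Cfsg.Agent.Lib.HallJanko.Lattice

/-!
# Short icosians and the list of candidates for minimal vectors
-/

set_option autoImplicit false

namespace Cfsg.Agent.HJ

open Quaternion Cfsg.Spor V8

/-- A triple of coordinate vectors. -/
structure V3 where
  x : V8
  y : V8
  z : V8
deriving DecidableEq

/-- The quaternion triple. -/
noncomputable def toV (v : V3) : HV := ![toH v.x, toH v.y, toH v.z]

/-- Pairs that can occur in a short icosian. -/
def shortPairs : List (ℤ × ℤ) :=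
  [(-5, -1), (-5, 1), (-4, 0), (-3, -1), (-3, 1), (-2, -2), (-2, 0), (-2, 2), (-1, -1), (-1, 1), (0, -2),
    (0, 0), (0, 2), (1, -1), (1, 1), (2, -2), (2, 0), (2, 2), (3, -1), (3, 1), (4, 0), (5, -1), (5, 1)]

/-- The weight of a pair. -/
def pw (p : ℤ × ℤ) : ℤ := p.1 * p.1 + 5 * (p.2 * p.2)

/-- Test a property on all icosians of weight at most 32. -/
def enumAll (P : V8 → Bool) : Bool :=
  shortPairs.all fun p0 => shortPairs.all fun p1 =>
    !(decide (pw p0 + pw p1 ≤ 32)) || shortPairs.all fun p2 =>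
      !(decide (pw p0 + pw p1 + pw p2 ≤ 32)) || shortPairs.all fun p3 =>
        !(decide (pw p0 + pw p1 + pw p2 + pw p3 ≤ 32)) ||
          !(inI ⟨p0.1, p0.2, p1.1, p1.2, p2.1, p2.2, p3.1, p3.2⟩) ||
            P ⟨p0.1, p0.2, p1.1, p1.2, p2.1, p2.2, p3.1, p3.2⟩

theorem shortPairs_complete : ∀ a ∈ Finset.Icc (-5 : ℤ) 5, ∀ b ∈ Finset.Icc (-2 : ℤ) 2,
    a % 2 = b % 2 → pw (a, b) ≤ 32 → (a, b) ∈ shortPairs := by decide +kernel

theorem mem_shortPairs {a b : ℤ} (hpar : a % 2 = b % 2) (h : pw (a, b) ≤ 32) : (a, b) ∈ shortPairs := by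
  have h' : a * a + 5 * (b * b) ≤ 32 := h
  refine shortPairs_complete a (Finset.mem_Icc.2 ?_) b (Finset.mem_Icc.2 ?_) hpar h
  · constructor <;> nlinarith [mul_self_nonneg b]
  · constructor <;> nlinarith [mul_self_nonneg a]

theorem enumAll_spec {P : V8 → Bool} (h : enumAll P = true) {v : V8} (hI : inI v = true)
    (hw : wt v ≤ 32) : P v = true := by
  obtain ⟨c, hc⟩ := exists_of_inI hI
  obtain ⟨a0, b0, a1, b1, a2, b2, a3, b3⟩ := v
  simp only [fromC, V8.mk.injEq] at hc
  simp only [wt] at hw
  have n0 : 0 ≤ pw (a0, b0) := by simp only [pw]; nlinarith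
  have n1 : 0 ≤ pw (a1, b1) := by simp only [pw]; nlinarith
  have n2 : 0 ≤ pw (a2, b2) := by simp only [pw]; nlinarith
  have n3 : 0 ≤ pw (a3, b3) := by simp only [pw]; nlinarith
  have hw' : pw (a0, b0) + pw (a1, b1) + pw (a2, b2) + pw (a3, b3) ≤ 32 := hw
  have m0 := mem_shortPairs (a := a0) (b := b0) (by omega) (by omega)
  have m1 := mem_shortPairs (a := a1) (b := b1) (by omega) (by omega)
  have m2 := mem_shortPairs (a := a2) (b := b2) (by omega) (by omega)
  have m3 := mem_shortPairs (a := a3) (b := b3) (by omega) (by omega)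
  simp only [enumAll, List.all_eq_true, Bool.or_eq_true, Bool.not_eq_true', decide_eq_false_iff_not] at h
  have h1 := ((h _ m0 _ m1).resolve_left (not_not.2 (by omega))) _ m2
  have h2 := (h1.resolve_left (not_not.2 (by omega))) _ m3
  rcases h2 with (h2 | h2) | h2
  · exact absurd hw' h2
  · rw [hI] at h2; exact absurd h2 (by decide)
  · exact h2

/-- The componentwise parity. -/
def par8 (c : V8) : V8 :=
  ⟨c.a0 % 2, c.b0 % 2, c.a1 % 2, c.b1 % 2, c.a2 % 2, c.b2 % 2, c.a3 % 2, c.b3 % 2⟩

/-- A code for a parity vector. -/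
def code (c : V8) : ℤ :=
  c.a0 + 2 * c.b0 + 4 * c.a1 + 8 * c.b1 + 16 * c.a2 + 32 * c.b2 + 64 * c.a3 + 128 * c.b3

/-- The residue of an icosian modulo `I·h`. -/
def res1 (v : V8) : V8 := par8 (coords (mul v (conj vh)))

/-- The residue of an icosian modulo `I·h̄`. -/
def res2 (v : V8) : V8 := par8 (coords (mul v vh))

/-- Look up a key in an association list. -/
def look {α : Type} : List (ℤ × List α) → ℤ → List α
  | [], _ => []
  | (k, l) :: r, i => bif decide (k = i) then l else look r i

theorem look_mem {α : Type} : ∀ {L : List (ℤ × List α)} {i : ℤ} {e : α}, e ∈ look L i →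
    (i, look L i) ∈ L
  | [], _, _, h => nomatch h
  | (k, l) :: r, i, e, h => by
    by_cases hk : k = i
    · subst hk; simp [look]
    · simp only [look, decide_eq_false hk, cond_false] at h ⊢
      exact List.mem_cons_of_mem _ (look_mem h)

/-- The short icosians of a class with given norm and residue. -/
def itemsAt (s : List Grp) (m n : ℤ) (p : V8) : List V8 :=
  (s.filter fun g => decide (g.n0 = m) && decide (g.n1 = n) && decide (g.par = p)).flatMap Grp.items

/-- The third coordinates completing two given ones. -/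
def thirdOf (s : List Grp) (a b : Grp) : List V8 :=
  itemsAt s (16 - a.n0 - b.n0) (-a.n1 - b.n1) (par8 (add a.par b.par))

/-- Candidates without a zero coordinate. -/
def candFull : List V3 :=
  buckets.flatMap fun k => k.2.flatMap fun a => k.2.flatMap fun b =>
    a.items.flatMap fun x => b.items.flatMap fun y => (thirdOf k.2 a b).map fun z => ⟨x, y, z⟩

/-- Candidate pairs. -/
def candPair : List (V8 × V8) :=
  pairBuckets.flatMap fun b => b.2.flatMap fun x => b.2.map fun y => (x, y)

/-- All candidates. -/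
def cands : List V3 :=
  candFull ++ candPair.map (fun p => ⟨p.1, p.2, zero⟩) ++ candPair.map (fun p => ⟨p.1, zero, p.2⟩) ++
    candPair.map (fun p => ⟨zero, p.1, p.2⟩) ++ singles.map (fun x => ⟨x, zero, zero⟩) ++
    singles.map (fun x => ⟨zero, x, zero⟩) ++ singles.map (fun x => ⟨zero, zero, x⟩)

/-- The test made on every short icosian. -/
def shortTest (v : V8) : Bool :=
  decide (v = zero) ||
    ((decide (nrm v = (4, 0)) || decide (nrm v = (8, 0)) || decide (nrm v = (6, 2)) ||
        decide (nrm v = (6, -2))) &&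
      (look buckets (code (res1 v))).any (fun g => decide (g.n0 = (nrm v).1) &&
        decide (g.n1 = (nrm v).2) && decide (g.par = res2 v) && decide (v ∈ g.items)) &&
      (!(decide (nrm v = (4, 0))) || decide (mul v vh ∈ look pairBuckets (code (res2 (mul v vh))))) &&
      (!(decide (nrm v = (8, 0))) || !(decide (res2 (mul v vh) = zero)) ||
        decide (mul v vh ∈ singles)))

end Cfsg.Agent.HJ
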