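import Cfsg.Agent.Lib.HallJanko.SpectrumTables

/-! Element orders: row 3. -/

set_option autoImplicit false

namespace Cfsg.Agent.HJ

theorem row3_check : rowOK 3 = true := by decide +kernel

end Cfsg.Agent.HJ
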