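import Cfsg.Agent.Lib.HallJanko.Order
import Cfsg.Agent.Lib.HallJanko.SpectrumRow0
import Cfsg.Agent.Lib.HallJanko.SpectrumRow1
import Cfsg.Agent.Lib.HallJanko.SpectrumRow2
import Cfsg.Agent.Lib.HallJanko.SpectrumRow3
import Cfsg.Agent.Lib.HallJanko.SpectrumRow4
import Cfsg.Agent.Lib.HallJanko.SpectrumRow5

/-!
# The element orders of the group on the 315 lines: `1,…,8,10,12,15`
-/

set_option autoImplicit false

namespace Cfsg.Agent.HJ

theorem eq_one_of_fixed_base {g : Equiv.Perm (Fin 315)} (hg : g ∈ P) (e0 : g 0 = 0) (e83 : g 83 = 83)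
    (e93 : g 93 = 93) : g = 1 := by
  have h := allIdx_spec level4_check (g 1).2
  have a1 := k2_inv hg 0 1
  have a2 := k2_inv hg 83 1
  have a3 := k2_inv hg 93 1
  have a4 := k3_inv hg 0 93 1
  have a5 := k3_inv hg 83 93 1
  rw [e0] at a1; rw [e83] at a2; rw [e93] at a3; rw [e0, e93] at a4; rw [e83, e93] at a5
  have v0 : ((0 : Fin 315) : ℕ) = 0 := rfl
  have v1 : ((1 : Fin 315) : ℕ) = 1 := rfl
  have v83 : ((83 : Fin 315) : ℕ) = 83 := rfl
  have v93 : ((93 : Fin 315) : ℕ) = 93 := rfl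
  simp only [v0, v1, v83, v93] at a1 a2 a3 a4 a5
  simp only [a1, a2, a3, a4, a5, decide_true, Bool.and_true, Bool.not_true, Bool.false_or,
    decide_eq_true_eq] at h
  refine eq_one_of_fixed hg fun k => ?_
  fin_cases k
  · exact e0
  · exact Fin.ext h
  · exact e83
  · exact e93

/-- The first return is a period. -/
theorem ret_spec {g : Equiv.Perm (Fin 315)} {f : ℕ → ℕ} (hf : ∀ x : Fin 315, f x = g x) (p : Fin 315) :
    ∀ fuel k, ret f p fuel ((g ^ k) p : Fin 315) (k + 1) ≠ 0 →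
      (g ^ ret f p fuel ((g ^ k) p : Fin 315) (k + 1)) p = p
  | 0, k, h => absurd rfl h
  | fuel + 1, k, h => by
    have e : f ((g ^ k) p : Fin 315) = ((g ^ (k + 1)) p : Fin 315) := by
      rw [hf, pow_succ' g k, Equiv.Perm.mul_apply]
    rw [ret, e] at h ⊢
    by_cases hp : (((g ^ (k + 1)) p : Fin 315) : ℕ) = p
    · rw [if_pos hp]
      exact Fin.ext hp
    · rw [if_neg hp] at h ⊢
      exact ret_spec hf p fuel (k + 1) h

theorem pow_fix_of_dvd {g : Equiv.Perm (Fin 315)} {p : Fin 315} {m n : ℕ} (h : (g ^ m) p = p) (hd : m ∣ n) :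
    (g ^ n) p = p := by
  obtain ⟨c, rfl⟩ := hd
  induction c with
  | zero => simp
  | succ c ih => rw [Nat.mul_succ, pow_add, Equiv.Perm.mul_apply, h, ih]

theorem order_mem_of_good {g : Equiv.Perm (Fin 315)} (hg : g ∈ P) {a b c : ℕ}
    (hf : ∀ x : Fin 315, lk3 a b c x = g x) (h : goodOrder a b c = true) : orderOf g ∈ j2Orders := by
  simp only [goodOrder, decide_eq_true_eq] at h
  set r0 := ret (lk3 a b c) 0 15 0 1
  set r1 := ret (lk3 a b c) 83 15 83 1
  set r2 := ret (lk3 a b c) 93 15 93 1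
  set n := Nat.lcm r0 (Nat.lcm r1 r2)
  have hn : n ≠ 0 := fun h0 => by rw [h0] at h; exact absurd h (by decide)
  have hr : r0 ≠ 0 ∧ r1 ≠ 0 ∧ r2 ≠ 0 := by
    refine ⟨fun e => hn ?_, fun e => hn ?_, fun e => hn ?_⟩ <;> simp [n, e]
  have key : ∀ p : Fin 315, ret (lk3 a b c) p 15 p 1 ≠ 0 → ret (lk3 a b c) p 15 p 1 ∣ n → (g ^ n) p = p := by
    intro p hp hd
    have h1 := ret_spec hf p 15 0
    simp only [pow_zero, Equiv.Perm.one_apply, zero_add] at h1
    exact pow_fix_of_dvd (h1 hp) hd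
  have h1 : g ^ n = 1 := eq_one_of_fixed_base (P.pow_mem hg n)
    (key 0 hr.1 (Nat.dvd_lcm_left _ _))
    (key 83 hr.2.1 ((Nat.dvd_lcm_left _ _).trans (Nat.dvd_lcm_right _ _)))
    (key 93 hr.2.2 ((Nat.dvd_lcm_right _ _).trans (Nat.dvd_lcm_right _ _)))
  have hd := orderOf_dvd_of_pow_eq_one h1
  have hcl : ∀ m ∈ j2Orders, ∀ d : Fin 16, (d : ℕ) ∣ m → (d : ℕ) ∈ j2Orders := by decide
  have hlt : orderOf g < 16 := by
    have := Nat.le_of_dvd (Nat.pos_of_ne_zero hn) hd
    have : ∀ m ∈ j2Orders, m < 16 := by decide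
    have := this n h
    omega
  exact hcl n h ⟨orderOf g, hlt⟩ hd

theorem exists_tab {ws : List (ℕ × List ℕ)} {ts : List ℕ} (hl : ws.length = ts.length)
    (hc : (ws.zip ts).all tabOK = true) {y : ℕ} (hy : y ∈ ws.map Prod.fst) :
    ∃ (i : ℕ) (l : List ℕ), i < ts.length ∧ (y, l) ∈ ws ∧ (∀ k ∈ l, k < 4) ∧
      ∀ x : Fin 315, lk (ts.getD i 0) x = (wP (toWord l) x : ℕ) := by
  obtain ⟨⟨a, l⟩, he, rfl⟩ := List.mem_map.1 hy
  obtain ⟨i, hi, hie⟩ := List.mem_iff_getElem.1 he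
  have hit : i < ts.length := hl ▸ hi
  have hz : i < (ws.zip ts).length := by simp [List.length_zip, hi, hit]
  have h := List.all_eq_true.1 hc _ (List.getElem_mem hz)
  rw [List.getElem_zip, hie, tabOK, Bool.and_eq_true] at h
  obtain ⟨h4, hj⟩ := h
  simp only [List.all_eq_true, decide_eq_true_eq] at h4
  refine ⟨i, l, hit, he, h4, fun x => ?_⟩
  rw [List.getD_eq_getElem _ _ hit, wP_toWord l h4 x]
  exact of_decide_eq_true (allIdx_spec hj x.2)

/-- Every element order is in the list. -/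
theorem order_mem {g : Equiv.Perm (Fin 315)} (hg : g ∈ P) : orderOf g ∈ j2Orders := by
  -- move the image of 0 to a representative
  obtain ⟨k, hk, r, hr, hgr⟩ : ∃ k ∈ P, ∃ r : Fin 315, (r : ℕ) ∈ subReps ∧ (k⁻¹ * g * k) 0 = r := by
    by_cases h0 : g 0 = 0
    · exact ⟨1, one_mem _, 0, by decide, by simpa using h0⟩
    have hc := allIdx_spec sub_cover (g 0).2
    have hy' : (g 0 : ℕ) ≠ 0 := fun e => h0 (Fin.ext e)
    simp only [hy', decide_false, Bool.false_or, List.any_eq_true, decide_eq_true_eq] at hc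
    obtain ⟨⟨b, O, cert⟩, hd, hm⟩ := hc
    have hs := List.all_eq_true.1 sub_check _ hd
    simp only [Bool.and_eq_true, decide_eq_true_eq] at hs
    obtain ⟨⟨hb, hcert⟩, -⟩ := hs
    obtain ⟨w, hw, hf⟩ := cert_spec (root := (⟨b, hb⟩ : Fin 315)) hcert hm
    refine ⟨wP w, wP_mem w, ⟨b, hb⟩, ?_, ?_⟩
    · simp only [subData, List.mem_cons, List.not_mem_nil, or_false, Prod.mk.injEq] at hd
      rcases hd with ⟨rfl, -⟩ | ⟨rfl, -⟩ | ⟨rfl, -⟩ | ⟨rfl, -⟩ | ⟨rfl, -⟩ <;> simp [subReps]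
    · rw [Equiv.Perm.mul_apply, Equiv.Perm.mul_apply, hf 0 (by simp), ← hw]
      exact perm_inv_self _ _
  have ho : orderOf g = orderOf (k⁻¹ * g * k) :=
    (MulAut.conj k⁻¹).orderOf_eq g |>.symm.trans (by rw [MulAut.conj_apply, inv_inv])
  rw [ho]
  have hg' : k⁻¹ * g * k ∈ P := mul_mem (mul_mem (inv_mem hk) hg) hk
  generalize k⁻¹ * g * k = g at hg' hgr ⊢
  obtain ⟨hmap, hlT, hlB, hlC⟩ := sub_reps
  obtain ⟨i, l0, hi, hm0, h40, hT⟩ := exists_tab hlT tabT_check (hmap.symm ▸ hr)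
  have ht0 : wP (toWord l0) 0 = r := Fin.ext (by
    rw [wP_toWord l0 h40 0]
    exact of_decide_eq_true (List.all_eq_true.1 subWords_check _ hm0))
  set t := wP (toWord l0)
  -- the part fixing 0
  have hh : t⁻¹ * g ∈ P := mul_mem (inv_mem (wP_mem _)) hg'
  have hh0 : (t⁻¹ * g) 0 = 0 := by rw [Equiv.Perm.mul_apply, hgr, ← ht0]; exact perm_inv_self _ _
  have hy : ((t⁻¹ * g) 83 : ℕ) ∈ words1.map Prod.fst := by
    have h := allIdx_spec level2_check ((t⁻¹ * g) 83).2
    have e := k2_inv hh 0 83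
    rw [hh0] at e
    simp only [Fin.val_zero] at e
    rw [show ((83 : Fin 315) : ℕ) = 83 from rfl] at e
    simp only [e, decide_true, Bool.not_true, Bool.false_or, decide_eq_true_eq] at h
    exact h
  obtain ⟨i1, l1, hi1, hm1, h41, hB⟩ := exists_tab hlB tabB_check hy
  have hc1 := List.all_eq_true.1 words1_check _ hm1
  simp only [Bool.and_eq_true, List.all_eq_true, decide_eq_true_eq] at hc1
  have hb83 : wP (toWord l1) 83 = (t⁻¹ * g) 83 := Fin.ext ((wP_toWord l1 h41 83).trans hc1.1.2)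
  have hb0 : wP (toWord l1) 0 = 0 := Fin.ext ((wP_toWord l1 h41 0).trans (hc1.2 0 (by simp)))
  set b := wP (toWord l1)
  have hc : b⁻¹ * (t⁻¹ * g) ∈ P := mul_mem (inv_mem (wP_mem _)) hh
  have hc0 : (b⁻¹ * (t⁻¹ * g)) 0 = 0 := by
    rw [Equiv.Perm.mul_apply, hh0]
    conv_lhs => arg 2; rw [← hb0]
    exact perm_inv_self _ _
  have hc83 : (b⁻¹ * (t⁻¹ * g)) 83 = 83 := by
    rw [Equiv.Perm.mul_apply, ← hb83]; exact perm_inv_self _ _
  have hz : ((b⁻¹ * (t⁻¹ * g)) 93 : ℕ) ∈ words2.map Prod.fst := by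
    have h := allIdx_spec level3_check ((b⁻¹ * (t⁻¹ * g)) 93).2
    have a1 := k2_inv hc 0 93
    have a2 := k2_inv hc 83 93
    have a3 := k3_inv hc 0 83 93
    rw [hc0] at a1; rw [hc83] at a2; rw [hc0, hc83] at a3
    have v0 : ((0 : Fin 315) : ℕ) = 0 := rfl
    have v83 : ((83 : Fin 315) : ℕ) = 83 := rfl
    have v93 : ((93 : Fin 315) : ℕ) = 93 := rfl
    simp only [v0, v83, v93] at a1 a2 a3
    simp only [a1, a2, a3, decide_true, Bool.and_true, Bool.not_true, Bool.false_or,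
      decide_eq_true_eq] at h
    exact h
  obtain ⟨i2, l2, hi2, hm2, h42, hC⟩ := exists_tab hlC tabC_check hz
  have hc2 := List.all_eq_true.1 words2_check _ hm2
  simp only [Bool.and_eq_true, List.all_eq_true, decide_eq_true_eq] at hc2
  set c := wP (toWord l2) with hcdef
  have hcg : g = t * b * c := by
    have h1 : c⁻¹ * (b⁻¹ * (t⁻¹ * g)) = 1 := by
      refine eq_one_of_fixed_base (mul_mem (inv_mem (wP_mem _)) hc) ?_ ?_ ?_
      · rw [Equiv.Perm.mul_apply, hc0]
        conv_lhs => arg 2; rw [← (show c 0 = 0 from Fin.ext ((wP_toWord l2 h42 0).trans (hc2.2 0 (by simp))))]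
        exact perm_inv_self _ _
      · rw [Equiv.Perm.mul_apply, hc83]
        conv_lhs => arg 2; rw [← (show c 83 = 83 from Fin.ext ((wP_toWord l2 h42 83).trans (hc2.2 83 (by simp))))]
        exact perm_inv_self _ _
      · rw [Equiv.Perm.mul_apply, show (b⁻¹ * (t⁻¹ * g)) 93 = c 93 from
          (Fin.ext ((wP_toWord l2 h42 93).trans hc2.1.2)).symm]
        exact perm_inv_self _ _
    rw [inv_mul_eq_one] at h1
    rw [h1]; group
  refine order_mem_of_good hg' (a := permT.getD i 0) (b := permB.getD i1 0) (c := permC.getD i2 0) (fun x => ?_) ?_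
  · rw [lk3, hC x, hB, hT, hcg]
    rfl
  · have hrow : rowOK i = true := by
      have hlen : permT.length = 6 := by decide +kernel
      have : i < 6 := hlen ▸ hi
      interval_cases i
      exacts [row0_check, row1_check, row2_check, row3_check, row4_check, row5_check]
    refine List.all_eq_true.1 (List.all_eq_true.1 hrow _ ?_) _ ?_
    · rw [List.getD_eq_getElem _ _ hi1]; exact List.getElem_mem hi1
    · rw [List.getD_eq_getElem _ _ hi2]; exact List.getElem_mem hi2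

end Cfsg.Agent.HJ

namespace Cfsg.Agent.HJ

/-- Words of large orders, with a line in a cycle of that length. -/
def bigWords : List (List ℕ × ℕ × Fin 315) :=
  [([0, 1, 2, 0, 3, 2], 7, 0), ([0, 2, 1, 3], 8, 0), ([0, 2, 3], 10, 1), ([0, 1, 2, 3], 12, 0), ([1, 2, 3], 15, 0)]

/-- Iterates of a word on a point. -/
def awIter (w : List ℕ) : ℕ → ℕ → ℕ
  | 0, x => x
  | m + 1, x => awN w (awIter w m x)

theorem bigWords_check : (bigWords.all fun e => e.1.all (fun k => decide (k < 4)) &&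
    (List.range e.2.1).all (fun m => decide (m = 0) || !decide (awIter e.1 m e.2.2 = e.2.2)) &&
    decide (awIter e.1 e.2.1 0 = 0) && decide (awIter e.1 e.2.1 83 = 83) &&
    decide (awIter e.1 e.2.1 93 = 93)) = true := by decide +kernel

theorem exists_order {n : ℕ} (hn : n ∈ j2Orders) : ∃ g : P, orderOf g = n := by
  obtain ⟨N, hN, hd⟩ : ∃ N ∈ bigWords.map (fun e => e.2.1), n ∣ N := by
    have : ∀ n ∈ j2Orders, ∃ N ∈ bigWords.map (fun e => e.2.1), n ∣ N := by decide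
    exact this n hn
  obtain ⟨⟨w, N', p⟩, he, rfl⟩ := List.mem_map.1 hN
  have h := List.all_eq_true.1 bigWords_check _ he
  simp only [Bool.and_eq_true, List.all_eq_true, decide_eq_true_eq, List.mem_range, Bool.or_eq_true,
    Bool.not_eq_true', decide_eq_false_iff_not] at h
  obtain ⟨⟨⟨⟨h4, hmin⟩, h0⟩, h83⟩, h93⟩ := h
  simp only at hd
  have hpow : ∀ m (x : Fin 315), ((wP (toWord w) ^ m) x : ℕ) = awIter w m x := by
    intro m
    induction m with
    | zero => intro x; rfl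
    | succ m ih =>
      intro x
      rw [pow_succ', Equiv.Perm.mul_apply, wP_toWord w h4, ih]
      rfl
  let g : P := ⟨wP (toWord w), wP_mem _⟩
  have hpos : 0 < N' := by
    rcases Nat.eq_zero_or_pos N' with e | e
    · exfalso
      subst e
      revert he
      simp [bigWords]
    · exact e
  have hg : orderOf g = N' := by
    rw [← Subgroup.orderOf_coe, orderOf_eq_iff hpos]
    refine ⟨eq_one_of_fixed_base (P.pow_mem (wP_mem _) _) (Fin.ext ((hpow _ 0).trans h0))
      (Fin.ext ((hpow _ 83).trans h83)) (Fin.ext ((hpow _ 93).trans h93)), fun m hm hm0 e => ?_⟩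
    refine (hmin m hm).resolve_left hm0.ne' ?_
    rw [← hpow, show wP (toWord w) ^ m = 1 from e]
    rfl
  exact ⟨g ^ (orderOf g / n), orderOf_pow_orderOf_div (orderOf_pos g).ne' (hg ▸ hd)⟩

/-- The element orders. -/
theorem range_orderOf_P : Set.range (orderOf : P → ℕ) = {n | n ∈ [1, 2, 3, 4, 5, 6, 7, 8, 10, 12, 15]} := by
  refine Set.ext fun n => ⟨?_, fun h => exists_order h⟩
  rintro ⟨g, rfl⟩
  rw [← Subgroup.orderOf_coe]
  exact order_mem g.2

/-- The element orders of the Hall–Janko group. -/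
theorem range_orderOf_J2 :
    Set.range (orderOf : Cfsg.Spor.J2 → ℕ) = {n | n ∈ [1, 2, 3, 4, 5, 6, 7, 8, 10, 12, 15]} := by
  rw [← range_orderOf_P]
  ext n
  constructor
  · rintro ⟨g, rfl⟩; exact ⟨isoP g, isoP.orderOf_eq g⟩
  · rintro ⟨g, rfl⟩; exact ⟨isoP.symm g, isoP.symm.orderOf_eq g⟩

end Cfsg.Agent.HJ
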