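import Cfsg.Agent.Lib.HallJanko.SimpleChecks
import Cfsg.Agent.Lib.HallJanko.SpectrumData

/-! Checks for the element orders. -/

set_option autoImplicit false

namespace Cfsg.Agent.HJ

/-- Lookup in a packed table. -/
def lk (t j : ℕ) : ℕ := (t >>> (9 * j)) &&& 511

/-- The permutation given by three tables. -/
def lk3 (a b c j : ℕ) : ℕ := lk a (lk b (lk c j))

/-- The first return to `p`, searched from `x`, counting from `k`. -/
def ret (f : ℕ → ℕ) (p : ℕ) : ℕ → ℕ → ℕ → ℕ
  | 0, _, _ => 0
  | fuel + 1, x, k => if f x = p then k else ret f p fuel (f x) (k + 1)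

/-- The possible orders. -/
def j2Orders : List ℕ := [1, 2, 3, 4, 5, 6, 7, 8, 10, 12, 15]

/-- The test on one product. -/
def goodOrder (a b c : ℕ) : Bool :=
  decide (Nat.lcm (ret (lk3 a b c) 0 15 0 1)
    (Nat.lcm (ret (lk3 a b c) 83 15 83 1) (ret (lk3 a b c) 93 15 93 1)) ∈ j2Orders)

/-- A table agrees with a word. -/
def tabOK (e : (ℕ × List ℕ) × ℕ) : Bool :=
  e.1.2.all (fun k => decide (k < 4)) && allIdx fun j => decide (lk e.2 j = awN e.1.2 j)

/-- The test for the first table. -/
def rowOK (i : ℕ) : Bool := permB.all fun b => permC.all fun c => goodOrder (permT.getD i 0) b c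

theorem sub_reps : (subWords.map Prod.fst = subReps) ∧ subWords.length = permT.length ∧
    words1.length = permB.length ∧ words2.length = permC.length := by decide +kernel

theorem tabT_check : (subWords.zip permT).all tabOK = true := by decide +kernel

theorem subWords_check : (subWords.all fun e => decide (awN e.2 0 = e.1)) = true := by decide +kernel

theorem tabB_check : (words1.zip permB).all tabOK = true := by decide +kernel

theorem tabC_check : (words2.zip permC).all tabOK = true := by decide +kernel

end Cfsg.Agent.HJ
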