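import Cfsg.Agent.Lib.HallJanko.Group
import Cfsg.Agent.Lib.HallJanko.MultChecks

/-!
`2J₂` is a stem extension of `J₂`: two commuting involutions of the line group lift to elements
whose commutator is `-1`.
-/

set_option autoImplicit false
set_option maxRecDepth 20000

namespace Cfsg.Agent.HJ

open Quaternion Cfsg.Spor V8
open scoped commutatorElement

theorem wG_apply_lv : ∀ (l : List ℕ), (∀ k ∈ l, k < 4) → ∀ x : Fin 315,
    ((wG (toWord l) (lv x) : icoLeech) : HV) = toH (uW l x) • rv (wP (toWord l) x) ∧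
      inI (uW l x) = true := by
  intro l
  induction l with
  | nil =>
    intro _ x
    refine ⟨?_, show inI V8.one = true by decide +kernel⟩
    show ((lv x : icoLeech) : HV) = toH V8.one • rv x
    rw [toH_one, one_smul]; rfl
  | cons k l ih =>
    intro hl x
    have hl' : ∀ i ∈ l, i < 4 := fun i hi => hl i (List.mem_cons_of_mem _ hi)
    obtain ⟨e, hI⟩ := ih hl' x
    have hk : k < 4 := hl k List.mem_cons_self
    set c : Fin 4 := ⟨k % 4, Nat.mod_lt _ (by norm_num)⟩ with hc
    have hck : (c : ℕ) = k := Nat.mod_eq_of_lt hk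
    set j := wP (toWord l) x with hj
    have hjv : (j : ℕ) = awN l x := wP_toWord l hl' x
    obtain ⟨-, -, hu, eg⟩ := gen_spec c j
    obtain ⟨hgI, -⟩ := mem_unitsL hu
    have hG : ((G c (lv j) : icoLeech) : HV) = toH (guN c j) • rv (gperm c j) := by
      have hg : giN c < 315 := gi_val c ▸ (gi c).2
      rw [G, R, refl_apply]
      show qrefl (toV (Cfsg.Agent.HJ.rep (gi c))) (toV (Cfsg.Agent.HJ.rep j)) = _
      rw [gi_val, qrefl_toV (rep_ok hg).1 (rep_ok j.2).1 (rep_ok hg).2 (rep_ok j.2).2, eg,
        ← gperm_apply, toV_smulV hgI (rep_ok (gperm c j).2).1]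
      rfl
    have hw : toWord (k :: l) = c :: toWord l := rfl
    obtain ⟨hm, hmI⟩ := toH_mul hI hgI
    have hu' : uW (k :: l) x = V8.mul (uW l x) (guN c j) := by
      show V8.mul (uW l x) (guN k (awN l x)) = _
      rw [← hjv, hck]
    rw [hu', hw]
    refine ⟨?_, hmI⟩
    show ((G c (wG (toWord l) (lv x)) : icoLeech) : HV) =
      toH (V8.mul (uW l x) (guN c j)) • rv (gperm c j)
    rw [map_smul_of_linIso (twoJ2_le_linIso (G_mem c)) (x := lv j) (toH_mem hI) e, hG, smul_smul, hm]

/-- The element of a word. -/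
noncomputable def elW (l : List ℕ) : twoJ2 :=
  ⟨wG (toWord l), closure_range_G_le (wG_mem (toWord l))⟩

theorem wG_append : ∀ a b : List (Fin 4), wG (a ++ b) = wG a * wG b
  | [], b => (one_mul _).symm
  | k :: a, b => by rw [List.cons_append, wG, wG, wG_append a b, mul_assoc]

theorem elW_append (a b : List ℕ) : elW (a ++ b) = elW a * elW b :=
  Subtype.ext (by simp [elW, toWord, List.map_append, wG_append])

theorem phi_elW (l : List ℕ) : phi (elW l) = wP (toWord l) :=
  Equiv.ext fun j => act_eq_of_carries (g := elW l) (carries_wG (toWord l) j)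

theorem negT_mem_commutator : negT ∈ _root_.commutator twoJ2 := by
  have h := word_check
  simp only [Bool.and_eq_true, List.all_eq_true, decide_eq_true_eq, Bool.not_eq_eq_eq_not,
    Bool.not_true, decide_eq_false_iff_not] at h
  obtain ⟨⟨hlt, hperm⟩, hne⟩ := h
  have h1 : ∀ k ∈ wordA ++ wordB, k < 4 := hlt
  have h2 : ∀ k ∈ wordB ++ wordA, k < 4 := fun k hk =>
    hlt k (by simp only [List.mem_append] at hk ⊢; exact hk.symm)
  have hphi : phi (elW (wordA ++ wordB)) = phi (elW (wordB ++ wordA)) := by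
    rw [phi_elW, phi_elW]
    refine Equiv.ext fun x => Fin.ext ?_
    rw [wP_toWord _ h1, wP_toWord _ h2]
    exact beq_iff_eq.1 (allIdx_spec hperm x.2)
  have hc : ⁅elW wordA, elW wordB⁆ ∈ Subgroup.center twoJ2 := by
    rw [← phi_ker, MonoidHom.mem_ker, map_commutatorElement, commutatorElement_eq_one_iff_mul_comm,
      ← map_mul, ← map_mul, ← elW_append, ← elW_append, hphi]
  rcases center_cases hc with e | e
  · exfalso
    rw [commutatorElement_eq_one_iff_mul_comm, ← elW_append, ← elW_append] at e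
    have eg : wG (toWord (wordA ++ wordB)) = wG (toWord (wordB ++ wordA)) := congrArg Subtype.val e
    obtain ⟨e1, i1⟩ := wG_apply_lv _ h1 0
    obtain ⟨e2, i2⟩ := wG_apply_lv _ h2 0
    have hx : wP (toWord (wordA ++ wordB)) 0 = wP (toWord (wordB ++ wordA)) 0 := by
      rw [← phi_elW, ← phi_elW, hphi]
    rw [eg, e2, hx] at e1
    refine hne (toH_injective ?_)
    set v := rv (wP (toWord (wordB ++ wordA)) 0) with hv
    obtain ⟨t, ht⟩ := Function.ne_iff.1 (rv_ne_zero (wP (toWord (wordB ++ wordA)) 0))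
    have := congrFun e1 t
    simp only [Pi.smul_apply, smul_eq_mul] at this
    exact (mul_right_cancel₀ ht this).symm
  · rw [← e]
    exact Subgroup.commutator_mem_commutator (Subgroup.mem_top _) (Subgroup.mem_top _)

theorem isStem_twoJ2 : Cfsg.IsStemExtension (QuotientGroup.mk' (Subgroup.center twoJ2)) := by
  refine ⟨QuotientGroup.mk'_surjective _, (QuotientGroup.ker_mk' _).le, ?_⟩
  rw [QuotientGroup.ker_mk']
  intro z hz
  rcases center_cases hz with rfl | rfl
  exacts [one_mem _, negT_mem_commutator]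

theorem finite_twoJ2 : Finite twoJ2 := Nat.finite_of_card_ne_zero (by
  rw [card_twoJ2]
  exact Nat.mul_ne_zero Nat.card_pos.ne' two_ne_zero)

end Cfsg.Agent.HJ
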