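import Cfsg.Agent.Lib.HallJanko.HundredPack
import Cfsg.Agent.Lib.HallJanko.SylowData
import Cfsg.Agent.Lib.Mathieu.ListGroup
import Cfsg.Agent.Lib.Mathieu.FusionSimple
import Cfsg.Agent.Lib.Fusion.SimpleTop

/-!
The 2-fusion system of the Hall–Janko group is simple: certificates for a Sylow 2-subgroup `S`
with centre `⟨z⟩`, its normaliser `⟨S, h⟩`, the centric `R` of order 32 with `h` a product of two
2-elements normalising `R`, and closure of `z` in `S` under conjugation.
-/

set_option autoImplicit false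
set_option maxRecDepth 20000
set_option maxHeartbeats 1000000

namespace Cfsg.Agent.HJ

open Cfsg Cfsg.FusionSystem Cfsg.Agent.Mathieu

/-- The Sylow 2-subgroup. -/
def SJ : Subgroup (Equiv.Perm (Fin 100)) := genGroup enc100 sGens

/-- The extraspecial subgroup. -/
def RJ : Subgroup (Equiv.Perm (Fin 100)) := genGroup enc100 rGens

/-- The normaliser of `SJ`. -/
def UJ : Subgroup (Equiv.Perm (Fin 100)) := genGroup enc100 (sGens ++ [hJ])

/-- The elements of `SJ`. -/
def eS : List ℕ := slpList sGens sSteps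

/-- The elements of `RJ`. -/
def eR : List ℕ := slpList rGens rSteps

/-- The elements of `UJ`. -/
def eU : List ℕ := slpList (sGens ++ [hJ]) uSteps

/-- Elements known to be in the group. -/
def knownJ : List ℕ := gens100 ++ slpJ.map fun s => s.1

theorem knownJ_check : (slpOK 100 gens100 slpJ &&
    (sGens ++ rGens ++ [zJ, hJ, aJ, bJ]).all fun g => knownJ.contains g) = true := by
  decide +kernel

theorem groups_check : (listGroupOK 100 sGens sSteps && listGroupOK 100 rGens rSteps &&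
    listGroupOK 100 (sGens ++ [hJ]) uSteps && distinctList 100 eS &&
    (eS.length == 128)) = true := by decide +kernel

theorem inS_check : (eS.contains zJ && !isId 100 zJ && eR.contains zJ &&
    (rGens.all fun g => eS.contains g) && sGens.all (fun p => commP 100 zJ p) &&
    (eS.all fun l => !(sGens.all fun p => commP 100 l p) || isId 100 l || samePack 100 zJ l) &&
    eR.all fun ρ => rGens.all fun r =>
      commP 100 ρ r || samePack 100 (packMulS 100 ρ r) (packMulS 100 (packMulS 100 r zJ) ρ)) = true := by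
  decide +kernel

theorem conj_check : ((sGens.all fun s => rGens.all fun r => !conjOut 100 eR s r) &&
    (rGens.all fun r => !conjOut 100 eR aJ r && !conjOut 100 eR bJ r) &&
    (sGens.all fun s => !conjOut 100 eS hJ s) &&
    isId 100 (packPow 100 aJ 8) && isId 100 (packPow 100 bJ 8) &&
    samePack 100 (packMulS 100 aJ bJ) hJ) = true := by decide +kernel

theorem close_check : (closeStepsOK 100 knownJ eS [zJ] closeJ &&
    sGens.all fun p => ([zJ] ++ closeJ.map fun s => s.1).contains p) = true := by decide +kernel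

/-- Leaf test of the normaliser search. -/
def leafU (l : ℕ) : Bool :=
  !commP 100 l zJ || eU.contains l || sGens.any fun p => conjOut 100 eS l p

theorem searchU : searchOK 100 zJ leafU levels100 (packId 100) [] eS = true := by decide +kernel

/-- Leaf test of the centraliser search. -/
def leafR (l : ℕ) : Bool :=
  !commP 100 l zJ || eR.contains l || rGens.any fun r =>
    !commP 100 l r && !samePack 100 (packMulS 100 l r) (packMulS 100 (packMulS 100 r zJ) l)

theorem searchR : searchOK 100 zJ leafR levels100 (packId 100) [] eR = true := by decide +kernel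

theorem knownJ_mem {l : ℕ} (hl : knownJ.contains l = true) : ∃ σ ∈ Q100, Rep enc100 σ l := by
  have h := knownJ_check
  simp only [Bool.and_eq_true] at h
  rw [← genGroup_eq]
  refine rep_of_slp gens100 slpJ (fun l hl => ?_) h.1 l
    (List.mem_append.1 (List.contains_iff_mem.1 hl))
  obtain ⟨σ, hσ⟩ := exists_rep (e := enc100) (List.all_eq_true.1 gens100_perm l hl)
  exact ⟨σ, Subgroup.subset_closure ⟨l, hl, hσ⟩, hσ⟩

theorem used_mem {l : ℕ} (hl : l ∈ sGens ++ rGens ++ [zJ, hJ, aJ, bJ]) :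
    ∃ σ ∈ Q100, Rep enc100 σ l := by
  have h := knownJ_check
  simp only [Bool.and_eq_true] at h
  exact knownJ_mem (List.all_eq_true.1 h.2 l hl)

theorem mem_SJ {σ : Equiv.Perm (Fin 100)} : σ ∈ SJ ↔ ∃ l ∈ eS, Rep enc100 σ l := by
  have h := groups_check
  simp only [Bool.and_eq_true] at h
  exact mem_genGroup_iff (by norm_num) h.1.1.1.1

theorem mem_RJ {σ : Equiv.Perm (Fin 100)} : σ ∈ RJ ↔ ∃ l ∈ eR, Rep enc100 σ l := by
  have h := groups_check
  simp only [Bool.and_eq_true] at h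
  exact mem_genGroup_iff (by norm_num) h.1.1.1.2

theorem mem_UJ {σ : Equiv.Perm (Fin 100)} : σ ∈ UJ ↔ ∃ l ∈ eU, Rep enc100 σ l := by
  have h := groups_check
  simp only [Bool.and_eq_true] at h
  exact mem_genGroup_iff (by norm_num) h.1.1.2

theorem card_SJ : Nat.card SJ = 128 := by
  have h := groups_check
  simp only [Bool.and_eq_true, beq_iff_eq] at h
  exact (card_genGroup_of_list (by norm_num) h.1.1.1.1 h.1.2).trans h.2

theorem SJ_le : SJ ≤ Q100 := genGroup_le fun σ l hl hσ => by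
  obtain ⟨τ, hτ, hτr⟩ := used_mem (List.mem_append_left _ (List.mem_append_left rGens hl))
  exact hσ.unique hτr ▸ hτ

theorem rGens_in_SJ {r : ℕ} (hr : r ∈ rGens) : r ∈ eS := by
  have h := inS_check
  simp only [Bool.and_eq_true, List.all_eq_true, List.contains_iff_mem] at h
  exact h.1.1.1.2 r hr

theorem RJ_le : RJ ≤ SJ := genGroup_le fun _ l hl hσ => mem_SJ.2 ⟨l, rGens_in_SJ hl, hσ⟩

theorem center_SJ : ∃ ζ : Equiv.Perm (Fin 100), Rep enc100 ζ zJ ∧ ζ ∈ SJ ∧ ζ ∈ RJ ∧ ζ ≠ 1 ∧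
    (∀ τ ∈ SJ, ζ * τ = τ * ζ) ∧
    ∀ σ ∈ SJ, (∀ τ ∈ SJ, σ * τ = τ * σ) → σ = 1 ∨ σ = ζ := by
  have h := inS_check
  simp only [Bool.and_eq_true, List.contains_iff_mem, Bool.not_eq_eq_eq_not, Bool.not_true] at h
  obtain ⟨⟨⟨⟨⟨⟨hzS, hz1⟩, hzR⟩, -⟩, hzc⟩, hall⟩, -⟩ := h
  obtain ⟨ζ, -, hζ⟩ := used_mem (l := zJ) (by simp)
  refine ⟨ζ, hζ, mem_SJ.2 ⟨zJ, hzS, hζ⟩, mem_RJ.2 ⟨zJ, hzR, hζ⟩, fun h1 => ?_,
    comm_genGroup hζ hzc, fun σ hσ hcomm => ?_⟩
  · subst h1; rw [isId_of_rep_one hζ] at hz1; exact Bool.noConfusion hz1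
  · obtain ⟨l, hl, hσl⟩ := mem_SJ.1 hσ
    have hgen : sGens.all (fun p => commP 100 l p) = true := List.all_eq_true.2 fun p hp => by
      obtain ⟨π, -, hπ⟩ := used_mem (List.mem_append_left _ (List.mem_append_left rGens hp))
      exact (commP_iff hσl hπ).2 (hcomm π (Subgroup.subset_closure ⟨p, hp, hπ⟩))
    have h := List.all_eq_true.1 hall l hl
    simp only [hgen, Bool.not_true, Bool.false_or, Bool.or_eq_true] at h
    rcases h with h | h
    · exact Or.inl (hσl.eq_one h)
    · exact Or.inr ((hζ.of_same h).unique hσl).symm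

theorem normalizer_SJ {g : Equiv.Perm (Fin 100)} (hg : g ∈ Q100)
    (hgN : ∀ x, x ∈ SJ ↔ g * x * g⁻¹ ∈ SJ) : g ∈ UJ := by
  obtain ⟨ζ, hζ, hζS, -, hζ1, hζc, huniq⟩ := center_SJ
  have hcz : ∀ k : Equiv.Perm (Fin 100), (∀ x, x ∈ SJ ↔ k * x * k⁻¹ ∈ SJ) → k * ζ = ζ * k := by
    intro k hk
    rcases huniq _ ((hk ζ).1 hζS) (fun τ hτ => by
      have h1 : k⁻¹ * τ * k ∈ SJ := (hk _).2 (by simpa [mul_assoc] using hτ)
      have h2 := congrArg (fun x => k * x * k⁻¹) (hζc _ h1)
      simpa [mul_assoc] using h2) with h | h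
    · exact absurd (conj_eq_one_iff.1 h) hζ1
    · exact mul_inv_eq_iff_eq_mul.1 h
  have hSU : SJ ≤ UJ := Subgroup.closure_mono fun σ ⟨l, hl, hσ⟩ => ⟨l, List.mem_append_left _ hl, hσ⟩
  refine search_good (H := Q100) (S := SJ)
    (N := fun k => k ∈ Q100 ∧ ∀ x, x ∈ SJ ↔ k * x * k⁻¹ ∈ SJ) (Good := fun k => k ∈ UJ)
    (fun k hk => hk.1)
    (fun s hs k hk => ⟨Q100.mul_mem (SJ_le hs) hk.1, fun x => ?_⟩) hζ (fun k hk => hcz k hk.2)
    (fun s hs k _ h => (UJ.mul_mem_cancel_left (hSU hs)).1 h)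
    (P := leafU) ?_ levels100 [] Q100 (packId 100) 1 eS (by simp) (fun σ hσ _ => hσ) stab100.ok
    stab100.reps stab100.upper stab100.bot (rep_packId (by norm_num)) Q100.one_mem (by simp) ?_
    searchU g ⟨hg, hgN⟩ (by simp)
  · have e1 : s * k * x * (s * k)⁻¹ = s * (k * x * k⁻¹) * s⁻¹ := by group
    rw [hk.2 x, e1, SJ.mul_mem_cancel_right (SJ.inv_mem hs), SJ.mul_mem_cancel_left hs]
  · intro k l hk hkl hleaf
    simp only [leafU, Bool.or_eq_true, Bool.not_eq_eq_eq_not, Bool.not_true, List.any_eq_true,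
      List.contains_iff_mem] at hleaf
    rcases hleaf with (h | h) | ⟨p, hp, h⟩
    · rw [(commP_iff hkl hζ).2 (hcz k hk.2)] at h; exact Bool.noConfusion h
    · exact mem_UJ.2 ⟨l, h, hkl⟩
    · obtain ⟨π, -, hπ⟩ := used_mem (List.mem_append_left _ (List.mem_append_left rGens hp))
      rw [conjOut_false hkl hπ (mem_SJ.1 ((hk.2 π).1 (Subgroup.subset_closure ⟨p, hp, hπ⟩)))] at h
      exact Bool.noConfusion h
  · intro x hx
    obtain ⟨s, hs, hsx⟩ : ∃ s ∈ SJ, Rep enc100 s x := by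
      have h := groups_check
      simp only [Bool.and_eq_true] at h
      exact slpList_mem h.1.1.1.1 hx
    exact ⟨s, hs, hsx, by simp⟩

theorem inner_RJ {ζ : Equiv.Perm (Fin 100)} (hζ : Rep enc100 ζ zJ) {ρ : Equiv.Perm (Fin 100)}
    (hρ : ρ ∈ RJ) {r : ℕ} (hr : r ∈ rGens) {π : Equiv.Perm (Fin 100)} (hπ : Rep enc100 π r) :
    ρ * π = π * ρ ∨ ρ * π = π * ζ * ρ := by
  obtain ⟨l, hl, hρl⟩ := mem_RJ.1 hρ
  have h := inS_check
  simp only [Bool.and_eq_true, List.all_eq_true, Bool.or_eq_true] at h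
  rcases h.2 l hl r hr with h' | h'
  · exact Or.inl ((commP_iff hρl hπ).1 h')
  · rw [packMulS_eq, packMulS_eq, packMulS_eq] at h'
    exact Or.inr (((rep_packMul hρl hπ).of_same h').unique (rep_packMul (rep_packMul hπ hζ) hρl))

theorem centralizer_RJ {g : Equiv.Perm (Fin 100)} (hg : g ∈ Q100)
    (hgC : ∀ x ∈ RJ, g * x = x * g) : g ∈ RJ := by
  obtain ⟨ζ, hζ, -, hζR, hζ1, hζc, -⟩ := center_SJ
  refine search_sound (H := Q100) (S := RJ)
    (N := fun k => k ∈ Q100 ∧ k * ζ = ζ * k ∧ ∀ r ∈ rGens, ∀ π, Rep enc100 π r →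
      k * π = π * k ∨ k * π = π * ζ * k)
    (fun k hk => hk.1) ?_ hζ (fun k hk => hk.2.1) (P := leafR) ?_ levels100 [] Q100 (packId 100) 1 eR
    (by simp) (fun σ hσ _ => hσ) stab100.ok stab100.reps stab100.upper stab100.bot
    (rep_packId (by norm_num)) Q100.one_mem (by simp) ?_ searchR g
    ⟨hg, hgC ζ hζR, fun r hr π hπ => Or.inl (hgC π (Subgroup.subset_closure ⟨r, hr, hπ⟩))⟩ (by simp)
  · intro s hs k hk
    have hsζ : s * ζ = ζ * s := (hζc s (RJ_le hs)).symm
    refine ⟨Q100.mul_mem (SJ_le (RJ_le hs)) hk.1, ?_, fun r hr π hπ => ?_⟩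
    · rw [mul_assoc, hk.2.1, ← mul_assoc, hsζ, mul_assoc]
    · have hζ2 : ∀ x, ζ * (ζ * x) = x := by
        have hsq : ζ * ζ = 1 := by
          have := (rep_packMul hζ hζ).eq_one (show isId 100 (packMul 100 zJ zJ) = true by decide +kernel)
          exact this
        intro x; rw [← mul_assoc, hsq, one_mul]
      have hπζ : π * ζ = ζ * π :=
        (hζc π (RJ_le (Subgroup.subset_closure ⟨r, hr, hπ⟩))).symm
      rcases hk.2.2 r hr π hπ with h1 | h1 <;> rcases inner_RJ hζ hs hr hπ with h2 | h2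
      · exact Or.inl (by rw [mul_assoc, h1, ← mul_assoc, h2, mul_assoc])
      · exact Or.inr (by rw [mul_assoc, h1, ← mul_assoc, h2]; group)
      · refine Or.inr ?_
        rw [mul_assoc, h1]
        calc s * (π * ζ * k) = s * π * ζ * k := by group
          _ = π * s * ζ * k := by rw [h2]
          _ = π * (s * ζ) * k := by group
          _ = π * (ζ * s) * k := by rw [hsζ]
          _ = π * ζ * (s * k) := by group
      · refine Or.inl ?_
        rw [mul_assoc, h1]
        calc s * (π * ζ * k) = s * π * ζ * k := by group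
          _ = π * ζ * s * ζ * k := by rw [h2]
          _ = π * ζ * (s * ζ) * k := by group
          _ = π * ζ * (ζ * s) * k := by rw [hsζ]
          _ = π * (ζ * (ζ * (s * k))) := by group
          _ = π * (s * k) := by rw [hζ2]
  · intro k l hk hkl hleaf
    simp only [leafR, Bool.or_eq_true, Bool.not_eq_eq_eq_not, Bool.not_true, List.any_eq_true,
      List.contains_iff_mem, Bool.and_eq_true] at hleaf
    rcases hleaf with (h | h) | ⟨r, hr, hc, hs⟩
    · rw [(commP_iff hkl hζ).2 hk.2.1] at h; exact Bool.noConfusion h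
    · exact mem_RJ.2 ⟨l, h, hkl⟩
    · obtain ⟨π, -, hπ⟩ := used_mem (List.mem_append_left _ (List.mem_append_right sGens hr))
      exfalso
      rcases hk.2.2 r hr π hπ with h1 | h1
      · rw [(commP_iff hkl hπ).2 h1] at hc; exact Bool.noConfusion hc
      · rw [packMulS_eq, packMulS_eq, packMulS_eq] at hs
        rw [(rep_packMul hkl hπ).same (h1 ▸ rep_packMul (rep_packMul hπ hζ) hkl)] at hs
        exact Bool.noConfusion hs
  · intro x hx
    obtain ⟨s, hs, hsx⟩ : ∃ s ∈ RJ, Rep enc100 s x := by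
      have h := groups_check
      simp only [Bool.and_eq_true] at h
      exact slpList_mem h.1.1.1.2 hx
    exact ⟨s, hs, hsx, by simp⟩

theorem conj_gens_mem {E gens : List ℕ} {K : Subgroup (Equiv.Perm (Fin 100))}
    (hK : K = genGroup enc100 gens) (hE : ∀ σ, σ ∈ K ↔ ∃ l ∈ E, Rep enc100 σ l)
    {κ : Equiv.Perm (Fin 100)} {l : ℕ} (hl : Rep enc100 κ l)
    (h : ∀ p ∈ gens, conjOut 100 E l p = false) : ∀ x, x ∈ K ↔ κ * x * κ⁻¹ ∈ K := by
  have hle : K.map (MulAut.conj κ).toMonoidHom ≤ K := by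
    rw [Subgroup.map_le_iff_le_comap]
    refine hK.le.trans (genGroup_le fun π p hp hπ => ?_)
    have hc := h p hp
    simp only [conjOut, List.all_eq_false, Bool.not_eq_true, List.any_eq_false, List.mem_range,
      Bool.not_eq_eq_eq_not, Bool.not_true, beq_eq_false_iff_ne, ne_eq, not_not] at hc
    obtain ⟨q, hq, heq⟩ := hc
    refine (hE _).2 ⟨q, hq, fun a => ?_⟩
    show (enc100 ((κ * π * κ⁻¹) a)).val = _
    obtain ⟨b, rfl⟩ := κ.surjective a
    rw [show (κ * π * κ⁻¹) (κ b) = κ (π b) by simp, hl, hπ, hl b, heq _ (enc100 b).isLt]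
  have heq := Subgroup.eq_of_le_of_card_ge hle
    (by rw [Subgroup.card_map_of_injective (MulAut.conj κ).injective])
  intro x
  conv_rhs => rw [← heq]
  exact ⟨fun hx => ⟨x, hx, rfl⟩, fun ⟨y, hy, hyx⟩ => by
    have : y = x := mul_left_cancel (mul_right_cancel (show κ * y * κ⁻¹ = κ * x * κ⁻¹ from hyx))
    exact this ▸ hy⟩

theorem factorization_two : (604800 : ℕ).factorization 2 = 7 := by
  rw [show (604800 : ℕ) = 2 ^ 7 * 4725 by norm_num, Nat.factorization_mul (by norm_num) (by norm_num),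
    Finsupp.add_apply, Nat.Prime.factorization_pow Nat.prime_two, Finsupp.single_eq_same,
    Nat.factorization_eq_zero_of_not_dvd (by norm_num)]

section Main

variable {G : Type*} [Group G] [Finite G]

theorem fusion_simple_of_image (ι : G →* Equiv.Perm (Fin 100)) (hι : Function.Injective ι)
    (hrange : ι.range = Q100) (P : Sylow 2 G) (hP : ∀ x, x ∈ (P : Subgroup G) ↔ ι x ∈ SJ) :
    (groupFusionSystem (P : Subgroup G)).IsSimple 2 := by
  have hsur : ∀ σ ∈ Q100, ∃ x : G, ι x = σ := fun σ hσ => hrange.ge hσ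
  have hQ : ∀ x : G, ι x ∈ Q100 := fun x => hrange.le ⟨x, rfl⟩
  obtain ⟨ζ, hζ, hζS, -, hζ1, hζc, huniq⟩ := center_SJ
  obtain ⟨z₀, hz₀⟩ := hsur ζ (SJ_le hζS)
  have hne : (P : Subgroup G) ≠ ⊥ := fun h => by
    have hz : z₀ ∈ (P : Subgroup G) := (hP _).2 (hz₀ ▸ hζS)
    rw [h, Subgroup.mem_bot] at hz
    exact hζ1 (by rw [← hz₀, hz, map_one])
  refine Fusion.GroupSimple.isSimple P (Fusion.groupFusionSystem_saturated P) hne ?_ ?_
  · intro T hT
    by_cases hT1 : T = ⊥
    · exact Or.inl hT1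
    refine Or.inr ?_
    obtain ⟨hTS, hTc⟩ := Fusion.stronglyClosed_iff.1 hT
    have hcl : ∀ x ∈ T, ∀ h : G, h * x * h⁻¹ ∈ (P : Subgroup G) → h * x * h⁻¹ ∈ T := by
      intro x hx h hh
      have hle : Subgroup.zpowers x ≤ (P : Subgroup G) := Subgroup.zpowers_le.2 (hTS hx)
      have hφ : conjHom (Subgroup.zpowers x) h ∈
          (groupFusionSystem (P : Subgroup G)).Hom (Subgroup.zpowers x) := by
        refine ⟨hle, ?_, h, fun y => rfl⟩
        rintro ⟨_, m, rfl⟩
        change h * x ^ m * h⁻¹ ∈ (P : Subgroup G)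
        rw [← conj_zpow]
        exact Subgroup.zpow_mem _ hh m
      exact hTc _ _ hφ ⟨x, Subgroup.mem_zpowers x⟩ hx
    have hnormal : (T.subgroupOf (P : Subgroup G)).Normal := ⟨fun x hx s =>
      hcl _ hx s (Subgroup.mul_mem _ (Subgroup.mul_mem _ s.2 x.2) (Subgroup.inv_mem _ s.2))⟩
    have hne' : T.subgroupOf (P : Subgroup G) ≠ ⊥ := by
      intro h
      rw [Subgroup.subgroupOf_eq_bot, disjoint_iff, inf_eq_left.2 hTS] at h
      exact hT1 h
    have hinf := PGroup.inf_center_ne_bot P.isPGroup' _ hne'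
    obtain ⟨x, hx, hx1⟩ := (Subgroup.bot_or_exists_ne_one _).resolve_left hinf
    obtain ⟨hxT, hxZ⟩ := Subgroup.mem_inf.1 hx
    rw [Subgroup.mem_center_iff] at hxZ
    have hxc : ∀ τ ∈ SJ, ι (x : G) * τ = τ * ι (x : G) := fun τ hτ => by
      obtain ⟨s, hs⟩ := hsur τ (SJ_le hτ)
      have h1 := congrArg Subtype.val (hxZ ⟨s, (hP s).2 (hs ▸ hτ)⟩)
      rw [← hs, ← map_mul, ← map_mul]
      exact congrArg ι h1.symm
    rcases huniq _ ((hP _).1 x.2) hxc with h1 | h1
    · exact absurd (Subtype.ext (hι (h1.trans ι.map_one.symm))) hx1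
    refine le_antisymm hTS fun y hy => ?_
    have hST : SJ ≤ T.map ι := by
      have hc := close_check
      simp only [Bool.and_eq_true, List.all_eq_true, List.contains_iff_mem] at hc
      refine genGroup_le fun π p hp hπ => ?_
      obtain ⟨ω, hω, hωp⟩ := closeSteps_sound (H := Q100) (S := SJ) (T := T.map ι)
        (fun g hg => knownJ_mem (List.contains_iff_mem.2 hg))
        (fun l hl => by
          have h := groups_check
          simp only [Bool.and_eq_true] at h
          exact slpList_mem h.1.1.1.1 hl)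
        (by
          rintro _ ⟨a, ha, rfl⟩ h hh hmem
          obtain ⟨k, rfl⟩ := hsur h hh
          refine ⟨k * a * k⁻¹, hcl a ha k ((hP _).2 (by simpa using hmem)), by simp⟩)
        closeJ [zJ] (fun l hl => ⟨ι x, ⟨x, hxT, rfl⟩, by
          rw [List.mem_singleton.1 hl, h1]; exact hζ⟩) hc.1 p (List.mem_append.1 (hc.2 p hp))
      exact hωp.unique hπ ▸ hω
    obtain ⟨t, ht, hty⟩ := hST ((hP y).1 hy)
    exact hι hty ▸ ht
  · set R : Subgroup G := RJ.comap ι with hR
    have hRP : R ≤ (P : Subgroup G) := fun x hx => (hP x).2 (RJ_le hx)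
    have hnormR : ∀ (x : G) (l : ℕ), Rep enc100 (ι x) l → (∀ p ∈ rGens, conjOut 100 eR l p = false) →
        x ∈ Subgroup.normalizer (R : Set G) := fun x l hl h => by
      refine Subgroup.mem_normalizer_iff.2 fun y => ?_
      show ι y ∈ RJ ↔ ι (x * y * x⁻¹) ∈ RJ
      simp only [map_mul, map_inv]
      exact conj_gens_mem (gens := rGens) rfl (fun σ => mem_RJ) hl h (ι y)
    have hnormS : ∀ (x : G) (l : ℕ), Rep enc100 (ι x) l → (∀ p ∈ sGens, conjOut 100 eS l p = false) →
        x ∈ Subgroup.normalizer ((P : Subgroup G) : Set G) := fun x l hl h => by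
      refine Subgroup.mem_normalizer_iff.2 fun y => ?_
      rw [hP, hP, map_mul, map_mul, map_inv]
      exact conj_gens_mem (gens := sGens) rfl (fun σ => mem_SJ) hl h (ι y)
    have hc := conj_check
    simp only [Bool.and_eq_true, List.all_eq_true, Bool.not_eq_eq_eq_not, Bool.not_true] at hc
    obtain ⟨⟨⟨⟨⟨hsR, habR⟩, hhS⟩, ha8⟩, hb8⟩, hab⟩ := hc
    have hPR : (P : Subgroup G) ≤ Subgroup.normalizer (R : Set G) := by
      have hle : SJ ≤ (Subgroup.normalizer (R : Set G)).map ι := genGroup_le fun π p hp hπ => by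
        obtain ⟨τ, hτ, hτr⟩ := used_mem (List.mem_append_left _ (List.mem_append_left rGens hp))
        obtain ⟨x, rfl⟩ := hsur τ hτ
        exact ⟨x, hnormR x p hτr (hsR p hp), hτr.unique hπ⟩
      intro x hx
      obtain ⟨y, hy, hyx⟩ := hle ((hP x).1 hx)
      exact hι hyx ▸ hy
    have hFN : (groupFusionSystem (P : Subgroup G)).IsFullyNormalized R := by
      refine ⟨hRP, fun Q _ => ?_⟩
      rw [show normalizerIn (P : Subgroup G) R = P from inf_eq_left.2 hPR]
      exact Nat.le_of_dvd Nat.card_pos (Subgroup.card_dvd_of_le inf_le_left)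
    have hCR : (groupFusionSystem (P : Subgroup G)).IsCentric R := by
      refine Fusion.SimpleTop.isCentric_of_centralizer_le P hRP fun y hy => ?_
      refine centralizer_RJ (hQ y) fun σ hσ => ?_
      obtain ⟨s, rfl⟩ := hsur σ (SJ_le (RJ_le hσ))
      rw [← map_mul, ← map_mul, Subgroup.mem_centralizer_iff.1 hy s hσ]
    refine le_sup_of_le_left (le_trans ?_ (le_iSup₂_of_le R ⟨hFN, hCR⟩ le_rfl))
    set M := Fusion.GroupSimple.pElts 2 R ⊓ Subgroup.normalizer ((P : Subgroup G) : Set G) with hM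
    have hpow : ∀ (x : G) (l : ℕ), Rep enc100 (ι x) l → isId 100 (packPow 100 l 8) = true →
        ∃ k : ℕ, orderOf x = 2 ^ k := fun x l hl h => by
      have h8 : x ^ (2 ^ 3) = 1 := hι (by
        rw [map_pow, map_one]; exact (rep_packPow (by norm_num) hl 8).eq_one h)
      obtain ⟨k, -, hk⟩ := (Nat.dvd_prime_pow Nat.prime_two).1 (orderOf_dvd_of_pow_eq_one h8)
      exact ⟨k, hk⟩
    have hPM : (P : Subgroup G) ≤ M := fun x hx => by
      refine ⟨Subgroup.subset_closure ⟨hPR hx, ?_⟩, Subgroup.le_normalizer hx⟩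
      obtain ⟨k, hk⟩ := P.isPGroup' ⟨x, hx⟩
      have hxk : x ^ 2 ^ k = 1 := congrArg Subtype.val hk
      obtain ⟨j, -, hj⟩ := (Nat.dvd_prime_pow Nat.prime_two).1 (orderOf_dvd_of_pow_eq_one hxk)
      exact ⟨j, hj⟩
    have hUM : UJ ≤ M.map ι := genGroup_le fun π p hp hπ => by
      rcases List.mem_append.1 hp with hp | hp
      · obtain ⟨x, hx⟩ := hsur π (SJ_le (Subgroup.subset_closure ⟨p, hp, hπ⟩))
        exact ⟨x, hPM ((hP x).2 (hx ▸ Subgroup.subset_closure ⟨p, hp, hπ⟩)), hx⟩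
      · rw [List.mem_singleton] at hp
        subst hp
        obtain ⟨α', hα', hαr⟩ := used_mem (l := aJ) (by simp)
        obtain ⟨β', hβ', hβr⟩ := used_mem (l := bJ) (by simp)
        obtain ⟨a, rfl⟩ := hsur α' hα'
        obtain ⟨b, rfl⟩ := hsur β' hβ'
        rw [packMulS_eq] at hab
        have hh : Rep enc100 (ι (a * b)) hJ := by
          rw [map_mul]; exact (rep_packMul hαr hβr).of_same hab
        exact ⟨a * b, ⟨Subgroup.mul_mem _
          (Subgroup.subset_closure ⟨hnormR a aJ hαr fun p hp => (habR p hp).1, hpow a aJ hαr ha8⟩)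
          (Subgroup.subset_closure ⟨hnormR b bJ hβr fun p hp => (habR p hp).2, hpow b bJ hβr hb8⟩),
          hnormS _ hJ hh hhS⟩, hh.unique hπ⟩
    intro g hg
    obtain ⟨y, hy, hyg⟩ := hUM (normalizer_SJ (hQ g) fun σ => by
      constructor
      · intro hσ
        obtain ⟨s, rfl⟩ := hsur σ (SJ_le hσ)
        rw [← map_inv, ← map_mul, ← map_mul, ← hP]
        exact ((Subgroup.mem_normalizer_iff.1 hg) s).1 ((hP s).2 hσ)
      · intro hσ
        have hσQ : σ ∈ Q100 := by
          have h2 := Q100.mul_mem (Q100.mul_mem (Q100.inv_mem (hQ g)) (SJ_le hσ)) (hQ g)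
          simpa [mul_assoc] using h2
        obtain ⟨s, rfl⟩ := hsur σ hσQ
        rw [← map_inv, ← map_mul, ← map_mul, ← hP] at hσ
        exact (hP s).1 (((Subgroup.mem_normalizer_iff.1 hg) s).2 hσ))
    exact hι hyg ▸ hy

/-- The 2-fusion system of the Hall–Janko group is simple. -/
theorem fusion_simple_J2 (hG : Spor.IsoJ2 G) (S : Sylow 2 G) :
    (groupFusionSystem (S : Subgroup G)).IsSimple 2 := by
  obtain ⟨f⟩ := hG
  let ι₀ : G →* Equiv.Perm (Fin 100) := Q100.subtype.comp (f.trans isoJ2).toMonoidHom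
  have hι₀ : Function.Injective ι₀ := Q100.subtype_injective.comp (f.trans isoJ2).injective
  have hr₀ : ι₀.range = Q100 := by
    ext σ
    constructor
    · rintro ⟨x, rfl⟩; exact ((f.trans isoJ2) x).2
    · intro hσ; exact ⟨(f.trans isoJ2).symm ⟨σ, hσ⟩, by simp [ι₀]⟩
  have hcardG : Nat.card G = 604800 := by
    rw [Nat.card_congr (f.trans isoJ2).toEquiv, card_Q100]
  have hc : Nat.card (SJ.comap ι₀) = 2 ^ (Nat.card G).factorization 2 := by
    rw [hcardG, factorization_two]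
    have : (SJ.comap ι₀).map ι₀ = SJ := Subgroup.map_comap_eq_self (hr₀.symm ▸ SJ_le)
    rw [Nat.card_congr (Subgroup.equivMapOfInjective (SJ.comap ι₀) ι₀ hι₀).toEquiv, this, card_SJ]; norm_num
  obtain ⟨g, hg⟩ := MulAction.exists_smul_eq G (Sylow.ofCard _ hc) S
  let ι : G →* Equiv.Perm (Fin 100) := ι₀.comp (MulAut.conj g⁻¹).toMonoidHom
  refine fusion_simple_of_image ι (hι₀.comp (MulAut.conj g⁻¹).injective) ?_ S fun x => ?_
  · rw [← hr₀]
    ext σ
    constructor
    · rintro ⟨x, rfl⟩; exact ⟨_, rfl⟩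
    · rintro ⟨x, rfl⟩; exact ⟨g * x * g⁻¹, by simp [ι, mul_assoc]⟩
  · rw [← hg, Sylow.coe_subgroup_smul, Subgroup.mem_pointwise_smul_iff_inv_smul_mem]
    show ι₀ (((MulAut.conj g)⁻¹) x) ∈ SJ ↔ ι₀ ((MulAut.conj g⁻¹) x) ∈ SJ
    rw [MulAut.conj_inv_apply, MulAut.conj_apply, inv_inv]

end Main

end Cfsg.Agent.HJ
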